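import Groth.Agent.Lib.BigSite16.LanExact
import Groth.Agent.Lib.CmpSit16.Coho
import Groth.Prelude.Def_CGrpSh2
import Mathlib.CategoryTheory.Sites.EpiMono
import Mathlib.CategoryTheory.Sites.CoverLifting

/-!
# Exactness of the internal Hom of abelian sheaves in both variables; biduality and extensions
-/

set_option autoImplicit false
set_option linter.style.haveILetI false
set_option linter.unusedSectionVars false
set_option maxHeartbeats 1600000
set_option backward.isDefEq.respectTransparency false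
set_option backward.isDefEq.respectTransparency.types false

universe u

open CategoryTheory CategoryTheory.Limits Opposite

noncomputable section

namespace Groth.Agent.GaExt23.DE

variable {C : Type (u + 1)} [Category.{u} C] (J : GrothendieckTopology C)

/-- Restriction of abelian sheaves to the site over an object. -/
abbrev res (T : C) : Sheaf J AddCommGrpCat.{u + 1} ⥤ Sheaf (J.over T) AddCommGrpCat.{u + 1} :=
  J.overPullback AddCommGrpCat.{u + 1} T

instance isRightAdjoint_res (T : C) : (res J T).IsRightAdjoint :=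
  ((Over.forget T).sheafAdjunctionContinuous AddCommGrpCat.{u + 1} (J.over T) J).isRightAdjoint

instance isLeftAdjoint_res (T : C) : (res J T).IsLeftAdjoint :=
  ((Over.forget T).sheafAdjunctionCocontinuous AddCommGrpCat.{u + 1} (J.over T) J).isLeftAdjoint

theorem injective_res [HasPullbacks C] [HasEqualizers C] (T : C) (I : Sheaf J AddCommGrpCat.{u + 1}) [Injective I] :
    Injective ((res J T).obj I) := by
  haveI := BigSite16.preservesFiniteLimits_sheafPullback.{u + 1} (Over.forget T) (J.over T) J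
  exact Injective.injective_of_adjoint
    ((Over.forget T).sheafAdjunctionContinuous AddCommGrpCat.{u + 1} (J.over T) J) I

section Exactness

/-- Exactness sectionwise implies exactness. -/
theorem exact_of_sections {S : ShortComplex (Sheaf J AddCommGrpCat.{u + 1})}
    (h : ∀ (U : C) (x : S.X₂.obj.obj (op U)), S.g.hom.app (op U) x = 0 → ∃ y, S.f.hom.app (op U) y = x) :
    S.Exact := by
  have hp : (S.map (sheafToPresheaf J _)).Exact := by
    rw [ShortComplex.exact_iff_isZero_homology]
    refine Functor.isZero _ fun U => ?_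
    refine IsZero.of_iso ?_ ((S.map (sheafToPresheaf J _)).mapHomologyIso ((evaluation Cᵒᵖ AddCommGrpCat.{u + 1}).obj U)).symm
    rw [← ShortComplex.exact_iff_isZero_homology]
    exact (ShortComplex.ab_exact_iff _).2 (h U.unop)
  refine (ShortComplex.exact_iff_of_iso (S.mapNatIso (sheafificationNatIso J AddCommGrpCat.{u + 1}))).2 ?_
  exact hp.map (presheafToSheaf J AddCommGrpCat.{u + 1})

theorem mono_of_sections {A B : Sheaf J AddCommGrpCat.{u + 1}} (φ : A ⟶ B)
    (h : ∀ U : C, Function.Injective (φ.hom.app (op U))) : Mono φ := by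
  haveI : ∀ U, Mono (φ.hom.app U) := fun U => (AddCommGrpCat.mono_iff_injective _).2 (h U.unop)
  haveI : Mono φ.hom := NatTrans.mono_of_mono_app _
  exact (sheafToPresheaf _ _).mono_of_mono_map this

variable (F : Sheaf J AddCommGrpCat.{u + 1})

instance preservesFiniteLimits_homShFunctor : PreservesFiniteLimits (HomSh.homShFunctor J F) := by
  rw [Functor.preservesFiniteLimits_iff_forall_exact_map_and_mono]
  intro S hS
  haveI := hS.mono_f
  refine ⟨exact_of_sections J fun U φ hφ => ?_, mono_of_sections J _ fun U φ ψ e => ?_⟩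
  · haveI : Mono (S.map (res J U)).f := inferInstanceAs (Mono ((res J U).map S.f))
    have e : (φ : F.over U ⟶ _) ≫ (res J U).map S.g = 0 := by
      have h := hφ
      change (res J U).map (𝟙 F) ≫ φ ≫ (res J U).map S.g = 0 at h
      rwa [CategoryTheory.Functor.map_id, Category.id_comp] at h
    obtain ⟨ψ, hψ⟩ := KernelFork.IsLimit.lift' ((hS.exact.map (res J U)).fIsKernel) φ e
    exact ⟨ψ, by
      show (res J U).map (𝟙 F) ≫ ψ ≫ (res J U).map S.f = φ
      rw [CategoryTheory.Functor.map_id, Category.id_comp]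
      exact hψ⟩
  · change (res J U).map (𝟙 F) ≫ φ ≫ (res J U).map S.f = (res J U).map (𝟙 F) ≫ ψ ≫ (res J U).map S.f at e
    rw [CategoryTheory.Functor.map_id, Category.id_comp, Category.id_comp] at e
    exact (cancel_mono _).1 e

variable (M : Sheaf J AddCommGrpCat.{u + 1}) {S : ShortComplex (Sheaf J AddCommGrpCat.{u + 1})}

/-- The dual of a short complex. -/
abbrev dual (S : ShortComplex (Sheaf J AddCommGrpCat.{u + 1})) : ShortComplex (Sheaf J AddCommGrpCat.{u + 1}) :=
  ShortComplex.mk (HomSh.homShMap J S.g (𝟙 M)) (HomSh.homShMap J S.f (𝟙 M)) (by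
    refine Sheaf.hom_ext (NatTrans.ext (funext fun U => AddCommGrpCat.ext fun φ => ?_))
    show (res J U.unop).map S.f ≫ ((res J U.unop).map S.g ≫ φ ≫ (res J U.unop).map (𝟙 M)) ≫ (res J U.unop).map (𝟙 M) = 0
    rw [Category.assoc, ← Functor.map_comp_assoc, S.zero, Functor.map_zero, zero_comp])

theorem mono_dual_f [Epi S.g] : Mono (dual J M S).f :=
  mono_of_sections J _ fun U φ ψ e => by
    change (res J U).map S.g ≫ φ ≫ (res J U).map (𝟙 M) = (res J U).map S.g ≫ ψ ≫ (res J U).map (𝟙 M) at e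
    rw [CategoryTheory.Functor.map_id, Category.comp_id, Category.comp_id] at e
    exact (cancel_epi _).1 e

theorem exact_dual (hS : S.Exact) [Epi S.g] : (dual J M S).Exact :=
  exact_of_sections J fun U φ hφ => by
    haveI : Epi (S.map (res J U)).g := inferInstanceAs (Epi ((res J U).map S.g))
    have e : (res J U).map S.f ≫ (φ : S.X₂.over U ⟶ M.over U) = 0 := by
      have h := hφ
      change (res J U).map S.f ≫ φ ≫ (res J U).map (𝟙 M) = 0 at h
      rwa [CategoryTheory.Functor.map_id, Category.comp_id] at h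
    obtain ⟨ψ, hψ⟩ := CokernelCofork.IsColimit.desc' ((hS.map (res J U)).gIsCokernel) φ e
    exact ⟨ψ, by
      show (res J U).map S.g ≫ ψ ≫ (res J U).map (𝟙 M) = φ
      rw [CategoryTheory.Functor.map_id, Category.comp_id]
      exact hψ⟩

theorem bidualMap_naturality {A B : Sheaf J AddCommGrpCat.{u + 1}} (f : A ⟶ B) :
    f ≫ HomSh.bidualMap J B M =
      HomSh.bidualMap J A M ≫ HomSh.homShMap J (HomSh.homShMap J f (𝟙 M)) (𝟙 M) := by
  refine Sheaf.hom_ext (NatTrans.ext (funext fun U => AddCommGrpCat.ext fun s => ?_))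
  refine Sheaf.hom_ext (NatTrans.ext (funext fun V => AddCommGrpCat.ext fun φ => ?_))
  show φ.hom.app (op (Over.mk (𝟙 _))) (B.obj.map V.unop.hom.op (f.hom.app U s)) =
    φ.hom.app (op (Over.mk (𝟙 _))) (f.hom.app _ (A.obj.map V.unop.hom.op s))
  exact congrArg _ (ConcreteCategory.congr_hom (f.hom.naturality V.unop.hom.op) s).symm

end Exactness

section Ext

variable [HasPullbacks C] [HasEqualizers C] [EnoughInjectives (Sheaf J AddCommGrpCat.{u + 1})]
  (M : Sheaf J AddCommGrpCat.{u + 1}) {S : ShortComplex (Sheaf J AddCommGrpCat.{u + 1})}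

theorem epi_map_g_of_isZero_rightDerived {A : Type*} [Category A] [Abelian A] [EnoughInjectives A] {B : Type*} [Category B]
    [Abelian B] (G : A ⥤ B) [G.Additive] [PreservesFiniteLimits G] {T : ShortComplex A} (hT : T.ShortExact)
    [Injective T.X₂] {N : A} (e : T.X₁ ≅ N) (h : IsZero ((G.rightDerived 1).obj N)) : Epi (G.map T.g) := by
  obtain ⟨e'⟩ := CmpSit16.nonempty_R1_iso G hT
  exact Preadditive.epi_of_isZero_cokernel _ ((h.of_iso ((G.rightDerived 1).mapIso e)).of_iso e'.symm)

/-- If `𝓔xt¹(S.X₃, M)` vanishes, restriction of characters is an epimorphism. -/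
theorem epi_dual_g (hS : S.ShortExact) (hExt : IsZero ((HomSh.extSh J S.X₃ 1).obj M)) : Epi (dual J M S).g := by
  haveI := hS.mono_f
  haveI := hS.epi_g
  obtain ⟨T₀, hT, hI₀, ⟨e₀⟩⟩ : ∃ T₀ : ShortComplex (Sheaf J AddCommGrpCat.{u + 1}),
      T₀.ShortExact ∧ Injective T₀.X₂ ∧ Nonempty (T₀.X₁ ≅ M) :=
    ⟨ShortComplex.mk (Injective.ι M) (cokernel.π _) (cokernel.condition _),
      ShortComplex.ShortExact.mk' (ShortComplex.exact_cokernel _)
        (inferInstanceAs (Mono (Injective.ι M))) (inferInstanceAs (Epi (cokernel.π _))), inferInstanceAs (Injective (Injective.under M)), ⟨Iso.refl _⟩⟩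
  haveI := hI₀
  haveI := hT.mono_f
  let i : M ⟶ T₀.X₂ := e₀.inv ≫ T₀.f
  let π := T₀.g
  have w : i ≫ π = 0 := by simp [i, π]
  have hI : Epi ((HomSh.homShFunctor J S.X₃).map π) := by
    rw [HomSh.extSh_def] at hExt
    exact epi_map_g_of_isZero_rightDerived (HomSh.homShFunctor J S.X₃) hT e₀ hExt
  have hl : Sheaf.IsLocallySurjective ((HomSh.homShFunctor J S.X₃).map π) :=
    (Sheaf.isLocallySurjective_iff_epi' _ _).2 hI
  rw [← Sheaf.isLocallySurjective_iff_epi' _ _]
  refine ⟨fun {U} φ => ?_⟩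
  haveI := injective_res J U T₀.X₂
  haveI : Mono ((res J U).map S.f) := inferInstance
  let ψ : S.X₂.over U ⟶ T₀.X₂.over U :=
    Injective.factorThru ((φ : S.X₁.over U ⟶ M.over U) ≫ (res J U).map i) ((res J U).map S.f)
  have hψ : (res J U).map S.f ≫ ψ = (φ : S.X₁.over U ⟶ M.over U) ≫ (res J U).map i := Injective.comp_factorThru _ _
  haveI : Epi (S.map (res J U)).g := inferInstanceAs (Epi ((res J U).map S.g))
  have hk : (res J U).map S.f ≫ ψ ≫ (res J U).map π = 0 := by
    rw [← Category.assoc, hψ, Category.assoc, ← (res J U).map_comp, w, Functor.map_zero, comp_zero]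
  obtain ⟨χ, hχ⟩ := CokernelCofork.IsColimit.desc' ((hS.exact.map (res J U)).gIsCokernel) _ hk
  change (res J U).map S.g ≫ χ = ψ ≫ (res J U).map π at hχ
  refine J.superset_covering (fun V v hv => ?_) (Presheaf.imageSieve_mem J ((HomSh.homShFunctor J S.X₃).map π).hom (U := op U) χ)
  obtain ⟨χ', hχ'⟩ := hv
  let r := (J.overMapPullback AddCommGrpCat.{u + 1} v)
  change (res J V).map (𝟙 S.X₃) ≫ χ' ≫ (res J V).map π = r.map χ at hχ'
  rw [CategoryTheory.Functor.map_id, Category.id_comp] at hχ'
  let ψV : S.X₂.over V ⟶ T₀.X₂.over V := r.map ψ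
  let ρ₀ : S.X₂.over V ⟶ T₀.X₂.over V := ψV - (res J V).map S.g ≫ χ'
  have hρ₀ : ρ₀ ≫ (res J V).map π = 0 := by
    have h2 : (res J V).map S.g ≫ r.map χ = r.map ψ ≫ (res J V).map π := by
      have := congrArg r.map hχ
      rw [r.map_comp, r.map_comp] at this
      exact this
    show (ψV - (res J V).map S.g ≫ χ') ≫ (res J V).map π = 0
    rw [Preadditive.sub_comp, Category.assoc, hχ', h2, sub_self]
  haveI : Mono (T₀.map (res J V)).f := inferInstanceAs (Mono ((res J V).map T₀.f))
  obtain ⟨ρ₁, hρ₁⟩ := KernelFork.IsLimit.lift' ((hT.exact.map (res J V)).fIsKernel) ρ₀ hρ₀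
  change ρ₁ ≫ (res J V).map T₀.f = ρ₀ at hρ₁
  let ρ : S.X₂.over V ⟶ M.over V := ρ₁ ≫ (res J V).map e₀.hom
  have hρ : ρ ≫ (res J V).map i = ρ₀ := by
    show (ρ₁ ≫ (res J V).map e₀.hom) ≫ (res J V).map (e₀.inv ≫ T₀.f) = ρ₀
    rw [Category.assoc, ← Functor.map_comp, Iso.hom_inv_id_assoc, hρ₁]
  refine ⟨ρ, ?_⟩
  let φV : S.X₁.over V ⟶ M.over V := r.map φ
  haveI : Mono i := mono_comp _ _
  haveI : Mono ((res J V).map i) := inferInstance
  have h3 : (res J V).map S.f ≫ ψV = φV ≫ (res J V).map i := by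
    have h4 := congrArg r.map hψ
    rw [r.map_comp, r.map_comp] at h4
    exact h4
  have h5 : ((res J V).map S.f ≫ ρ) ≫ (res J V).map i = φV ≫ (res J V).map i :=
    calc ((res J V).map S.f ≫ ρ) ≫ (res J V).map i = (res J V).map S.f ≫ ρ₀ := by rw [Category.assoc, hρ]
      _ = (res J V).map S.f ≫ ψV - ((res J V).map S.f ≫ (res J V).map S.g) ≫ χ' :=
        (Preadditive.comp_sub _ _ _).trans (congrArg _ (Category.assoc _ _ _).symm)
      _ = φV ≫ (res J V).map i := by rw [← Functor.map_comp, S.zero, Functor.map_zero, zero_comp, sub_zero, h3]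
  have h6 : (res J V).map S.f ≫ ρ = φV := (cancel_mono _).1 h5
  exact (show (res J V).map S.f ≫ ρ ≫ (res J V).map (𝟙 M) = φV by
    rw [(res J V).map_id, Category.comp_id, h6])

theorem shortExact_dual (hS : S.ShortExact) (hExt : IsZero ((HomSh.extSh J S.X₃ 1).obj M)) :
    (dual J M S).ShortExact :=
  haveI := hS.epi_g
  ShortComplex.ShortExact.mk' (exact_dual J M hS.exact) (mono_dual_f J M) (epi_dual_g J M hS hExt)

/-- Biduality passes to extensions. -/
theorem isIso_bidualMap_X₂ (hS : S.ShortExact) (hExt : IsZero ((HomSh.extSh J S.X₃ 1).obj M))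
    (h₁ : IsIso (HomSh.bidualMap J S.X₁ M)) (h₃ : IsIso (HomSh.bidualMap J S.X₃ M)) :
    IsIso (HomSh.bidualMap J S.X₂ M) := by
  have hD := shortExact_dual J M hS hExt
  haveI := hD.epi_g
  haveI := hS.epi_g
  let φ : S ⟶ dual J M (dual J M S) :=
    ShortComplex.homMk (HomSh.bidualMap J S.X₁ M) (HomSh.bidualMap J S.X₂ M) (HomSh.bidualMap J S.X₃ M)
      (bidualMap_naturality J M S.f).symm (bidualMap_naturality J M S.g).symm
  haveI : Epi (dual J M (dual J M S)).g := by
    haveI : Epi (φ.τ₂ ≫ (dual J M (dual J M S)).g) := by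
      rw [φ.comm₂₃]
      haveI : Epi φ.τ₃ := by
        haveI : IsIso φ.τ₃ := h₃
        infer_instance
      exact epi_comp _ _
    exact epi_of_epi φ.τ₂ _
  exact ShortComplex.isIso₂_of_shortExact_of_isIso₁₃' φ hS
    (ShortComplex.ShortExact.mk' (exact_dual J M hD.exact) (mono_dual_f J M) inferInstance) h₁ h₃

end Ext

end Groth.Agent.GaExt23.DE
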