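import Groth.Agent.Lib.GaExt23.BidualChar

/-!
# Natural multiplicative functions of characters: characteristic zero and characteristic p
-/

set_option autoImplicit false
set_option linter.unusedSectionVars false
set_option maxHeartbeats 800000
universe u

open Polynomial TrivSqZeroExt

noncomputable section

namespace Groth.Agent.GaExt23.BC

open GaDual (expP expTrunc coeff_expTrunc chrProd polyCharacter_iff expP_isChar)

variable {R : Type u} [CommRing R] {Φ : ∀ (B : Type u) [CommRing B] [Algebra R B], B[X] → B}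

theorem coeff_zero_eq_one (hΦ : IsNat Φ) {M k : ℕ} (hM : 1 ≤ M) {q : R[X]}
    (hq : ∀ {B : Type u} [CommRing B] [Algebra R B] (b : B), b ^ M = 0 → Φ B (expP M b k) = aeval b q) :
    q.coeff 0 = 1 := by
  have h := hq (0 : R) (zero_pow (by omega))
  rw [(aeval_zero_coeff q).1, Algebra.algebraMap_self, RingHom.id_apply] at h
  rw [← h]
  have e : expP M (0 : R) k = 1 := by
    rw [expP, Finset.sum_eq_single 0]
    · simp
    · intro j _ hj; simp [zero_pow hj]
    · simp only [Finset.mem_range]; omega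
  rw [e, hΦ.one]

theorem pnt_eq_coeff {M : ℕ} (hM : 2 ≤ M) {q : R[X]}
    (hq : ∀ {B : Type u} [CommRing B] [Algebra R B] (b : B), b ^ M = 0 → Φ B (expP M b 0) = aeval b q) :
    pnt Φ = q.coeff 1 := by
  have hη : (inr 1 : DualNumber R) * inr 1 = 0 := inr_mul_inr _ _ _
  have h := hq (inr 1 : DualNumber R) (pow_eq_zero_of_le hM (by rw [sq, hη]))
  rw [expP_sq_zero hM hη, pow_zero, pow_one,
    show (inr 1 : DualNumber R) = inl 0 + inr 1 by simp, aeval_inl_add_inr, (aeval_zero_coeff q).2] at h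
  rw [inl_zero, zero_add] at h
  rw [pnt, show line R = 1 + C (inr 1 : DualNumber R) * X from rfl, h]
  simp

theorem aeval_eq_sum {M : ℕ} {q : R[X]} {d : R} (hc : ∀ j < M, q.coeff j = Ring.inverse (j.factorial : R) * d ^ j)
    (hR : ∀ j < M, IsUnit (j.factorial : R)) {B : Type u} [CommRing B] [Algebra R B] (b : B) (hb : b ^ M = 0) :
    aeval b q = ∑ j ∈ Finset.range M, Ring.inverse (j.factorial : B) * b ^ j * algebraMap R B (d ^ j) := by
  rw [aeval_eq_sum_range' (n := max M (q.natDegree + 1)) (by omega),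
    ← Finset.sum_subset (Finset.range_mono (le_max_left M _)) (fun j _ hj => by
      rw [pow_eq_zero_of_le (by simpa using hj) hb, smul_zero])]
  refine Finset.sum_congr rfl fun j hj => ?_
  rw [hc j (Finset.mem_range.1 hj), Algebra.smul_def, map_mul,
    map_inverse (algebraMap R B) (hR j (Finset.mem_range.1 hj)), map_natCast]
  ring

/-! ### Characteristic zero -/

theorem ch_expP_rat {B : Type u} [CommRing B] (hB : ∀ j : ℕ, IsUnit (j.factorial : B)) {M : ℕ} {b : B}
    (hb : b ^ M = 0) (hM : 1 ≤ M) : Ch (expP M b 0) := by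
  have hc : ∀ n, (expP M b 0).coeff n = Ring.inverse (n.factorial : B) * b ^ n := fun n => by
    rw [show expP M b 0 = expTrunc M b by simp [expP, expTrunc], coeff_expTrunc]
    split_ifs with h
    · rfl
    · rw [pow_eq_zero_of_le (by omega) hb, mul_zero]
  refine (ch_iff_coeff _).2 ⟨by simp [hc], fun i j => ?_⟩
  rw [hc, hc, hc]
  have hfac : ((i + j).choose i : B) * (i.factorial : B) * (j.factorial : B) = ((i + j).factorial : B) := by
    rw [← Nat.choose_mul_factorial_mul_factorial (show i ≤ i + j by omega), Nat.add_sub_cancel_left]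
    push_cast; rfl
  refine ((hB i).mul (hB j)).mul_left_cancel ?_
  linear_combination (Ring.inverse ((i + j).factorial : B) * b ^ (i + j)) * hfac
    + b ^ (i + j) * Ring.mul_inverse_cancel _ (hB (i + j))
    - b ^ (i + j) * ((j.factorial : B) * Ring.inverse (j.factorial : B)) * Ring.mul_inverse_cancel _ (hB i)
    - b ^ (i + j) * Ring.mul_inverse_cancel _ (hB j)

theorem exists_eq_expP_rat {B : Type u} [CommRing B] (hB : ∀ j : ℕ, IsUnit (j.factorial : B)) {f : B[X]} (hf : Ch f) :
    ∃ (N : ℕ) (b : B), 1 ≤ N ∧ b ^ N = 0 ∧ f = expP (N + 1) b 0 := by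
  obtain ⟨h0, h⟩ := (ch_iff_coeff f).1 hf
  have hc : ∀ j, f.coeff j = Ring.inverse (j.factorial : B) * f.coeff 1 ^ j := fun j => by
    refine coeff_eq_exp (N := j + 1) (fun i _ => hB i) h0 (fun i _ => ?_) j (Nat.lt_succ_self j)
    have := h 1 i
    rwa [add_comm 1 i, Nat.choose_one_right] at this
  have hz : f.coeff 1 ^ (f.natDegree + 1) = 0 := by
    have := hc (f.natDegree + 1)
    rw [Polynomial.coeff_eq_zero_of_natDegree_lt (by omega)] at this
    exact ((hB _).ringInverse.mul_right_eq_zero).1 this.symm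
  refine ⟨f.natDegree + 1, f.coeff 1, by omega, hz, ?_⟩
  ext n
  rw [show expP (f.natDegree + 1 + 1) (f.coeff 1) 0 = expTrunc (f.natDegree + 1 + 1) (f.coeff 1) by simp [expP, expTrunc],
    coeff_expTrunc]
  split_ifs with hn
  · exact hc n
  · exact Polynomial.coeff_eq_zero_of_natDegree_lt (by omega)

theorem eq_eval_of_rat (hΦ : IsNat Φ) (hR : ∀ j : ℕ, IsUnit (j.factorial : R)) {B : Type u} [CommRing B] [Algebra R B]
    {f : B[X]} (hf : Ch f) : Φ B f = f.eval (algebraMap R B (pnt Φ)) := by
  have hB : ∀ {C : Type u} [CommRing C] [Algebra R C] (j : ℕ), IsUnit (j.factorial : C) := fun {C} _ _ j =>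
    isUnit_natCast_map (M := j + 1) (algebraMap R C) (fun i _ => hR i) j (Nat.lt_succ_self j)
  obtain ⟨N, b, hN, hb, rfl⟩ := exists_eq_expP_rat hB hf
  set M := N + 1 with hM
  have hch : ∀ {C : Type u} [CommRing C] [Algebra R C] (c : C), c ^ M = 0 → Ch (expP M c 0) := fun c hc =>
    ch_expP_rat hB hc (by omega)
  obtain ⟨q, hq⟩ := exists_rep hΦ M (fun j _ => hR j) 0 (hch _ (eps_pow R M))
  have h0 := coeff_zero_eq_one hΦ (by omega) hq
  let P := Pw R N
  let e : P := eps R N
  have he : e ^ M = 0 := pow_eq_zero_of_le (by omega) (eps_pow R N)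
  have hη : (inr 1 : DualNumber P) ^ M = 0 := pow_eq_zero_of_le (show 2 ≤ M by omega) (by rw [sq, inr_mul_inr])
  have hδ : (inl e : DualNumber P) ^ M = 0 := by rw [← inlHom_apply P P, ← map_pow, he, map_zero]
  have hde : (inl e + inr 1 : DualNumber P) ^ M = 0 := by
    refine TrivSqZeroExt.ext ?_ ?_
    · simp [fst_pow, he]
    · rw [snd_pow]
      simp [hM, eps_pow R N, e]
  have hκ : (Ring.inverse ((M - 1).factorial : P) * e ^ (M - 1)) = 0 := by
    rw [show M - 1 = N by omega, eps_pow R N, mul_zero]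
  have key := mul_expP (isUnit_natCast_map (algebraMap R P) fun j _ => hR j) (show 2 ≤ M by omega) e he
  rw [hκ, inr_zero, show expP M (0 : DualNumber P) 1 = 1 by
    rw [expP_sq_zero (show 2 ≤ M by omega) (mul_zero 0), map_zero, zero_mul, add_zero], mul_one] at key
  have h := congrArg (fun g => Φ (DualNumber P) g) key
  rw [hΦ.mul _ _ (hch _ hη) (hch _ hδ), hq _ hη, hq _ hδ, hq _ hde] at h
  have e1 : (inr 1 : DualNumber P) = inl 0 + inr 1 := by simp
  have e3 : (inl e : DualNumber P) = inl e + inr 0 := by simp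
  conv_lhs at h => rw [e1, e3]
  simp only [aeval_inl_add_inr, (aeval_zero_coeff q).1, (aeval_zero_coeff q).2, h0, map_one] at h
  have h2 := congrArg TrivSqZeroExt.snd h
  simp only [snd_mul, fst_add, fst_inl, fst_inr, snd_add, snd_inl, snd_inr, zero_mul, add_zero, zero_add,
    smul_eq_mul, MulOpposite.smul_eq_mul_unop, MulOpposite.unop_op, one_mul, mul_one] at h2
  have hdvd : X ^ N ∣ C (q.coeff 1) * q - derivative q - C ((0 : R) * 0) * q * X ^ (N - 1) := by
    rw [mul_zero, map_zero, zero_mul, zero_mul, sub_zero, ← AdjoinRoot.mk_eq_zero,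
      ← AdjoinRoot.aeval_eq, map_sub, map_mul, aeval_C]
    linear_combination h2
  obtain ⟨hrec, hlast⟩ := coeff_rec hdvd
  have hall : ∀ j, j + 1 < M → ((j + 1 : ℕ) : R) * q.coeff (j + 1) = q.coeff 1 * q.coeff j := fun j hj => by
    rcases Nat.lt_or_ge (j + 1) N with hlt | hge
    · exact hrec j hlt
    · have := hlast hN
      rw [mul_zero, zero_mul, add_zero, show N - 1 = j by omega, show N = j + 1 by omega] at this
      exact this.symm
  have hc := coeff_eq_exp (fun j _ => hR j) h0 hall
  have hb' : b ^ M = 0 := pow_eq_zero_of_le (by omega) hb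
  rw [hq b hb', aeval_eq_sum hc (fun j _ => hR j) b hb', pnt_eq_coeff (show 2 ≤ M by omega) hq, eval_expP]
  simp [map_pow]

/-! ### Characteristic p -/

variable (p : ℕ) [hp : Fact p.Prime] [CharP R p]

include hp in
theorem ch_expP_charP {B : Type u} [CommRing B] [Algebra R B] {b : B} (hb : b ^ p = 0) (k : ℕ) :
    Ch (expP p b k) := by
  cases subsingleton_or_nontrivial B
  · exact ⟨Subsingleton.elim _ _, Subsingleton.elim _ _⟩
  haveI : CharP B p := (CharP.charP_iff_prime_eq_zero hp.out).2 (by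
    rw [← map_natCast (algebraMap R B), CharP.cast_eq_zero, map_zero])
  refine ⟨?_, expP_isChar p hb k⟩
  rw [eval_expP, Finset.sum_eq_single 0]
  · simp
  · intro j _ hj; rw [zero_pow (Nat.mul_ne_zero hj (pow_ne_zero k hp.out.ne_zero)), mul_zero]
  · simp [hp.out.pos]

include hp in
theorem eq_eval_of_charP (hΦ : IsNat Φ) {B : Type u} [CommRing B] [Algebra R B] {f : B[X]} (hf : Ch f) :
    Φ B f = f.eval (algebraMap R B (pnt Φ)) := by
  cases subsingleton_or_nontrivial B
  · exact Subsingleton.elim _ _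
  haveI : CharP B p := (CharP.charP_iff_prime_eq_zero hp.out).2 (by
    rw [← map_natCast (algebraMap R B), CharP.cast_eq_zero, map_zero])
  have hR : ∀ j < p, IsUnit (j.factorial : R) := fun j hj => GaDual.isUnit_factorial p hj
  have h2 := hp.out.two_le
  have hex := fun k => exists_rep hΦ p hR k (ch_expP_charP (R := R) p (eps_pow R p) k)
  choose q hq using hex
  have h0 := fun k => coeff_zero_eq_one hΦ hp.out.one_le (hq k)
  have hstep : ∀ k, X ^ p ∣ C ((q k).coeff 1) * q k - derivative (q k) -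
      C ((q (k + 1)).coeff 1 * Ring.inverse ((p - 1).factorial : R)) * q k * X ^ (p - 1) := fun k => by
    refine rep_step hΦ p hR h2 k (fun i _ _ _ b hb _ => ch_expP_charP (R := R) p hb i) le_rfl (fun {C} _ _ b _ => ?_)
      (fun C _ _ e he => ?_) (hq k) (hq (k + 1)) (h0 k) (h0 (k + 1))
    · refine ⟨?_, ?_⟩ <;>
      · simp only [expP, Polynomial.sum_comp, Polynomial.mul_comp, Polynomial.C_comp, Polynomial.X_pow_comp]
        refine Finset.sum_congr rfl fun j _ => ?_
        rw [← pow_mul]
        ring_nf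
    · refine TrivSqZeroExt.ext ?_ ?_
      · simp [fst_pow, he]
      · rw [snd_pow]
        have : (p : C) = 0 := by rw [← map_natCast (algebraMap R C), CharP.cast_eq_zero, map_zero]
        simp [this]
  have hcoef : ∀ k, ∀ j < p, (q k).coeff j = Ring.inverse (j.factorial : R) * (q k).coeff 1 ^ j := fun k =>
    coeff_eq_exp hR (h0 k) (coeff_rec (hstep k)).1
  have hd : ∀ k, (q (k + 1)).coeff 1 = (q k).coeff 1 ^ p := fun k => by
    have h := (coeff_rec (hstep k)).2 hp.out.one_le
    rw [CharP.cast_eq_zero, zero_mul, zero_add, h0, mul_one, hcoef k (p - 1) (by omega), mul_left_comm,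
      mul_comm ((q (k + 1)).coeff 1)] at h
    have hu := (hR (p - 1) (by omega)).ringInverse
    rw [← hu.mul_left_cancel h, ← pow_succ', show p - 1 + 1 = p by omega]
  have hdk : ∀ k, (q k).coeff 1 = pnt Φ ^ p ^ k := fun k => by
    induction k with
    | zero => rw [pow_zero, pow_one, pnt_eq_coeff h2 (hq 0)]
    | succ k ih => rw [hd, ih, ← pow_mul, pow_succ]
  have hgen : ∀ (k : ℕ) (b : B), b ^ p = 0 → Φ B (expP p b k) = (expP p b k).eval (algebraMap R B (pnt Φ)) :=
    fun k b hb => by
      rw [hq k b hb, aeval_eq_sum (hcoef k) hR b hb, eval_expP, hdk]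
      refine Finset.sum_congr rfl fun j _ => ?_
      rw [map_pow, map_pow, ← pow_mul, mul_comm (p ^ k) j]
  obtain ⟨n, a, ha, rfl⟩ := (polyCharacter_iff p f).1 hf
  have hprod : Ch (chrProd p a n) ∧ Φ B (chrProd p a n) = (chrProd p a n).eval (algebraMap R B (pnt Φ)) := by
    refine Finset.prod_induction _ (fun g => Ch g ∧ Φ B g = g.eval (algebraMap R B (pnt Φ)))
      (fun g g' hg hg' => ⟨hg.1.mul hg'.1, by rw [hΦ.mul _ _ hg.1 hg'.1, hg.2, hg'.2, eval_mul]⟩)
      ⟨Ch.one, by rw [hΦ.one, eval_one]⟩ fun i _ => ⟨ch_expP_charP (R := R) p (ha i) i, hgen i (a i) (ha i)⟩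
  exact hprod.2

end Groth.Agent.GaExt23.BC
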