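import Groth.Agent.Lib.GaDual.Char
import Mathlib.Algebra.DualNumber
import Mathlib.Algebra.TrivSqZeroExt.Basic
import Mathlib.RingTheory.AdjoinRoot

/-!
# Natural multiplicative functions of characters of the additive group are evaluations
-/

set_option autoImplicit false
set_option linter.unusedSectionVars false
set_option maxHeartbeats 800000
universe u

open Polynomial TrivSqZeroExt

noncomputable section

namespace Groth.Agent.GaExt23.BC

open GaDual (IsChar expP expTrunc coeff_expTrunc chrProd polyCharacter_iff expP_isChar aeval_expP)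

/-- A normalised character. -/
def Ch {B : Type u} [CommRing B] (f : B[X]) : Prop := f.eval 0 = 1 ∧ IsChar f

theorem Ch.one {B : Type u} [CommRing B] : Ch (1 : B[X]) := ⟨by simp, by simp [IsChar]⟩

theorem Ch.mul {B : Type u} [CommRing B] {f g : B[X]} (hf : Ch f) (hg : Ch g) : Ch (f * g) :=
  ⟨by rw [eval_mul, hf.1, hg.1, mul_one], hf.2.mul hg.2⟩

theorem ch_iff_coeff {B : Type u} [CommRing B] (f : B[X]) :
    Ch f ↔ f.coeff 0 = 1 ∧ ∀ i j, ((i + j).choose i : B) * f.coeff (i + j) = f.coeff i * f.coeff j := by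
  rw [Ch, IsChar, GaDual.isCharacter_iff_coeff, ← Polynomial.coeff_zero_eq_eval_zero]

theorem Ch.map {B C : Type u} [CommRing B] [CommRing C] {f : B[X]} (hf : Ch f) (φ : B →+* C) : Ch (f.map φ) := by
  rw [ch_iff_coeff] at hf ⊢
  refine ⟨by rw [Polynomial.coeff_map, hf.1, map_one], fun i j => ?_⟩
  rw [Polynomial.coeff_map, Polynomial.coeff_map, Polynomial.coeff_map, ← map_natCast φ, ← map_mul, hf.2 i j, map_mul]

theorem Ch.isUnit {B : Type u} [CommRing B] {f : B[X]} (hf : Ch f) : IsUnit f := by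
  refine IsUnit.of_mul_eq_one (f.comp (-X)) ?_
  have h := congrArg (MvPolynomial.aeval ![(X : B[X]), -X]) hf.2
  simp only [map_mul, ← Polynomial.aeval_algHom_apply, map_add, MvPolynomial.aeval_X,
    Matrix.cons_val_zero, Matrix.cons_val_one, add_neg_cancel, Polynomial.aeval_X_left_apply,
    ← Polynomial.comp_eq_aeval, Polynomial.comp_zero, Polynomial.comp_X] at h
  rw [← h, hf.1, map_one]

/-- The universal character of order two. -/
abbrev line (R : Type u) [CommRing R] : (DualNumber R)[X] := 1 + C (DualNumber.eps : DualNumber R) * X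

theorem ch_line (R : Type u) [CommRing R] : Ch (line R) := by
  have hc : ∀ n, (line R).coeff n = if n = 0 then 1 else if n = 1 then DualNumber.eps else 0 := fun n => by
    rw [coeff_add, coeff_one, coeff_C_mul, coeff_X]
    rcases n with _ | _ | n <;> simp
  refine (ch_iff_coeff _).2 ⟨by rw [hc, if_pos rfl], fun i j => ?_⟩
  rw [hc, hc, hc]
  rcases i with _ | _ | i <;> rcases j with _ | _ | j <;> simp [DualNumber.eps_mul_eps] <;> omega

variable {R : Type u} [CommRing R]

variable (Φ : ∀ (B : Type u) [CommRing B] [Algebra R B], B[X] → B)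

/-- Natural in the coefficients and multiplicative. -/
structure IsNat : Prop where
  nat : ∀ {B C : Type u} [CommRing B] [Algebra R B] [CommRing C] [Algebra R C] (φ : B →ₐ[R] C) (f : B[X]),
    Ch f → Φ C (f.map φ.toRingHom) = φ (Φ B f)
  mul : ∀ {B : Type u} [CommRing B] [Algebra R B] (f g : B[X]), Ch f → Ch g → Φ B (f * g) = Φ B f * Φ B g
  one : ∀ (B : Type u) [CommRing B] [Algebra R B], Φ B 1 = 1

/-- The point at which a natural function of characters evaluates. -/
def pnt : R := (Φ (DualNumber R) (line R)).snd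

theorem pnt_of_eval (c : R) (h : Φ (DualNumber R) (line R) = (line R).eval (algebraMap R _ c)) : pnt Φ = c := by
  rw [pnt, h]
  simp only [line, eval_add, eval_one, eval_mul, eval_C, eval_X, TrivSqZeroExt.algebraMap_eq_inl, DualNumber.eps, snd_add, TrivSqZeroExt.snd_one, inr_mul_inl, MulOpposite.smul_eq_mul_unop, MulOpposite.unop_op, snd_inr, zero_add, one_mul]

section Truncated

variable {M : ℕ}

theorem isUnit_natCast_map {B C : Type u} [CommRing B] [CommRing C] (φ : B →+* C)
    (hB : ∀ j < M, IsUnit (j.factorial : B)) : ∀ j < M, IsUnit (j.factorial : C) := fun j hj => by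
  rw [← map_natCast φ]
  exact (hB j hj).map φ

theorem map_inverse {B C : Type u} [CommRing B] [CommRing C] (φ : B →+* C) {x : B} (hx : IsUnit x) :
    φ (Ring.inverse x) = Ring.inverse (φ x) := by
  refine (hx.map φ).mul_left_cancel ?_
  rw [← map_mul, Ring.mul_inverse_cancel _ hx, map_one, Ring.mul_inverse_cancel _ (hx.map φ)]

theorem map_expP {B C : Type u} [CommRing B] [CommRing C] (φ : B →+* C) (hB : ∀ j < M, IsUnit (j.factorial : B))
    (b : B) (k : ℕ) : (expP M b k).map φ = expP M (φ b) k := by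
  simp only [expP, Polynomial.map_sum, Polynomial.map_mul, Polynomial.map_pow, Polynomial.map_X,
    Polynomial.map_C, map_mul, map_pow]
  refine Finset.sum_congr rfl fun j hj => ?_
  rw [map_inverse φ (hB j (Finset.mem_range.1 hj)), map_natCast]

theorem eval_expP {B : Type u} [CommRing B] (b x : B) (k : ℕ) :
    (expP M b k).eval x = ∑ j ∈ Finset.range M, Ring.inverse (j.factorial : B) * b ^ j * x ^ (j * M ^ k) := by
  simp [expP, Polynomial.eval_finsetSum]

theorem expP_sq_zero {B : Type u} [CommRing B] (hM : 2 ≤ M) {a : B} (ha : a * a = 0) (k : ℕ) :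
    expP M a k = 1 + C a * X ^ (M ^ k) := by
  obtain ⟨m, rfl⟩ : ∃ m, M = m + 2 := ⟨M - 2, by omega⟩
  rw [expP, Finset.sum_range_succ', Finset.sum_range_succ', Finset.sum_eq_zero]
  · simp only [zero_add, pow_one, Nat.factorial_one, Nat.cast_one, Ring.inverse_one, one_mul, Nat.factorial_zero,
      pow_zero, mul_one, map_one, zero_mul]
    exact add_comm _ _
  · intro j _
    rw [show a ^ (j + 1 + 1) = 0 by rw [pow_succ, pow_succ, mul_assoc, ha, mul_zero], mul_zero, map_zero, zero_mul]

/-- `(1 + ηX) E(δX) = E((δ + η)X) + (correction) X^M`. -/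
theorem mul_expP {P : Type u} [CommRing P] (hP : ∀ j < M, IsUnit (j.factorial : P)) (hM : 2 ≤ M) (e : P) (he : e ^ M = 0) :
    expP M (inr 1 : DualNumber P) 0 * expP M (inl e : DualNumber P) 0 =
      expP M (inl e + inr 1 : DualNumber P) 0 *
        expP M (inr (Ring.inverse ((M - 1).factorial : P) * e ^ (M - 1)) : DualNumber P) 1 := by
  obtain ⟨m, rfl⟩ : ∃ m, M = m + 1 := ⟨M - 1, by omega⟩
  set κ : P := Ring.inverse (((m + 1 - 1).factorial : ℕ) : P) * e ^ (m + 1 - 1)
  have hκ : κ * e = 0 := by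
    simp only [κ, Nat.add_sub_cancel, mul_assoc, ← pow_succ, he, mul_zero]
  have hk0 : ∀ j : ℕ, j ≠ 0 → ((inl e + inr 1 : DualNumber P) ^ j) * inr κ = 0 := fun j hj => by
    have h1 : (inl e + inr 1 : DualNumber P) * inr κ = 0 := by
      rw [add_mul, inl_mul_inr, inr_mul_inr, add_zero, smul_eq_mul, mul_comm, hκ, inr_zero]
    obtain ⟨j, rfl⟩ := Nat.exists_eq_succ_of_ne_zero hj
    rw [pow_succ, mul_assoc, h1, mul_zero]
  rw [expP_sq_zero hM (inr_mul_inr P (1 : P) 1) 0, expP_sq_zero hM (inr_mul_inr P κ κ) 1]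
  have hfac : ∀ j < m + 1, Ring.inverse ((j.factorial : ℕ) : DualNumber P) = inl (Ring.inverse (j.factorial : P)) :=
    fun j hj => by
      rw [← inlHom_apply P P, map_inverse (inlHom P P) (hP j hj), map_natCast]
  have hexp : ∀ a : DualNumber P, expP (m + 1) a 0 = expTrunc (m + 1) a := fun a => by
    simp [expP, expTrunc]
  rw [hexp, hexp]; simp only [pow_zero, pow_one]
  have hB : expTrunc (m + 1) (inl e + inr 1 : DualNumber P) * (1 + C (inr κ : DualNumber P) * X ^ (m + 1)) =
      expTrunc (m + 1) (inl e + inr 1 : DualNumber P) + C (inr κ : DualNumber P) * X ^ (m + 1) := by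
    rw [mul_add, mul_one]
    refine congrArg (fun t => _ + t) ?_
    rw [expTrunc, Finset.sum_mul, Finset.sum_eq_single 0]
    · simp
    · intro j _ hj
      rw [mul_mul_mul_comm, ← map_mul, mul_assoc, hk0 j hj, mul_zero, map_zero, zero_mul]
    · simp
  rw [hB, add_mul, one_mul]
  ext1 j
  rw [coeff_add, coeff_add, coeff_C_mul_X_pow, mul_assoc, coeff_C_mul, coeff_expTrunc, coeff_expTrunc]
  rcases j with _ | j
  · rw [mul_coeff_zero, coeff_X_zero, zero_mul, mul_zero, if_neg (show ¬ (0 : ℕ) = m + 1 by omega)]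
    simp
  rw [coeff_X_mul, coeff_expTrunc]
  rcases lt_trichotomy (j + 1) (m + 1) with h | h | h
  · rw [if_pos h, if_pos h, if_neg h.ne, add_zero, if_pos (show j < m + 1 by omega), hfac _ h, hfac j (by omega)]
    refine TrivSqZeroExt.ext ?_ ?_
    · simp [fst_pow]
    · have hu : IsUnit ((j + 1 : ℕ) : P) := by
        have h2 := hP (j + 1) h
        rw [Nat.factorial_succ, Nat.cast_mul] at h2
        exact isUnit_of_mul_isUnit_left h2
      have hinv : Ring.inverse ((j + 1).factorial : P) * ((j + 1 : ℕ) : P) = Ring.inverse (j.factorial : P) := by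
        rw [Nat.factorial_succ, Nat.cast_mul, Ring.mul_inverse_rev, mul_assoc, Ring.inverse_mul_cancel _ hu, mul_one]
      simp only [snd_add, snd_mul, fst_inl, snd_inl, fst_inr, snd_inr, snd_pow, fst_add, fst_pow, smul_zero,
        smul_eq_mul, MulOpposite.smul_eq_mul_unop, MulOpposite.unop_op, mul_zero, zero_mul, add_zero, zero_add,
        nsmul_eq_mul, Nat.pred_succ, mul_one, one_mul]
      rw [TrivSqZeroExt.fst_mul, fst_inl, TrivSqZeroExt.fst_pow, fst_inl, ← mul_assoc, hinv]
  · have hjm : j = m := by omega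
    subst hjm
    rw [if_neg (lt_irrefl _), if_neg (lt_irrefl _), if_pos rfl, if_pos (Nat.lt_succ_self j), zero_add, zero_add,
      hfac j (Nat.lt_succ_self j), ← inlHom_apply P P e, ← map_pow, inlHom_apply, ← inl_mul, inr_mul_inl]
    simp only [κ, Nat.add_sub_cancel, MulOpposite.smul_eq_mul_unop, MulOpposite.unop_op, one_mul]
  · rw [if_neg (by omega), if_neg (by omega), if_neg (by omega), if_neg (by omega)]
    simp

end Truncated

section Universal

variable {Φ} (hΦ : IsNat Φ) (M : ℕ)

/-- Functions on the points killed by the `M`-th power. -/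
abbrev Pw (R : Type u) [CommRing R] (M : ℕ) : Type u := AdjoinRoot ((X : R[X]) ^ M)

/-- The universal element. -/
abbrev eps (R : Type u) [CommRing R] (M : ℕ) : Pw R M := AdjoinRoot.root _

theorem eps_pow (R : Type u) [CommRing R] (M : ℕ) : eps R M ^ M = 0 := by
  rw [eps, ← AdjoinRoot.mk_X, ← map_pow, AdjoinRoot.mk_self]

variable (hR : ∀ j < M, IsUnit (j.factorial : R))

include hΦ hR in
theorem exists_rep (k : ℕ) (hch : Ch (expP M (eps R M) k)) :
    ∃ q : R[X], ∀ {B : Type u} [CommRing B] [Algebra R B] (b : B), b ^ M = 0 → Φ B (expP M b k) = aeval b q := by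
  obtain ⟨q, hq⟩ := AdjoinRoot.mk_surjective (Φ (Pw R M) (expP M (eps R M) k))
  refine ⟨q, fun {B} _ _ b hb => ?_⟩
  let φ : Pw R M →ₐ[R] B := AdjoinRoot.liftAlgHom _ (Algebra.ofId R B) b (by simp [hb])
  have h := hΦ.nat φ _ hch
  rw [map_expP _ (isUnit_natCast_map (algebraMap R (Pw R M)) hR), ← hq] at h
  simpa [φ, aeval_def, Algebra.toRingHom_ofId] using h

/-- The recursion for the coefficients. -/
theorem coeff_rec {q : R[X]} {d d' κ : R} {N : ℕ}
    (h : X ^ N ∣ C d * q - derivative q - C (d' * κ) * q * X ^ (N - 1)) :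
    (∀ j, j + 1 < N → ((j + 1 : ℕ) : R) * q.coeff (j + 1) = d * q.coeff j) ∧
    (1 ≤ N → d * q.coeff (N - 1) = (N : R) * q.coeff N + d' * κ * q.coeff 0) := by
  rw [X_pow_dvd_iff] at h
  refine ⟨fun j hj => ?_, fun hN => ?_⟩
  · have := h j (by omega)
    rw [coeff_sub, coeff_sub, coeff_C_mul, coeff_derivative, coeff_mul_X_pow', if_neg (by omega), sub_zero,
      sub_eq_zero] at this
    rw [this]
    push_cast
    ring
  · have := h (N - 1) (by omega)
    rw [coeff_sub, coeff_sub, coeff_C_mul, coeff_derivative, coeff_mul_X_pow', if_pos le_rfl, Nat.sub_self,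
      coeff_C_mul, show N - 1 + 1 = N by omega] at this
    have hc : (((N - 1 : ℕ) : R) + 1) = (N : R) := by
      rw [← Nat.cast_add_one, show N - 1 + 1 = N by omega]
    rw [hc] at this
    linear_combination this

theorem coeff_eq_exp {q : R[X]} {d : R} {N : ℕ} (hR : ∀ j < N, IsUnit (j.factorial : R)) (h0 : q.coeff 0 = 1)
    (h : ∀ j, j + 1 < N → ((j + 1 : ℕ) : R) * q.coeff (j + 1) = d * q.coeff j) :
    ∀ j < N, q.coeff j = Ring.inverse (j.factorial : R) * d ^ j := by
  intro j
  induction j with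
  | zero => intro _; simp [h0]
  | succ j ih =>
    intro hj
    refine (hR (j + 1) hj).mul_left_cancel ?_
    rw [← mul_assoc, Ring.mul_inverse_cancel _ (hR (j + 1) hj), one_mul, Nat.factorial_succ, Nat.cast_mul,
      mul_right_comm, h j hj, ih (by omega)]
    linear_combination (d ^ (j + 1)) * Ring.mul_inverse_cancel _ (hR j (by omega))

theorem aeval_inl_add_inr {P : Type u} [CommRing P] [Algebra R P] (q : R[X]) (e m : P) :
    aeval (inl e + inr m : DualNumber P) q = inl (aeval e q) + inr (m * aeval e (derivative q)) := by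
  rw [Polynomial.aeval_add_of_sq_eq_zero q _ _ (by rw [sq, inr_mul_inr])]
  have h : ∀ f : R[X], aeval (inl e : DualNumber P) f = inl (aeval e f) := fun f =>
    Polynomial.aeval_algHom_apply (TrivSqZeroExt.inlAlgHom R P P) e f
  rw [h, h, inl_mul_inr, smul_eq_mul, mul_comm]

theorem aeval_zero_coeff {P : Type u} [CommRing P] [Algebra R P] (q : R[X]) :
    aeval (0 : P) q = algebraMap R P (q.coeff 0) ∧ aeval (0 : P) (derivative q) = algebraMap R P (q.coeff 1) := by
  refine ⟨(coeff_zero_eq_aeval_zero' q).symm, (coeff_zero_eq_aeval_zero' _).symm.trans ?_⟩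
  rw [coeff_derivative]; simp

include hΦ hR in
/-- The comparison of the representatives of two successive universal characters. -/
theorem rep_step (hM : 2 ≤ M) (k : ℕ)
    (hch : ∀ (i : ℕ) {B : Type u} [CommRing B] [Algebra R B] (b : B), b ^ M = 0 → i = k ∨ i = k + 1 → Ch (expP M b i))
    {N : ℕ} (hNM : N ≤ M)
    (hpow : ∀ {B : Type u} [CommRing B] [Algebra R B] (b : B), b ^ M = 0 →
      (expP M b 0).comp (X ^ M ^ k) = expP M b k ∧ (expP M b 1).comp (X ^ M ^ k) = expP M b (k + 1))
    (hN : ∀ (B : Type u) [CommRing B] [Algebra R B] (e : B), e ^ N = 0 → (inl e + inr 1 : DualNumber B) ^ M = 0)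
    {q q' : R[X]} (hq : ∀ {B : Type u} [CommRing B] [Algebra R B] (b : B), b ^ M = 0 → Φ B (expP M b k) = aeval b q)
    (hq' : ∀ {B : Type u} [CommRing B] [Algebra R B] (b : B), b ^ M = 0 → Φ B (expP M b (k + 1)) = aeval b q')
    (h0 : q.coeff 0 = 1) (h0' : q'.coeff 0 = 1) :
    X ^ N ∣ C (q.coeff 1) * q - derivative q -
      C (q'.coeff 1 * Ring.inverse ((M - 1).factorial : R)) * q * X ^ (M - 1) := by
  let P := Pw R N
  let e : P := eps R N
  have hP := isUnit_natCast_map (algebraMap R P) hR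
  have he : e ^ M = 0 := pow_eq_zero_of_le hNM (eps_pow R N)
  let κ : P := Ring.inverse ((M - 1).factorial : P) * e ^ (M - 1)
  have hη : (inr 1 : DualNumber P) ^ M = 0 := pow_eq_zero_of_le hM (by rw [sq, inr_mul_inr])
  have hδ : (inl e : DualNumber P) ^ M = 0 := by rw [← inlHom_apply P P, ← map_pow, he, map_zero]
  have hκ : (inr (Ring.inverse ((M - 1).factorial : P) * e ^ (M - 1)) : DualNumber P) ^ M = 0 := pow_eq_zero_of_le hM (by rw [sq, inr_mul_inr])
  have hde := hN P e (eps_pow R N)
  have key := congrArg (fun f : (DualNumber P)[X] => f.comp (X ^ M ^ k)) (mul_expP hP hM e he)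
  simp only [Polynomial.mul_comp, (hpow _ hη).1, (hpow _ hδ).1, (hpow _ hde).1, (hpow _ hκ).2] at key
  have h := congrArg (fun f => Φ (DualNumber P) f) key
  rw [hΦ.mul _ _ (hch _ _ hη (.inl rfl)) (hch _ _ hδ (.inl rfl)),
    hΦ.mul _ _ (hch _ _ hde (.inl rfl)) (hch _ _ hκ (.inr rfl)), hq _ hη, hq _ hδ, hq _ hde, hq' _ hκ] at h
  have e1 : (inr 1 : DualNumber P) = inl 0 + inr 1 := by simp
  have e2 : (inr (Ring.inverse ((M - 1).factorial : P) * e ^ (M - 1)) : DualNumber P) = inl 0 + inr κ := by simp [κ]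
  have e3 : (inl e : DualNumber P) = inl e + inr 0 := by simp
  conv_lhs at h => rw [e1, e3]
  conv_rhs at h => rw [e2]
  simp only [aeval_inl_add_inr, (aeval_zero_coeff q).1, (aeval_zero_coeff q).2, (aeval_zero_coeff q').1,
    (aeval_zero_coeff q').2, h0, h0', map_one] at h
  have h2 := congrArg TrivSqZeroExt.snd h
  simp only [snd_mul, fst_add, fst_inl, fst_inr, snd_add, snd_inl, snd_inr, zero_mul, add_zero, zero_add,
    smul_eq_mul, MulOpposite.smul_eq_mul_unop, MulOpposite.unop_op, one_mul, mul_one] at h2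
  rw [← AdjoinRoot.mk_eq_zero]
  have hmk : ∀ f : R[X], AdjoinRoot.mk (X ^ N) f = aeval e f := fun f => (AdjoinRoot.aeval_eq f).symm
  rw [hmk, map_sub, map_sub, map_mul, map_mul, map_mul, aeval_C, aeval_C, map_pow, aeval_X, map_mul,
    map_inverse (algebraMap R P) (hR (M - 1) (by omega)), map_natCast]
  linear_combination h2

end Universal

end Groth.Agent.GaExt23.BC
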