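import Groth.Agent.Lib.GaExt23.ExtShGa
import Groth.Agent.Lib.GaExt23.BidualChar

/-!
# The bidual of the additive group and natural multiplicative functions of characters
-/

set_option autoImplicit false
set_option linter.style.haveILetI false
set_option maxHeartbeats 1600000
set_option backward.isDefEq.respectTransparency false
set_option backward.isDefEq.respectTransparency.types false
universe u

open CategoryTheory CategoryTheory.Limits MonoidalCategory CartesianMonoidalCategory MonObj AlgebraicGeometry Opposite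

noncomputable section

namespace Groth.Agent.GaExt23.BP

open AdeqA (toSec toSec_comp toSec_ofSec toSec_injective)
open ExtSh (PS pr ψr ψr_comp ψr_pr toPS toPS_pr appTop_toPS cp evL evL_pr evL_cp)
open BC (Ch)

variable {S : Scheme.{u}}

/-- The dual of the additive group. -/
abbrev Du (S : Scheme.{u}) : BigSite.Ab Scheme.fppfPrecoverage S :=
  CGrpSh2.dualSh Scheme.fppfPrecoverage (CGrpSh2.Ga Scheme.fppfPrecoverage S)

/-- The bidual of the additive group. -/
abbrev DDu (S : Scheme.{u}) : BigSite.Ab Scheme.fppfPrecoverage S := CGrpSh2.dualSh Scheme.fppfPrecoverage (Du S)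

/-- The function of a point of `Gm`. -/
abbrev uv {T : Over S} (k : T ⟶ Red.Gm S) : Γ(T.left, ⊤) := (GmPts.unitOfPt k : Γ(T.left, ⊤))

theorem uv_injective {T : Over S} {k k' : T ⟶ Red.Gm S} (h : uv k = uv k') : k = k' := by
  rw [← GmPts.ptOfUnit_unitOfPt k, ← GmPts.ptOfUnit_unitOfPt k', Units.ext h]

theorem uv_comp {T T' : Over S} (g : T' ⟶ T) (k : T ⟶ Red.Gm S) : uv (g ≫ k) = g.left.appTop (uv k) := by
  rw [uv, GmPts.unitOfPt_comp]; rfl

/-- Values of a character. -/
abbrev cval {U : Over S} (χ : (Du S).obj.obj (op U)) {T : Over S} (r : T ⟶ U) (x : T ⟶ Red.Ga S) : T ⟶ Red.Gm S :=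
  (χ.hom.app (op (Over.mk r)) (ULift.up (Additive.ofMul x))).down.toMul

theorem char_ext {U : Over S} {χ χ' : (Du S).obj.obj (op U)}
    (h : ∀ (T : Over S) (r : T ⟶ U) (x : T ⟶ Red.Ga S), uv (cval χ r x) = uv (cval χ' r x)) : χ = χ' := by
  refine Sheaf.hom_ext (NatTrans.ext (funext fun V => AddCommGrpCat.ext fun z => ?_))
  exact ULift.ext _ _ (Additive.toMul.injective (uv_injective (h V.unop.left V.unop.hom z.down.toMul)))

theorem uv_cval_comp {U : Over S} (χ : (Du S).obj.obj (op U)) {T T' : Over S} (g : T' ⟶ T) (r : T ⟶ U)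
    (x : T ⟶ Red.Ga S) : uv (cval χ (g ≫ r) (g ≫ x)) = g.left.appTop (uv (cval χ r x)) := by
  rw [← uv_comp]
  refine congrArg (fun z => uv z) ?_
  exact congrArg (fun z => z.down.toMul)
    (NatTrans.naturality_apply χ.hom (Over.homMk g rfl : Over.mk (g ≫ r) ⟶ Over.mk r).op (ULift.up (Additive.ofMul x)))

theorem uv_cval_mul {U : Over S} (χ : (Du S).obj.obj (op U)) {T : Over S} (r : T ⟶ U) (x y : T ⟶ Red.Ga S) :
    uv (cval χ r (x * y)) = uv (cval χ r x) * uv (cval χ r y) := by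
  rw [uv, uv, uv, ← Units.val_mul, ← GmPts.unitOfPt_mul]
  refine congrArg (fun z => uv z) ?_
  exact congrArg (fun z => z.down.toMul)
    (map_add (χ.hom.app (op (Over.mk r))).hom (ULift.up (Additive.ofMul x)) (ULift.up (Additive.ofMul y)))

theorem uv_cval_one {U : Over S} (χ : (Du S).obj.obj (op U)) {T : Over S} (r : T ⟶ U) :
    uv (cval χ r (1 : T ⟶ Red.Ga S)) = 1 := by
  refine Eq.trans ?_ ((congrArg Units.val (GmPts.unitOfPt_one (T := T))).trans Units.val_one)
  refine congrArg (fun z => uv z) ?_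
  exact congrArg (fun z => z.down.toMul) (map_zero (χ.hom.app (op (Over.mk r))).hom)

section Value

variable {F : BigSite.Ab Scheme.fppfPrecoverage S}

/-- Values of a section of a dual sheaf. -/
abbrev dval {U : Over S} (Ψ : (CGrpSh2.dualSh Scheme.fppfPrecoverage F).obj.obj (op U)) {T : Over S} (r : T ⟶ U)
    (χ : F.obj.obj (op T)) : T ⟶ Red.Gm S :=
  (Ψ.hom.app (op (Over.mk r)) χ).down.toMul

theorem dval_map {U T T' : Over S} (Ψ : (CGrpSh2.dualSh Scheme.fppfPrecoverage F).obj.obj (op U)) (r : T ⟶ U)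
    (r' : T' ⟶ U) (k : T' ⟶ T) (hk : k ≫ r = r') (χ : F.obj.obj (op T)) :
    dval Ψ r' (F.obj.map k.op χ) = k ≫ dval Ψ r χ :=
  congrArg (fun z => z.down.toMul)
    (NatTrans.naturality_apply Ψ.hom (Over.homMk k hk : Over.mk r' ⟶ Over.mk r).op χ)

theorem dval_add {U T : Over S} (Ψ : (CGrpSh2.dualSh Scheme.fppfPrecoverage F).obj.obj (op U)) (r : T ⟶ U)
    (χ χ' : F.obj.obj (op T)) : uv (dval Ψ r (χ + χ')) = uv (dval Ψ r χ) * uv (dval Ψ r χ') := by
  rw [uv, uv, uv, ← Units.val_mul, ← GmPts.unitOfPt_mul]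
  refine congrArg (fun z => uv z) ?_
  exact congrArg (fun z => z.down.toMul) (map_add (Ψ.hom.app (op (Over.mk r))).hom χ χ')

theorem dval_zero {U T : Over S} (Ψ : (CGrpSh2.dualSh Scheme.fppfPrecoverage F).obj.obj (op U)) (r : T ⟶ U) :
    uv (dval Ψ r (0 : F.obj.obj (op T))) = 1 := by
  have h := dval_add Ψ r (0 : F.obj.obj (op T)) 0
  rw [add_zero] at h
  have hu : IsUnit (uv (dval Ψ r (0 : F.obj.obj (op T)))) := (GmPts.unitOfPt _).isUnit
  exact (hu.mul_left_cancel ((_root_.mul_one _).trans h)).symm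

end Value

variable {R : CommRingCat.{u}} {a : Spec R ⟶ S}

theorem inv_injective {C : Type u} [CommRing C] {q q' : C}
    (e : (Scheme.ΓSpecIso (CommRingCat.of C)).inv q = (Scheme.ΓSpecIso (CommRingCat.of C)).inv q') : q = q' :=
  (Scheme.ΓSpecIso (CommRingCat.of C)).symm.commRingCatIsoToRingEquiv.injective e

/-- The polynomial of a character. -/
def poly (χ : (Du S).obj.obj (op (Over.mk a))) : Polynomial R :=
  (Scheme.ΓSpecIso (CommRingCat.of (Polynomial R))).hom (uv (cval χ (pr a _) (cp a (Polynomial.X : Polynomial R))))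

theorem uv_cval_poly (χ : (Du S).obj.obj (op (Over.mk a))) {T : Over S} (r : T ⟶ Over.mk a) (x : T ⟶ Red.Ga S) :
    uv (cval χ r x) = Polynomial.eval₂ (ψr r) (Red.gaFn x) (poly χ) := by
  rw [show uv (cval χ r x) = uv (cval χ (evL r x ≫ pr a _) (evL r x ≫ cp a (Polynomial.X : Polynomial R))) by
    rw [evL_pr, evL_cp], uv_cval_comp]
  refine Eq.trans ?_ (appTop_toPS r (Polynomial.eval₂RingHom (ψr r) (Red.gaFn x))
    (RingHom.ext fun _ => Polynomial.eval₂_C _ _) (poly χ))
  exact congrArg _ (ConcreteCategory.congr_hom (Scheme.ΓSpecIso (CommRingCat.of (Polynomial R))).hom_inv_id _).symm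

theorem eval₂_cp {C : Type u} [CommRing C] [Algebra R C] (q : C) (f : Polynomial R) :
    Polynomial.eval₂ (ψr (pr a C)) (Red.gaFn (cp a q)) f =
      (Scheme.ΓSpecIso (CommRingCat.of C)).inv (Polynomial.aeval q f) := by
  rw [cp, GaPts.gaFn_ptOfFn]
  refine Eq.symm (DFunLike.congr_fun (Polynomial.ringHom_ext
    (f := (Scheme.ΓSpecIso (CommRingCat.of C)).inv.hom.comp (Polynomial.aeval q : Polynomial R →ₐ[R] C).toRingHom)
    (g := Polynomial.eval₂RingHom (ψr (pr a C)) ((Scheme.ΓSpecIso (CommRingCat.of C)).inv q)) (fun z => ?_) ?_) f)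
  · show (Scheme.ΓSpecIso (CommRingCat.of C)).inv (Polynomial.aeval q (Polynomial.C z)) = _
    rw [Polynomial.aeval_C]
    exact (ψr_pr C z).symm.trans (Polynomial.eval₂_C (ψr (pr a C)) _).symm
  · show (Scheme.ΓSpecIso (CommRingCat.of C)).inv (Polynomial.aeval q Polynomial.X) = _
    rw [Polynomial.aeval_X]
    exact (Polynomial.eval₂_X (ψr (pr a C)) _).symm

theorem ch_poly (χ : (Du S).obj.obj (op (Over.mk a))) : Ch (poly χ) := by
  have hv : ∀ {C : Type u} [CommRing C] [Algebra R C] (q : C), uv (cval χ (pr a C) (cp a q)) =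
      (Scheme.ΓSpecIso (CommRingCat.of C)).inv (Polynomial.aeval q (poly χ)) := fun q =>
    (uv_cval_poly χ _ _).trans (eval₂_cp q _)
  refine ⟨inv_injective ?_, inv_injective ?_⟩
  · have h := hv (C := R) 0
    have e1 : cp a (0 : R) = 1 := by rw [cp, map_zero]; exact GaPts.ptOfFn_zero
    rw [e1, uv_cval_one] at h
    rw [← Polynomial.coe_aeval_eq_eval, map_one]
    exact h.symm
  · let P := MvPolynomial (Fin 2) R
    have cmul : cp a (MvPolynomial.X 0 : P) * cp a (MvPolynomial.X 1) = cp a (MvPolynomial.X 0 + MvPolynomial.X 1) := by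
      rw [cp, cp, cp, map_add]; exact (GaPts.ptOfFn_add _ _).symm
    have h := uv_cval_mul χ (pr a P) (cp a (MvPolynomial.X 0 : P)) (cp a (MvPolynomial.X 1))
    rw [cmul, hv, hv, hv] at h
    exact h.trans (map_mul (Scheme.ΓSpecIso (CommRingCat.of P)).inv.hom _ _).symm

theorem eval₂_mul_char {f : Polynomial R} (hf : Ch f) {A : Type u} [CommRing A] (ψ : R →+* A) (x y : A) :
    Polynomial.eval₂ ψ (x + y) f = Polynomial.eval₂ ψ x f * Polynomial.eval₂ ψ y f := by
  letI := ψ.toAlgebra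
  have h := congrArg (MvPolynomial.aeval ![x, y]) hf.2
  simp only [map_mul, ← Polynomial.aeval_algHom_apply, map_add, MvPolynomial.aeval_X,
    Matrix.cons_val_zero, Matrix.cons_val_one] at h
  exact h

/-- The value of the character of a polynomial at a point. -/
def charPt (f : Polynomial R) (hf : Ch f) {T : Over S} (r : T ⟶ Over.mk a) (x : T ⟶ Red.Ga S) : T ⟶ Red.Gm S :=
  GmPts.ptOfUnit (Units.map (Polynomial.eval₂RingHom (ψr r) (Red.gaFn x)).toMonoidHom hf.isUnit.unit)

theorem uv_charPt (f : Polynomial R) (hf : Ch f) {T : Over S} (r : T ⟶ Over.mk a) (x : T ⟶ Red.Ga S) :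
    uv (charPt f hf r x) = Polynomial.eval₂ (ψr r) (Red.gaFn x) f :=
  congrArg Units.val (GmPts.unitOfPt_ptOfUnit _)

theorem charPt_mul (f : Polynomial R) (hf : Ch f) {T : Over S} (r : T ⟶ Over.mk a) (x y : T ⟶ Red.Ga S) :
    charPt f hf r (x * y) = charPt f hf r x * charPt f hf r y := by
  refine uv_injective ?_
  rw [uv_charPt, GaPts.gaFn_mul, eval₂_mul_char hf, ← uv_charPt f hf r x, ← uv_charPt f hf r y]
  exact ((congrArg Units.val (GmPts.unitOfPt_mul _ _)).trans (Units.val_mul _ _)).symm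

theorem charPt_comp (f : Polynomial R) (hf : Ch f) {T T' : Over S} (g : T' ⟶ T) (r : T ⟶ Over.mk a)
    (x : T ⟶ Red.Ga S) : charPt f hf (g ≫ r) (g ≫ x) = g ≫ charPt f hf r x := by
  refine uv_injective ?_
  rw [uv_comp, uv_charPt, uv_charPt, ψr_comp, GaPts.gaFn_comp]
  exact (Polynomial.hom_eval₂ f (ψr r) g.left.appTop.hom _).symm

/-- The values of the character of a polynomial. -/
def charMap (f : Polynomial R) (hf : Ch f) {T : Over S} (r : T ⟶ Over.mk a) :
    (CGrpSh2.Ga Scheme.fppfPrecoverage S).obj.obj (op T) →+ (CGrpSh2.Gm Scheme.fppfPrecoverage S).obj.obj (op T) :=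
  AddMonoidHom.mk' (fun z => ULift.up (Additive.ofMul (charPt f hf r z.down.toMul)))
    fun x y => ULift.ext _ _ (congrArg Additive.ofMul (charPt_mul f hf r x.down.toMul y.down.toMul))

/-- The character of a polynomial. -/
def ofChar (f : Polynomial R) (hf : Ch f) : (Du S).obj.obj (op (Over.mk a)) :=
  ⟨{ app := fun V => AddCommGrpCat.ofHom (charMap f hf V.unop.hom)
     naturality := fun V V' g => AddCommGrpCat.ext fun z => ULift.ext _ _ (congrArg Additive.ofMul (by
       show charPt f hf V'.unop.hom (g.unop.left ≫ z.down.toMul) = g.unop.left ≫ charPt f hf V.unop.hom z.down.toMul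
       rw [← charPt_comp, Over.w g.unop])) }⟩

theorem uv_ofChar (f : Polynomial R) (hf : Ch f) {T : Over S} (r : T ⟶ Over.mk a) (x : T ⟶ Red.Ga S) :
    uv (cval (ofChar f hf) r x) = Polynomial.eval₂ (ψr r) (Red.gaFn x) f := by
  exact uv_charPt f hf r x

theorem ofChar_poly (χ : (Du S).obj.obj (op (Over.mk a))) : ofChar (poly χ) (ch_poly χ) = χ :=
  char_ext fun _ r x => (uv_ofChar _ _ r x).trans (uv_cval_poly χ r x).symm

theorem ofChar_mul (f g : Polynomial R) (hf : Ch f) (hg : Ch g) :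
    (ofChar (f * g) (hf.mul hg) : (Du S).obj.obj (op (Over.mk a))) = ofChar f hf + ofChar g hg :=
  char_ext fun T r x => by
    rw [uv_ofChar, Polynomial.eval₂_mul, ← uv_ofChar f hf r x, ← uv_ofChar g hg r x, uv, uv, ← Units.val_mul,
      ← GmPts.unitOfPt_mul]
    rfl

theorem ofChar_one : (ofChar 1 Ch.one : (Du S).obj.obj (op (Over.mk a))) = 0 :=
  char_ext fun T r x => by
    rw [uv_ofChar, Polynomial.eval₂_one, ← Units.val_one, ← GmPts.unitOfPt_one]
    rfl

theorem map_ofChar {R' : CommRingCat.{u}} {a' : Spec R' ⟶ S} (k : Over.mk a' ⟶ Over.mk a) (φ : R →+* R')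
    (hk : k.left = Spec.map (CommRingCat.ofHom φ)) (f : Polynomial R) (hf : Ch f) :
    (Du S).obj.map k.op (ofChar f hf) = ofChar (f.map φ) (hf.map φ) :=
  char_ext fun T r x => by
    refine Eq.trans (uv_ofChar f hf (r ≫ k) x) (Eq.trans ?_ (uv_ofChar _ _ r x).symm)
    rw [Polynomial.eval₂_map]
    refine congrArg (fun ψ => Polynomial.eval₂ ψ _ f) (RingHom.ext fun z => ?_)
    show (toSec (r.left ≫ k.left)) z = _
    rw [hk, toSec_comp]
    rfl

/-- The structure morphism of an algebra. -/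
abbrev bs (a : Spec R ⟶ S) (B : Type u) [CommRing B] [Algebra R B] : Spec (CommRingCat.of B) ⟶ S :=
  Spec.map (CommRingCat.ofHom (algebraMap R B)) ≫ a

open Classical in
/-- The function of characters of a section of the bidual. -/
def gval (Ψ : (DDu S).obj.obj (op (Over.mk a))) (B : Type u) [CommRing B] [Algebra R B] (f : Polynomial B) : B :=
  if h : Ch f then (Scheme.ΓSpecIso (CommRingCat.of B)).hom
    (uv (dval Ψ (pr a B) (ofChar (R := CommRingCat.of B) (a := bs a B) f h)))
  else 0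

theorem inv_gval (Ψ : (DDu S).obj.obj (op (Over.mk a))) {B : Type u} [CommRing B] [Algebra R B] {f : Polynomial B}
    (h : Ch f) : (Scheme.ΓSpecIso (CommRingCat.of B)).inv (gval Ψ B f) =
      uv (dval Ψ (pr a B) (ofChar (R := CommRingCat.of B) (a := bs a B) f h)) := by
  rw [gval, dif_pos h]
  exact ConcreteCategory.congr_hom (Scheme.ΓSpecIso (CommRingCat.of B)).hom_inv_id _

theorem gval_nat (Ψ : (DDu S).obj.obj (op (Over.mk a))) {B C : Type u} [CommRing B] [Algebra R B] [CommRing C]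
    [Algebra R C] (φ : B →ₐ[R] C) (f : Polynomial B) (hf : Ch f) :
    gval Ψ C (f.map φ.toRingHom) = φ (gval Ψ B f) := by
  let k : PS a C ⟶ PS a B := Over.homMk (Spec.map (CommRingCat.ofHom φ.toRingHom)) (by
    show Spec.map _ ≫ Spec.map _ ≫ a = Spec.map _ ≫ a
    rw [← Spec.map_comp_assoc, ← CommRingCat.ofHom_comp]
    congr 3
    exact φ.comp_algebraMap)
  have hk : k ≫ pr a B = pr a C := by
    apply Over.OverMorphism.ext
    show Spec.map _ ≫ Spec.map _ = Spec.map _
    rw [← Spec.map_comp, ← CommRingCat.ofHom_comp]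
    congr 2
    exact φ.comp_algebraMap
  refine inv_injective ?_
  rw [inv_gval Ψ (hf.map _),
    ← map_ofChar (R := CommRingCat.of B) (R' := CommRingCat.of C) (a := bs a B) (a' := bs a C) k φ.toRingHom rfl f hf]
  rw [dval_map Ψ (pr a B) (pr a C) k hk]
  refine (uv_comp k _).trans ?_
  rw [← inv_gval Ψ hf]
  exact (ConcreteCategory.congr_hom (Scheme.ΓSpecIso_inv_naturality (CommRingCat.ofHom φ.toRingHom)) (gval Ψ B f)).symm

theorem gval_mul (Ψ : (DDu S).obj.obj (op (Over.mk a))) {B : Type u} [CommRing B] [Algebra R B] (f g : Polynomial B)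
    (hf : Ch f) (hg : Ch g) : gval Ψ B (f * g) = gval Ψ B f * gval Ψ B g := by
  refine inv_injective ?_
  rw [inv_gval Ψ (hf.mul hg)]
  refine (congrArg (fun χ => uv (dval Ψ (pr a B) χ)) (ofChar_mul (R := CommRingCat.of B) (a := bs a B) f g hf hg)).trans ?_
  refine Eq.trans ?_ (map_mul (Scheme.ΓSpecIso (CommRingCat.of B)).inv.hom _ _).symm
  exact (dval_add Ψ (pr a B) _ _).trans (congrArg₂ (· * ·) (inv_gval Ψ hf).symm (inv_gval Ψ hg).symm)

theorem gval_one (Ψ : (DDu S).obj.obj (op (Over.mk a))) (B : Type u) [CommRing B] [Algebra R B] :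
    gval Ψ B 1 = 1 := by
  refine inv_injective ?_
  rw [inv_gval Ψ Ch.one]
  refine (congrArg (fun χ => uv (dval Ψ (pr a B) χ)) (ofChar_one (R := CommRingCat.of B) (a := bs a B))).trans ?_
  exact (dval_zero Ψ (pr a B)).trans (map_one (Scheme.ΓSpecIso (CommRingCat.of B)).inv.hom).symm

theorem isNat_gval (Ψ : (DDu S).obj.obj (op (Over.mk a))) : BC.IsNat (R := R) (gval Ψ) where
  nat φ f hf := gval_nat Ψ φ f hf
  mul f g hf hg := gval_mul Ψ f g hf hg
  one B _ _ := gval_one Ψ B

/-- The image of a point in the bidual. -/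
abbrev ddp {U : Over S} (x : U ⟶ Red.Ga S) : (DDu S).obj.obj (op U) :=
  (CGrpSh2.toDoubleDual Scheme.fppfPrecoverage (CGrpSh2.Ga Scheme.fppfPrecoverage S)).hom.app (op U)
    (ULift.up (Additive.ofMul x))

theorem app_ddp {U T : Over S} (x : U ⟶ Red.Ga S) (r : T ⟶ U) (χ : (Du S).obj.obj (op T)) :
    dval (ddp x) r χ = cval χ (𝟙 T) (r ≫ x) := rfl

theorem gval_ddp (x : Over.mk a ⟶ Red.Ga S) {B : Type u} [CommRing B] [Algebra R B] {f : Polynomial B} (hf : Ch f) :
    gval (ddp x) B f = f.eval (algebraMap R B ((Scheme.ΓSpecIso R).hom (Red.gaFn x))) := by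
  refine inv_injective ?_
  rw [inv_gval _ hf, app_ddp, uv_ofChar]
  have h1 : ψr (a := bs a B) (𝟙 (PS a B)) = (Scheme.ΓSpecIso (CommRingCat.of B)).inv.hom := by
    show (toSec (𝟙 (Spec (CommRingCat.of B)))).hom = _
    simp [toSec]
  have h2 : Red.gaFn (pr a B ≫ x) = (Scheme.ΓSpecIso (CommRingCat.of B)).inv
      (algebraMap R B ((Scheme.ΓSpecIso R).hom (Red.gaFn x))) := by
    rw [GaPts.gaFn_comp]
    refine Eq.trans ?_ (ConcreteCategory.congr_hom (Scheme.ΓSpecIso_inv_naturality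
      (CommRingCat.ofHom (algebraMap R B))) ((Scheme.ΓSpecIso R).hom (Red.gaFn x))).symm
    exact congrArg _ (ConcreteCategory.congr_hom (Scheme.ΓSpecIso R).hom_inv_id (Red.gaFn x)).symm
  exact (congrArg₂ (fun ψ y => Polynomial.eval₂ ψ y f) h1 h2).trans (Polynomial.eval₂_at_apply _ _)

theorem affine_cover_mem (T : Over S) :
    Sieve.ofArrows (fun k => Over.mk (T.left.affineCover.f k ≫ T.hom))
      (fun k => (Over.homMk (T.left.affineCover.f k) rfl : Over.mk (T.left.affineCover.f k ≫ T.hom) ⟶ T)) ∈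
        QuotSh.J Scheme.fppfPrecoverage S T := by
  rw [GrothendieckTopology.mem_over_iff, Sieve.overEquiv_ofArrows]
  refine Precoverage.generate_mem_toGrothendieck ((Scheme.ofArrows_mem_precoverage_iff _).2
    ⟨fun y => ?_, fun k => ⟨show Flat (T.left.affineCover.f k) from inferInstance,
      show LocallyOfFinitePresentation (T.left.affineCover.f k) from inferInstance⟩⟩)
  exact ⟨T.left.affineCover.idx y, T.left.affineCover.covers y⟩

theorem separated {F : BigSite.Ab Scheme.fppfPrecoverage S} {T : Over S} {x y : F.obj.obj (op T)}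
    (h : ∀ {R : CommRingCat.{u}} (g : Spec R ⟶ T.left),
      F.obj.map (Over.homMk g rfl : Over.mk (g ≫ T.hom) ⟶ T).op x =
        F.obj.map (Over.homMk g rfl : Over.mk (g ≫ T.hom) ⟶ T).op y) : x = y := by
  refine (((isSheaf_iff_isSheaf_of_type _ _).1
    ((Presheaf.isSheaf_iff_isSheaf_forget _ F.obj (forget AddCommGrpCat.{u + 1})).1 F.property)) _
      (affine_cover_mem T)).isSeparatedFor.ext fun V r hr => ?_
  obtain ⟨W, c, _, ⟨k⟩, rfl⟩ := hr
  show F.obj.map (c ≫ _).op x = F.obj.map (c ≫ _).op y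
  rw [op_comp, Functor.map_comp, ConcreteCategory.comp_apply, ConcreteCategory.comp_apply, h]

theorem eq_ddp (hev : ∀ (Φ : ∀ (B : Type u) [CommRing B] [Algebra R B], Polynomial B → B), BC.IsNat Φ →
      ∀ {B : Type u} [CommRing B] [Algebra R B] {f : Polynomial B}, Ch f → Φ B f = f.eval (algebraMap R B (BC.pnt Φ)))
    (Ψ : (DDu S).obj.obj (op (Over.mk a))) :
    Ψ = ddp (GaPts.ptOfFn ((Scheme.ΓSpecIso R).inv (BC.pnt (gval Ψ)))) := by
  set x : Over.mk a ⟶ Red.Ga S := GaPts.ptOfFn ((Scheme.ΓSpecIso R).inv (BC.pnt (gval Ψ)))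
  have hx : (Scheme.ΓSpecIso R).hom (Red.gaFn x) = BC.pnt (gval Ψ) := by
    rw [GaPts.gaFn_ptOfFn]
    exact ConcreteCategory.congr_hom (Scheme.ΓSpecIso R).inv_hom_id _
  refine Sheaf.hom_ext (NatTrans.ext (funext fun V => AddCommGrpCat.ext fun χ => ?_))
  refine separated (F := CGrpSh2.Gm Scheme.fppfPrecoverage S) (T := V.unop.left) fun {R'} g => ?_
  let φ : R ⟶ R' := Spec.preimage (g ≫ V.unop.hom.left)
  letI : Algebra R R' := φ.hom.toAlgebra
  have hφ : Spec.map (CommRingCat.ofHom (algebraMap R R')) = g ≫ V.unop.hom.left := Spec.map_preimage _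
  have hw : g ≫ V.unop.left.hom = bs a R' := by
    show _ = Spec.map _ ≫ a
    rw [hφ, Category.assoc]
    exact congrArg (g ≫ ·) (Over.w V.unop.hom).symm
  let k : PS a R' ⟶ V.unop.left := Over.homMk g hw
  have hk : k ≫ V.unop.hom = pr a R' := Over.OverMorphism.ext hφ.symm
  have key : (CGrpSh2.Gm Scheme.fppfPrecoverage S).obj.map k.op (Ψ.hom.app V χ) =
      (CGrpSh2.Gm Scheme.fppfPrecoverage S).obj.map k.op ((ddp x).hom.app V χ) := by
    have hn : ∀ Θ : (DDu S).obj.obj (op (Over.mk a)),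
        Θ.hom.app (op (Over.mk (pr a R'))) ((Du S).obj.map k.op χ) =
          (CGrpSh2.Gm Scheme.fppfPrecoverage S).obj.map k.op (Θ.hom.app V χ) := fun Θ =>
      NatTrans.naturality_apply Θ.hom (Over.homMk k hk : Over.mk (pr a R') ⟶ V.unop).op χ
    rw [← hn, ← hn, ← ofChar_poly (R := R') (a := bs a R') ((Du S).obj.map k.op χ)]
    refine ULift.ext _ _ (Additive.toMul.injective (uv_injective ?_))
    have hch := ch_poly (R := R') (a := bs a R') ((Du S).obj.map k.op χ)
    rw [← inv_gval Ψ hch, ← inv_gval (ddp x) hch, gval_ddp x hch, hx]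
    exact congrArg _ (hev _ (isNat_gval Ψ) hch)
  let k' : Over.mk (g ≫ V.unop.left.hom) ⟶ PS a R' := Over.homMk (𝟙 _) (by rw [Category.id_comp]; exact hw.symm)
  have hkk : (Over.homMk g rfl : Over.mk (g ≫ V.unop.left.hom) ⟶ V.unop.left) = k' ≫ k :=
    Over.OverMorphism.ext (Category.id_comp g).symm
  show (CGrpSh2.Gm Scheme.fppfPrecoverage S).obj.map _ (Ψ.hom.app V χ) = _
  rw [hkk, op_comp, Functor.map_comp, ConcreteCategory.comp_apply, ConcreteCategory.comp_apply]
  exact congrArg _ key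

/-- Biduality of the additive group, given the evaluation property of natural functions of characters. -/
theorem isIso_toDoubleDual
    (hev : ∀ {R : CommRingCat.{u}}, (Spec R ⟶ S) →
      ∀ (Φ : ∀ (B : Type u) [CommRing B] [Algebra R B], Polynomial B → B), BC.IsNat Φ →
      ∀ {B : Type u} [CommRing B] [Algebra R B] {f : Polynomial B}, Ch f → Φ B f = f.eval (algebraMap R B (BC.pnt Φ))) :
    IsIso (CGrpSh2.toDoubleDual Scheme.fppfPrecoverage (CGrpSh2.Ga Scheme.fppfPrecoverage S)) := by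
  set θ := CGrpSh2.toDoubleDual Scheme.fppfPrecoverage (CGrpSh2.Ga Scheme.fppfPrecoverage S)
  have hinj : ∀ {R : CommRingCat.{u}} (a : Spec R ⟶ S) (x y : Over.mk a ⟶ Red.Ga S), ddp x = ddp y → x = y := by
    intro R a x y h
    have key : ∀ z : Over.mk a ⟶ Red.Ga S, BC.pnt (gval (ddp z)) = (Scheme.ΓSpecIso R).hom (Red.gaFn z) := fun z =>
      BC.pnt_of_eval _ _ (gval_ddp z (BC.ch_line R))
    refine GaPts.gaFn_injective ?_
    exact (Scheme.ΓSpecIso R).commRingCatIsoToRingEquiv.injective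
      ((key x).symm.trans ((congrArg (fun t => BC.pnt (gval t)) h).trans (key y)))
  haveI : Mono θ := DE.mono_of_sections _ _ fun U x y hxy => by
    refine separated (F := CGrpSh2.Ga Scheme.fppfPrecoverage S) fun {R} g => ?_
    refine ULift.ext _ _ (Additive.toMul.injective (hinj (g ≫ U.hom) _ _ ?_))
    show θ.hom.app _ ((CGrpSh2.Ga Scheme.fppfPrecoverage S).obj.map _ x) =
      θ.hom.app _ ((CGrpSh2.Ga Scheme.fppfPrecoverage S).obj.map _ y)
    rw [NatTrans.naturality_apply θ.hom, NatTrans.naturality_apply θ.hom, hxy]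
  haveI : Epi θ := by
    rw [← Sheaf.isLocallySurjective_iff_epi']
    refine ⟨fun {U} Ψ => epi_of_surjective_imageSieve _ Ψ fun {R} g => ?_⟩
    refine GrothendieckTopology.superset_covering _ (fun W k _ => ?_)
      ((QuotSh.J Scheme.fppfPrecoverage S).top_mem _)
    set Ψ' : (DDu S).obj.obj (op (Over.mk (g ≫ U.hom))) := (DDu S).obj.map (Over.homMk g rfl : Over.mk (g ≫ U.hom) ⟶ U).op Ψ
    refine ⟨(CGrpSh2.Ga Scheme.fppfPrecoverage S).obj.map k.op
      (ULift.up (Additive.ofMul (GaPts.ptOfFn ((Scheme.ΓSpecIso R).inv (BC.pnt (gval Ψ')))))), ?_⟩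
    refine (NatTrans.naturality_apply θ.hom k.op _).trans ?_
    exact congrArg _ (eq_ddp (fun Φ hΦ {_ _ _ _} hf => hev (g ≫ U.hom) Φ hΦ hf) Ψ').symm
  exact isIso_of_mono_of_epi θ

end Groth.Agent.GaExt23.BP
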