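import Groth.Agent.Lib.GaExt23.AlphaExt
import Groth.Agent.Lib.GaExt23.BidualPts
import Groth.Agent.Lib.GaExt23.BidualEval

/-!
# The dual of `α_p` is `α_p`
-/

set_option autoImplicit false
set_option linter.style.haveILetI false
set_option maxHeartbeats 1600000
set_option backward.isDefEq.respectTransparency false
set_option backward.isDefEq.respectTransparency.types false
universe u

open CategoryTheory CategoryTheory.Limits MonoidalCategory CartesianMonoidalCategory MonObj AlgebraicGeometry Opposite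
open Polynomial (eval)

noncomputable section

namespace Groth.Agent.GaExt23.AD

open APts (αG fn pt fn_pt fn_comp fn_injective fn_mul fn_one fn_pow_one algΓ)
open BP (uv uv_injective uv_comp dval dval_map dval_add dval_zero inv_injective)
open GaDual (expP)

variable {p : ℕ} [hp : Fact p.Prime] {R : Type u} [CommRing R] [CharP R p]

/-- The sheaf of points of `α_p`. -/
abbrev αSh (p : ℕ) (R : Type u) [Fact p.Prime] [CommRing R] [CharP R p] :
    BigSite.Ab Scheme.fppfPrecoverage (Spec (CommRingCat.of R)) :=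
  CGrpSh.pts Scheme.fppfPrecoverage (αG p R 1)

theorem sym {B : Type u} [CommRing B] (c x : B) : (expP p c 0).eval x = (expP p x 0).eval c := by
  rw [BC.eval_expP, BC.eval_expP]
  refine Finset.sum_congr rfl fun j _ => ?_
  rw [pow_zero, _root_.mul_one]
  ring

theorem eval_add {B : Type u} [CommRing B] [Algebra R B] {c : B} (hc : c ^ p = 0) (x y : B) :
    (expP p c 0).eval (x + y) = (expP p c 0).eval x * (expP p c 0).eval y :=
  BP.eval₂_mul_char (R := CommRingCat.of B) (BC.ch_expP_charP (R := R) p hc 0) (RingHom.id B) x y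

theorem map_eval_eps {A B : Type u} [CommRing A] [CommRing B] (f : DualNumber A →+* B) (x : DualNumber A) :
    (expP p (f DualNumber.eps) 0).eval (f x) = f (1 + DualNumber.eps * x) := by
  rw [BC.expP_sq_zero hp.out.two_le (by rw [← map_mul, DualNumber.eps_mul_eps, map_zero])]
  simp

theorem isUnit_eval {T : Over (Spec (CommRingCat.of R))} (c x : T ⟶ αG p R 1) : IsUnit ((expP p (fn c) 0).eval (fn x)) := by
  letI := algΓ T
  exact (BC.ch_expP_charP (R := R) p (fn_pow_one c) 0).isUnit.map (Polynomial.evalRingHom (fn x))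

/-- The pairing. -/
def pair {T : Over (Spec (CommRingCat.of R))} (c x : T ⟶ αG p R 1) : T ⟶ Red.Gm (Spec (CommRingCat.of R)) := GmPts.ptOfUnit (isUnit_eval c x).unit

theorem uv_pair {T : Over (Spec (CommRingCat.of R))} (c x : T ⟶ αG p R 1) : uv (pair c x) = (expP p (fn c) 0).eval (fn x) :=
  (congrArg Units.val (GmPts.unitOfPt_ptOfUnit _)).trans (isUnit_eval c x).unit_spec

theorem pair_symm {T : Over (Spec (CommRingCat.of R))} (c x : T ⟶ αG p R 1) : pair c x = pair x c :=
  uv_injective (by rw [uv_pair, uv_pair, sym])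

theorem pair_mul {T : Over (Spec (CommRingCat.of R))} (c x y : T ⟶ αG p R 1) : pair c (x * y) = pair c x * pair c y := by
  letI := algΓ T
  refine uv_injective ?_
  rw [uv_pair, fn_mul, eval_add (R := R) (fn_pow_one c), ← uv_pair c x, ← uv_pair c y]
  exact ((congrArg Units.val (GmPts.unitOfPt_mul _ _)).trans (Units.val_mul _ _)).symm

theorem pair_mul_left {T : Over (Spec (CommRingCat.of R))} (c d x : T ⟶ αG p R 1) : pair (c * d) x = pair c x * pair d x := by
  rw [pair_symm, pair_mul, pair_symm x c, pair_symm x d]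

theorem pair_comp {T T' : Over (Spec (CommRingCat.of R))} (g : T' ⟶ T) (c x : T ⟶ αG p R 1) : pair (g ≫ c) (g ≫ x) = g ≫ pair c x := by
  refine uv_injective ?_
  letI := algΓ T
  rw [uv_comp, uv_pair, uv_pair, fn_comp, fn_comp]
  refine Eq.trans ?_ (Polynomial.eval_map_apply g.left.appTop.hom _).symm.symm
  rw [BC.map_expP g.left.appTop.hom (BC.isUnit_natCast_map (algebraMap R Γ(T.left, ⊤))
    (fun j hj => GaDual.isUnit_factorial p hj)) (fn c) 0]

/-- The character of a point on sections. -/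
def charHom {T : Over (Spec (CommRingCat.of R))} (c : T ⟶ αG p R 1) :
    (αSh p R).obj.obj (op T) →+ (CGrpSh2.Gm Scheme.fppfPrecoverage (Spec (CommRingCat.of R))).obj.obj (op T) :=
  AddMonoidHom.mk' (fun z => ULift.up (Additive.ofMul (pair c z.down.toMul)))
    fun x y => ULift.ext _ _ (congrArg Additive.ofMul (pair_mul c x.down.toMul y.down.toMul))

/-- The character of a point. -/
def charOf {U : Over (Spec (CommRingCat.of R))} (c : U ⟶ αG p R 1) : (CGrpSh2.dualSh Scheme.fppfPrecoverage (αSh p R)).obj.obj (op U) :=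
  ⟨{ app := fun V => AddCommGrpCat.ofHom (charHom (V.unop.hom ≫ c))
     naturality := fun V V' g => AddCommGrpCat.ext fun z => ULift.ext _ _ (congrArg Additive.ofMul (by
       show pair (V'.unop.hom ≫ c) (g.unop.left ≫ z.down.toMul) = g.unop.left ≫ pair (V.unop.hom ≫ c) z.down.toMul
       rw [← pair_comp, ← Category.assoc, Over.w g.unop])) }⟩

theorem dval_charOf {U T : Over (Spec (CommRingCat.of R))} (c : U ⟶ αG p R 1) (r : T ⟶ U) (x : T ⟶ αG p R 1) :
    dval (charOf c) r (ULift.up (Additive.ofMul x)) = pair (r ≫ c) x := rfl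

theorem dual_ext {U : Over (Spec (CommRingCat.of R))} {φ ψ : (CGrpSh2.dualSh Scheme.fppfPrecoverage (αSh p R)).obj.obj (op U)}
    (h : ∀ (T : Over (Spec (CommRingCat.of R))) (r : T ⟶ U) (x : T ⟶ αG p R 1),
      dval φ r (ULift.up (Additive.ofMul x)) = dval ψ r (ULift.up (Additive.ofMul x))) : φ = ψ :=
  Sheaf.hom_ext (NatTrans.ext (funext fun V => AddCommGrpCat.ext fun z =>
    ULift.ext _ _ (Additive.toMul.injective (h V.unop.left V.unop.hom z.down.toMul))))

theorem charOf_mul {U : Over (Spec (CommRingCat.of R))} (c d : U ⟶ αG p R 1) : charOf (c * d) = charOf c + charOf d :=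
  dual_ext fun T r x => by
    rw [dval_charOf, MonObj.comp_mul, pair_mul_left]
    rfl

/-- The comparison map. -/
def toDual : (αSh p R) ⟶ CGrpSh2.dualSh Scheme.fppfPrecoverage (αSh p R) :=
  ⟨{ app := fun U => AddCommGrpCat.ofHom (AddMonoidHom.mk'
      (fun z : (αSh p R).obj.obj (op U.unop) => charOf z.down.toMul) fun x y => charOf_mul x.down.toMul y.down.toMul)
     naturality := fun U U' g => AddCommGrpCat.ext fun z => dual_ext fun T r x =>
       congrArg (fun t => pair t x) (Category.assoc r g.unop z.down.toMul).symm }⟩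

section Affine

variable {A : CommRingCat.{u}} {a : Spec A ⟶ (Spec (CommRingCat.of R))}

open ExtSh (PS pr ψr ψr_pr toPS toPS_pr appTop_toPS)

/-- The coordinate. -/
abbrev coord (c : Over.mk a ⟶ αG p R 1) : A := (Scheme.ΓSpecIso A).hom (fn (T := Over.mk a) c)

theorem fn_pr_comp (c : Over.mk a ⟶ αG p R 1) (C : Type u) [CommRing C] [Algebra A C] :
    fn (pr a C ≫ c) = (Scheme.ΓSpecIso (CommRingCat.of C)).inv (algebraMap A C (coord c)) := by
  rw [fn_comp]
  refine Eq.trans ?_ (ConcreteCategory.congr_hom (Scheme.ΓSpecIso_inv_naturality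
    (CommRingCat.ofHom (algebraMap A C))) (coord c)).symm
  exact congrArg _ (ConcreteCategory.congr_hom (Scheme.ΓSpecIso A).hom_inv_id _).symm

/-- The function attached to an element of an algebra. -/
abbrev sec {C : Type u} [CommRing C] [Algebra A C] (q : C) : Γ((PS a C).left, ⊤) :=
  (Scheme.ΓSpecIso (CommRingCat.of C)).inv q

theorem sec_pow {C : Type u} [CommRing C] [Algebra A C] (q : C) (hq : q ^ p = 0) :
    (sec (a := a) q) ^ p ^ 1 = 0 := by
  rw [pow_one]
  exact (map_pow (Scheme.ΓSpecIso (CommRingCat.of C)).inv.hom q p).symm.trans (by rw [hq, map_zero])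

/-- A point of `α_p` with given coordinate. -/
def αp {C : Type u} [CommRing C] [Algebra A C] (q : C) (hq : q ^ p = 0) : PS a C ⟶ αG p R 1 :=
  pt (T := PS a C) (sec q) (sec_pow q hq)

theorem fn_αp {C : Type u} [CommRing C] [Algebra A C] (q : C) (hq : q ^ p = 0) :
    fn (T := PS a C) (αp (a := a) q hq) = sec (a := a) q := fn_pt (T := PS a C) (sec q) (sec_pow q hq)

theorem toPS_αp {T : Over (Spec (CommRingCat.of R))} (r : T ⟶ Over.mk a) {C : Type u} [CommRing C] [Algebra A C] (φ : C →+* Γ(T.left, ⊤))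
    (h : φ.comp (algebraMap A C) = ψr r) (q : C) (hq : q ^ p = 0) (x : T ⟶ αG p R 1) (hx : φ q = fn x) :
    toPS r φ h ≫ αp q hq = x :=
  fn_injective (by rw [fn_comp, fn_αp, appTop_toPS, hx])

include hp in
theorem natCast_A (a : Spec A ⟶ (Spec (CommRingCat.of R))) : (p : A) = 0 := by
  have h := APts.natCast_eq_zero (p := p) (R := R) (Over.mk a)
  have h' := congrArg (Scheme.ΓSpecIso A).hom.hom h
  exact (map_natCast (Scheme.ΓSpecIso A).hom.hom p).symm.trans (h'.trans (map_zero _))

theorem eps_pow_p : (DualNumber.eps : DualNumber A) ^ p = 0 :=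
  pow_eq_zero_of_le hp.out.two_le (by rw [sq, DualNumber.eps_mul_eps])

theorem uv_charOf_eps (e : Over.mk a ⟶ αG p R 1) :
    uv (pair (pr a (DualNumber A) ≫ e) (αp (a := a) (DualNumber.eps : DualNumber A) eps_pow_p)) =
      (Scheme.ΓSpecIso (CommRingCat.of (DualNumber A))).inv
        (1 + DualNumber.eps * algebraMap A (DualNumber A) (coord e)) := by
  rw [uv_pair, sym, fn_pr_comp, fn_αp]
  exact map_eval_eps (Scheme.ΓSpecIso (CommRingCat.of (DualNumber A))).inv.hom _

theorem eq_of_one_add_eps {B : Type u} [CommRing B] {x y : B}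
    (h : (1 : DualNumber B) + DualNumber.eps * algebraMap B (DualNumber B) x =
      1 + DualNumber.eps * algebraMap B (DualNumber B) y) : x = y := by
  have h' := congrArg TrivSqZeroExt.snd h
  simpa only [DualNumber.eps, TrivSqZeroExt.algebraMap_eq_inl, TrivSqZeroExt.snd_add, TrivSqZeroExt.snd_one, TrivSqZeroExt.inr_mul_inl, MulOpposite.smul_eq_mul_unop, MulOpposite.unop_op, TrivSqZeroExt.snd_inr, zero_add, _root_.one_mul] using h'

theorem injective_charOf {c d : Over.mk a ⟶ αG p R 1} (h : charOf c = charOf d) : c = d := by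
  have hp' : pair (pr a (DualNumber A) ≫ c) (αp (a := a) (DualNumber.eps : DualNumber A) eps_pow_p) =
      pair (pr a (DualNumber A) ≫ d) (αp (a := a) (DualNumber.eps : DualNumber A) eps_pow_p) := by
    rw [← dval_charOf, ← dval_charOf, h]
  have hu := congrArg uv hp'
  rw [uv_charOf_eps, uv_charOf_eps] at hu
  have hc : coord c = coord d := eq_of_one_add_eps (inv_injective hu)
  exact fn_injective ((Scheme.ΓSpecIso A).commRingCatIsoToRingEquiv.injective hc)

theorem surjective_charOf (φ : (CGrpSh2.dualSh Scheme.fppfPrecoverage (αSh p R)).obj.obj (op (Over.mk a))) :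
    ∃ c, φ = charOf c := by
  have h2 := hp.out.two_le
  rcases subsingleton_or_nontrivial A with hA | hA
  · haveI : IsEmpty (Over.mk a).left := inferInstanceAs (IsEmpty (PrimeSpectrum A))
    haveI := AdeqA.subsingleton_of_isEmpty (CGrpSh2.dualSh Scheme.fppfPrecoverage (αSh p R)) (Over.mk a)
    exact ⟨1, Subsingleton.elim _ _⟩
  haveI : CharP A p := (CharP.charP_iff_prime_eq_zero hp.out).2 (natCast_A a)
  have hA : ∀ j < p, IsUnit (j.factorial : A) := fun j hj => GaDual.isUnit_factorial p hj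
  let val : ∀ {C : Type u} [CommRing C] [Algebra A C] (t : C), t ^ p = 0 → C := fun {C} _ _ t ht =>
    (Scheme.ΓSpecIso (CommRingCat.of C)).hom (uv (dval φ (pr a C) (ULift.up (Additive.ofMul (αp t ht)))))
  have inv_val : ∀ {C : Type u} [CommRing C] [Algebra A C] (t : C) (ht : t ^ p = 0),
      (Scheme.ΓSpecIso (CommRingCat.of C)).inv (val t ht) =
        uv (dval φ (pr a C) (ULift.up (Additive.ofMul (αp t ht)))) := fun t ht =>
    ConcreteCategory.congr_hom (Scheme.ΓSpecIso _).hom_inv_id _
  obtain ⟨q, hq⟩ := AdjoinRoot.mk_surjective (val (C := BC.Pw A p) (BC.eps A p) (BC.eps_pow A p))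
  have hgen : ∀ {T : Over (Spec (CommRingCat.of R))} (r : T ⟶ Over.mk a) (x : T ⟶ αG p R 1),
      uv (dval φ r (ULift.up (Additive.ofMul x))) = q.eval₂ (ψr r) (fn x) := by
    intro T r x
    let θ : BC.Pw A p →+* Γ(T.left, ⊤) := AdjoinRoot.lift (ψr r) (fn x) (by simp [fn_pow_one x])
    have hθ : θ.comp (algebraMap A (BC.Pw A p)) = ψr r := RingHom.ext fun z => by simp [θ, AdjoinRoot.algebraMap_eq]
    let k := toPS r θ hθ
    have hx : k ≫ αp (a := a) (BC.eps A p) (BC.eps_pow A p) = x :=
      toPS_αp r θ hθ _ _ x (AdjoinRoot.lift_root _)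
    have e := dval_map φ (pr a (BC.Pw A p)) r k (toPS_pr _ _ _) (ULift.up (Additive.ofMul (αp (BC.eps A p) (BC.eps_pow A p))))
    have e' : ((αSh p R)).obj.map k.op (ULift.up (Additive.ofMul (αp (a := a) (BC.eps A p) (BC.eps_pow A p)))) =
        ULift.up (Additive.ofMul x) := ULift.ext _ _ (congrArg Additive.ofMul hx)
    rw [e'] at e
    rw [e, uv_comp, ← inv_val, appTop_toPS, ← hq, AdjoinRoot.lift_mk]
  have hval : ∀ {C : Type u} [CommRing C] [Algebra A C] (t : C) (ht : t ^ p = 0), val t ht = Polynomial.aeval t q := by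
    intro C _ _ t ht
    refine inv_injective ?_
    rw [inv_val, hgen, fn_αp]
    have hψ : ψr (pr a C) = (Scheme.ΓSpecIso (CommRingCat.of C)).inv.hom.comp (algebraMap A C) :=
      RingHom.ext fun z => ψr_pr C z
    rw [hψ, Polynomial.aeval_def]
    exact (Polynomial.hom_eval₂ q (algebraMap A C) (Scheme.ΓSpecIso (CommRingCat.of C)).inv.hom t).symm
  have hadd : ∀ {C : Type u} [CommRing C] [Algebra A C] (s t : C) (hs : s ^ p = 0) (ht : t ^ p = 0)
      (hst : (s + t) ^ p = 0), val (s + t) hst = val s hs * val t ht := by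
    intro C _ _ s t hs ht hst
    refine inv_injective ?_
    refine (inv_val _ _).trans (Eq.trans ?_ (map_mul (Scheme.ΓSpecIso (CommRingCat.of C)).inv.hom _ _).symm)
    refine Eq.trans ?_ (congrArg₂ (· * ·) (inv_val s hs) (inv_val t ht)).symm
    rw [← dval_add]
    refine congrArg (fun z => uv (dval φ (pr a C) z)) (ULift.ext _ _ (congrArg Additive.ofMul ?_))
    refine fn_injective ?_
    show fn (αp (a := a) (s + t) hst) = fn (αp (a := a) s hs * αp (a := a) t ht)
    rw [fn_mul, fn_αp, fn_αp, fn_αp]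
    exact map_add (Scheme.ΓSpecIso (CommRingCat.of C)).inv.hom s t
  have h0 : q.coeff 0 = 1 := by
    have h := hgen (𝟙 (Over.mk a)) 1
    rw [fn_one, Polynomial.eval₂_at_zero] at h
    have h' : uv (dval φ (𝟙 (Over.mk a)) (0 : ((αSh p R)).obj.obj (op (Over.mk a)))) = ψr (𝟙 (Over.mk a)) (q.coeff 0) := h
    rw [dval_zero] at h'
    have hψ : ψr (𝟙 (Over.mk a)) = (Scheme.ΓSpecIso A).inv.hom := by
      show (AdeqA.toSec (𝟙 (Spec A))).hom = _
      simp [AdeqA.toSec]
    rw [hψ] at h'
    exact (Scheme.ΓSpecIso A).symm.commRingCatIsoToRingEquiv.injective (h'.symm.trans (map_one _).symm)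
  let P := BC.Pw A p
  let e : P := BC.eps A p
  let D := DualNumber P
  have hη : (TrivSqZeroExt.inr 1 : D) ^ p = 0 :=
    pow_eq_zero_of_le h2 (by rw [sq, TrivSqZeroExt.inr_mul_inr])
  have hδ : (TrivSqZeroExt.inl e : D) ^ p = 0 := by
    rw [← TrivSqZeroExt.inlHom_apply P P, ← map_pow, BC.eps_pow A p, map_zero]
  have hde : (TrivSqZeroExt.inl e + TrivSqZeroExt.inr 1 : D) ^ p = 0 := by
    refine TrivSqZeroExt.ext ?_ ?_
    · rw [TrivSqZeroExt.fst_pow, TrivSqZeroExt.fst_add, TrivSqZeroExt.fst_inl, TrivSqZeroExt.fst_inr, add_zero]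
      exact BC.eps_pow A p
    · rw [TrivSqZeroExt.snd_pow]
      have : (p : P) = 0 := by rw [← map_natCast (algebraMap A P), natCast_A a, map_zero]
      simp [this]
  have h := hadd _ _ hδ hη hde
  rw [hval, hval, hval] at h
  have e1 : (TrivSqZeroExt.inr 1 : D) = TrivSqZeroExt.inl 0 + TrivSqZeroExt.inr 1 := by simp
  have e3 : (TrivSqZeroExt.inl e : D) = TrivSqZeroExt.inl e + TrivSqZeroExt.inr 0 := by simp
  conv_rhs at h => rw [e1, e3]
  simp only [BC.aeval_inl_add_inr, (BC.aeval_zero_coeff q).1, (BC.aeval_zero_coeff q).2, h0, map_one] at h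
  have h3 := congrArg TrivSqZeroExt.snd h
  simp only [TrivSqZeroExt.snd_mul, TrivSqZeroExt.fst_add, TrivSqZeroExt.fst_inl, TrivSqZeroExt.fst_inr,
    TrivSqZeroExt.snd_add, TrivSqZeroExt.snd_inl, TrivSqZeroExt.snd_inr, zero_mul, add_zero, zero_add,
    smul_eq_mul, MulOpposite.smul_eq_mul_unop, MulOpposite.unop_op, _root_.one_mul, _root_.mul_one] at h3
  set d := q.coeff 1 with hd
  have hdvd : Polynomial.X ^ p ∣ Polynomial.C d * q - Polynomial.derivative q -
      Polynomial.C ((0 : A) * 0) * q * Polynomial.X ^ (p - 1) := by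
    rw [mul_zero, map_zero, zero_mul, zero_mul, sub_zero, ← AdjoinRoot.mk_eq_zero,
      ← AdjoinRoot.aeval_eq, map_sub, map_mul, Polynomial.aeval_C]
    linear_combination -h3
  obtain ⟨hrec, hlast⟩ := BC.coeff_rec hdvd
  have hc := BC.coeff_eq_exp hA h0 hrec
  have hdp : d ^ p = 0 := by
    have h := hlast hp.out.one_le
    rw [CharP.cast_eq_zero, zero_mul, mul_zero, zero_mul, add_zero, hc (p - 1) (by omega), mul_left_comm,
      ← pow_succ', show p - 1 + 1 = p by omega] at h
    exact ((hA (p - 1) (by omega)).ringInverse.mul_right_eq_zero).1 h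
  refine ⟨pt (T := Over.mk a) ((Scheme.ΓSpecIso A).inv d) (by
    rw [pow_one]
    exact (map_pow (Scheme.ΓSpecIso A).inv.hom d p).symm.trans (by rw [hdp, map_zero])), dual_ext fun T r x =>
      uv_injective ?_⟩
  rw [hgen, dval_charOf, uv_pair, fn_comp, fn_pt, sym]
  letI : Algebra A Γ(T.left, ⊤) := (ψr r).toAlgebra
  show Polynomial.aeval (fn x) q = _
  rw [BC.aeval_eq_sum hc hA (fn x) (fn_pow_one x), BC.eval_expP]
  refine Finset.sum_congr rfl fun j _ => ?_
  rw [map_pow, pow_zero, _root_.mul_one]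
  congr 2

end Affine

theorem isIso_toDual : IsIso (toDual (p := p) (R := R)) := by
  haveI : Mono (toDual (p := p) (R := R)) := DE.mono_of_sections _ _ fun U x y hxy => by
    refine BP.separated (F := (αSh p R)) fun {A} g => ?_
    refine ULift.ext _ _ (Additive.toMul.injective (injective_charOf (a := g ≫ U.hom) ?_))
    show toDual.hom.app _ (((αSh p R)).obj.map _ x) = toDual.hom.app _ (((αSh p R)).obj.map _ y)
    rw [NatTrans.naturality_apply toDual.hom, NatTrans.naturality_apply toDual.hom, hxy]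
  haveI : Epi (toDual (p := p) (R := R)) := by
    rw [← Sheaf.isLocallySurjective_iff_epi']
    refine ⟨fun {U} Ψ => epi_of_surjective_imageSieve _ Ψ fun {A} g => ?_⟩
    obtain ⟨c, hc⟩ := surjective_charOf (a := g ≫ U.hom)
      ((CGrpSh2.dualSh Scheme.fppfPrecoverage (αSh p R)).obj.map (Over.homMk g rfl : Over.mk (g ≫ U.hom) ⟶ U).op Ψ)
    refine GrothendieckTopology.superset_covering _ (fun W k _ => ?_)
      ((QuotSh.J Scheme.fppfPrecoverage (Spec (CommRingCat.of R))).top_mem _)
    refine ⟨((αSh p R)).obj.map k.op (ULift.up (Additive.ofMul c)), ?_⟩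
    refine (NatTrans.naturality_apply toDual.hom k.op _).trans ?_
    exact congrArg _ hc.symm
  exact isIso_of_mono_of_epi _

end Groth.Agent.GaExt23.AD
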