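import Groth.Agent.Lib.GaExt23.ExtShGa

/-!
# `𝓔xt¹(Ga, Gm) = 0` in characteristic `p`
-/

set_option autoImplicit false
set_option linter.style.haveILetI false
set_option maxHeartbeats 800000
set_option synthInstance.maxHeartbeats 100000
set_option backward.isDefEq.respectTransparency false
set_option backward.isDefEq.respectTransparency.types false
universe u

open CategoryTheory CategoryTheory.Limits MonoidalCategory CartesianMonoidalCategory MonObj AlgebraicGeometry Opposite

noncomputable section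

namespace Groth.Agent.GaExt23

open AdeqA (toSec toSec_comp toSec_ofSec toSec_injective)

variable {S : Scheme.{u}}

namespace ExtSh

variable {R : CommRingCat.{u}} {a : Spec R ⟶ S} {I Q : BigSite.Ab Scheme.fppfPrecoverage S}
  {i : CGrpSh2.Gm Scheme.fppfPrecoverage S ⟶ I} {π : I ⟶ Q} {w : i ≫ π = 0}
  (hS : (ShortComplex.mk i π w).ShortExact)

theorem isZero_rightDerived_one_of_epi {A : Type*} [Category A] [Abelian A] [EnoughInjectives A] {B : Type*} [Category B]
    [Abelian B] (G : A ⥤ B) [G.Additive] [PreservesFiniteLimits G] {T : ShortComplex A} (hT : T.ShortExact)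
    [Injective T.X₂] [Epi (G.map T.g)] : IsZero ((G.rightDerived 1).obj T.X₁) := by
  obtain ⟨e⟩ := CmpSit16.nonempty_R1_iso G hT
  exact (isZero_cokernel_of_epi _).of_iso e

theorem isZero_R1 {A : Type*} [Category A] [Abelian A] [EnoughInjectives A] {B : Type*} [Category B]
    [Abelian B] (G : A ⥤ B) [G.Additive] [PreservesFiniteLimits G] {X₁ X₂ X₃ : A} {f : X₁ ⟶ X₂} {g : X₂ ⟶ X₃}
    {w : f ≫ g = 0} (hT : (ShortComplex.mk f g w).ShortExact) {N : A} (e : X₁ ≅ N) (hI : Injective X₂)
    (hg : Epi (G.map g)) : IsZero ((G.rightDerived 1).obj N) := by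
  haveI : Injective (ShortComplex.mk f g w).X₂ := hI
  haveI : Epi (G.map (ShortComplex.mk f g w).g) := hg
  exact (isZero_rightDerived_one_of_epi G hT).of_iso ((G.rightDerived 1).mapIso e.symm)

theorem pow_char_eq_one {T : Over S} (p : ℕ) (h : ((p : ℕ) : Γ(T.left, ⊤)) = 0) (x : T ⟶ Red.Ga S) : x ^ p = 1 := by
  refine GaPts.gaFn_injective ?_
  show Red.gaFn _ = Red.gaFn (1 : T ⟶ Red.Ga S)
  rw [GaPts.gaFn_one]
  refine (congrArg Multiplicative.toAdd (map_pow (GaPts.gaFnHom (S := S) (T := T)) x p)).trans ?_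
  show p • Red.gaFn x = 0
  rw [nsmul_eq_mul, h, zero_mul]

theorem nsmul_val_eq_zero (p : ℕ) (hp : (p : R) = 0) {Q : BigSite.Ab Scheme.fppfPrecoverage S}
    (χ : (CGrpSh2.Ga Scheme.fppfPrecoverage S).over (Over.mk a) ⟶ Q.over (Over.mk a)) {T : Over S}
    (r : T ⟶ Over.mk a) (x : T ⟶ Red.Ga S) : p • val χ r x = 0 := by
  have h : ((p : ℕ) : Γ(T.left, ⊤)) = 0 := by rw [← map_natCast (ψr r), hp, map_zero]
  have e : p • (ULift.up (Additive.ofMul x) : (CGrpSh2.Ga Scheme.fppfPrecoverage S).obj.obj (op T)) = 0 :=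
    ULift.ext _ _ (congrArg Additive.ofMul (pow_char_eq_one p h x))
  exact (map_nsmul (χ.hom.app (op (Over.mk r))).hom _ _).symm.trans
    ((congrArg (χ.hom.app (op (Over.mk r))) e).trans (map_zero _))

include hS in
/-- Local lifting over an affine object. -/
theorem imageSieve_mem_affine (p : ℕ) [Fact p.Prime] (hp : (p : R) = 0)
    (χ : (CGrpSh2.Ga Scheme.fppfPrecoverage S).over (Over.mk a) ⟶ Q.over (Over.mk a)) :
    Presheaf.imageSieve ((HomSh.homShFunctor (QuotSh.J Scheme.fppfPrecoverage S)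
        (CGrpSh2.Ga Scheme.fppfPrecoverage S)).map π).hom (U := Over.mk a) χ ∈
      QuotSh.J Scheme.fppfPrecoverage S (Over.mk a) := by
  by_cases htriv : Subsingleton R
  · haveI : IsEmpty (Over.mk a).left := inferInstanceAs (IsEmpty (PrimeSpectrum R))
    refine GrothendieckTopology.superset_covering _ (fun V g _ => ?_) ((QuotSh.J Scheme.fppfPrecoverage S).top_mem _)
    haveI := AdeqA.subsingleton_of_isEmpty (HomSh.homSh (QuotSh.J Scheme.fppfPrecoverage S) (CGrpSh2.Ga Scheme.fppfPrecoverage S) Q) (Over.mk a)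
    refine ⟨0, ?_⟩
    haveI : Subsingleton ((CGrpSh2.Ga Scheme.fppfPrecoverage S).over (Over.mk a) ⟶ Q.over (Over.mk a)) := this
    rw [map_zero, show χ = (0 : (HomSh.homSh (QuotSh.J Scheme.fppfPrecoverage S) (CGrpSh2.Ga Scheme.fppfPrecoverage S) Q).obj.obj
      (op (Over.mk a))) from Subsingleton.elim _ _]
    exact (map_zero _).symm
  haveI : Nontrivial R := not_subsingleton_iff_nontrivial.1 htriv
  haveI : CharP R p := (CharP.charP_iff_prime_eq_zero (Fact.out : p.Prime)).2 hp
  let a1 : Spec (CommRingCat.of (Polynomial R)) ⟶ S :=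
    Spec.map (CommRingCat.ofHom (algebraMap R (Polynomial R))) ≫ a
  let V1 : Over S := AdeqA.sOb a1 (Adeq.algOf (Polynomial R) (Polynomial R))
  let r1 : V1 ⟶ Over.mk a := Over.homMk (Spec.map (CommRingCat.ofHom (algebraMap (Polynomial R) (Polynomial R))) ≫
    Spec.map (CommRingCat.ofHom (algebraMap R (Polynomial R)))) (Category.assoc _ _ _)
  let x1 : V1 ⟶ Red.Ga S :=
    GaPts.ptOfFn ((Scheme.ΓSpecIso (CommRingCat.of (Polynomial R))).inv (Polynomial.X : Polynomial R))
  have hs1 : p • val χ r1 x1 = 0 := nsmul_val_eq_zero p hp χ r1 x1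
  obtain ⟨T0, f, hf, t, ht⟩ := exists_lift_stage p a1 hS (val χ r1 x1) hs1
  let R1 : CommRingCat.{u} := CommRingCat.of T0.carrier
  let aR : Spec R1 ⟶ S := Spec.map (CommRingCat.ofHom (algebraMap R T0.carrier)) ≫ a
  let v : Over.mk aR ⟶ Over.mk a := pr a T0.carrier
  letI : Algebra (Polynomial R) (Polynomial T0.carrier) := Polynomial.algebra _ _
  let k : PS aR (Polynomial T0.carrier) ⟶ AdeqA.sOb (aB a1 (CommRingCat.of (Polynomial T0.carrier)))
      (Adeq.algOf (Polynomial T0.carrier) (Polynomial T0.carrier)) :=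
    Over.homMk (Spec.map (CommRingCat.ofHom (algebraMap (Polynomial T0.carrier) (Polynomial T0.carrier)))) (by
      show Spec.map _ ≫ Spec.map _ ≫ Spec.map (CommRingCat.ofHom (algebraMap (Polynomial R) (Polynomial T0.carrier))) ≫
          Spec.map (CommRingCat.ofHom (algebraMap R (Polynomial R))) ≫ a =
        Spec.map (CommRingCat.ofHom (algebraMap T0.carrier (Polynomial T0.carrier))) ≫
          Spec.map (CommRingCat.ofHom (algebraMap R T0.carrier)) ≫ a
      simp only [← Spec.map_comp_assoc, ← CommRingCat.ofHom_comp]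
      refine congrArg (fun g => Spec.map (CommRingCat.ofHom g) ≫ a) (RingHom.ext fun x => ?_)
      simp only [RingHom.comp_apply, Algebra.algebraMap_self, RingHom.id_apply, Polynomial.algebraMap_eq]
      show (Polynomial.C x).map (algebraMap R T0.carrier) = Polynomial.C (algebraMap R T0.carrier x)
      exact Polynomial.map_C _)
  let χ₁ : (CGrpSh2.Ga Scheme.fppfPrecoverage S).over (Over.mk aR) ⟶ Q.over (Over.mk aR) :=
    ((QuotSh.J Scheme.fppfPrecoverage S).overMapPullback AddCommGrpCat.{u + 1} v).map χ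
  have he₀ : π.hom.app _ (I.obj.map k.op t) =
      val χ₁ (pr aR (Polynomial T0.carrier)) (cp aR (Polynomial.X : Polynomial T0.carrier)) := by
    rw [NatTrans.naturality_apply π.hom, ht, ← val_comp, ← val_comp]
    have e1 : k ≫ f ≫ r1 = pr aR (Polynomial T0.carrier) ≫ v := by
      apply Over.OverMorphism.ext
      show Spec.map _ ≫ f.left ≫ Spec.map _ ≫ Spec.map _ = Spec.map _ ≫ Spec.map _
      rw [hf]
      simp only [← Spec.map_comp, ← CommRingCat.ofHom_comp]
      refine congrArg (fun g => Spec.map (CommRingCat.ofHom g)) (RingHom.ext fun x => ?_)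
      simp only [RingHom.comp_apply, Algebra.algebraMap_self, RingHom.id_apply, Polynomial.algebraMap_eq]
      show (Polynomial.C x).map (algebraMap R T0.carrier) = Polynomial.C (algebraMap R T0.carrier x)
      exact Polynomial.map_C _
    have e2 : k ≫ f ≫ x1 = cp aR (Polynomial.X : Polynomial T0.carrier) := by
      refine GaPts.gaFn_injective ?_
      show Red.gaFn _ = Red.gaFn _
      rw [GaPts.gaFn_comp, GaPts.gaFn_comp, GaPts.gaFn_ptOfFn, GaPts.gaFn_ptOfFn, hf]
      show (Spec.map (CommRingCat.ofHom (algebraMap (Polynomial T0.carrier) (Polynomial T0.carrier)))).appTop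
        ((Spec.map (CommRingCat.ofHom (Polynomial.mapRingHom (algebraMap R T0.carrier)))).appTop
          ((Scheme.ΓSpecIso (CommRingCat.of (Polynomial R))).inv Polynomial.X)) = _
      rw [← ConcreteCategory.comp_apply (Scheme.ΓSpecIso (CommRingCat.of (Polynomial R))).inv,
        ← Scheme.ΓSpecIso_inv_naturality, ConcreteCategory.comp_apply,
        ← ConcreteCategory.comp_apply (Scheme.ΓSpecIso (CommRingCat.of (Polynomial T0.carrier))).inv,
        ← Scheme.ΓSpecIso_inv_naturality, ConcreteCategory.comp_apply]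
      refine congrArg _ ?_
      show (Polynomial.X : Polynomial R).map (algebraMap R T0.carrier) = Polynomial.X
      exact Polynomial.map_X _
    show val χ (k ≫ f ≫ r1) (k ≫ f ≫ x1) = val χ (pr aR _ ≫ v) (cp aR Polynomial.X)
    rw [e1, e2]
  obtain ⟨A, φ, hφ⟩ := exists_hom_of_line hS p χ₁ _ he₀
  refine (QuotSh.J Scheme.fppfPrecoverage S).transitive (ff_cover_mem a T0.carrier) _ fun Z g hg => ?_
  obtain ⟨_, c, _, ⟨⟨⟩⟩, rfl⟩ := hg
  refine GrothendieckTopology.superset_covering _ ?_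
    ((QuotSh.J Scheme.fppfPrecoverage S).pullback_stable c (ff_cover_mem aR A.carrier))
  intro W d hd
  obtain ⟨_, c', _, ⟨⟨⟩⟩, hc'⟩ := hd
  change c' ≫ pr aR A.carrier = d ≫ c at hc'
  refine ⟨((QuotSh.J Scheme.fppfPrecoverage S).overMapPullback AddCommGrpCat.{u + 1} c').map φ,
    Sheaf.hom_ext (NatTrans.ext (funext fun V => AddCommGrpCat.ext fun z => ?_))⟩
  show π.hom.app (op V.unop.left) (φ.hom.app (op (Over.mk (V.unop.hom ≫ c'))) z) =
    χ.hom.app (op (Over.mk (V.unop.hom ≫ d ≫ c ≫ v))) z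
  refine (hφ V.unop.left (V.unop.hom ≫ c') z.down.toMul).trans ?_
  show val χ (((V.unop.hom ≫ c') ≫ pr aR A.carrier) ≫ v) z.down.toMul = val χ (V.unop.hom ≫ d ≫ c ≫ v) z.down.toMul
  rw [Category.assoc V.unop.hom, hc']
  simp only [Category.assoc]

end ExtSh

/-- `𝓔xt¹(Ga, Gm) = 0` in characteristic `p`. -/
theorem isZero_extSh_one_Ga_Gm (p : ℕ) [Fact p.Prime] (hp : (p : Γ(S, ⊤)) = 0) :
    IsZero ((HomSh.extSh (QuotSh.J Scheme.fppfPrecoverage S) (CGrpSh2.Ga Scheme.fppfPrecoverage S) 1).obj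
      (CGrpSh2.Gm Scheme.fppfPrecoverage S)) := by
  obtain ⟨I, Q, i, π, w, hI, hS⟩ := SiteCoh.exists_inj_seq (CGrpSh2.Gm Scheme.fppfPrecoverage S)
  haveI := hI
  let H := HomSh.homShFunctor (QuotSh.J Scheme.fppfPrecoverage S) (CGrpSh2.Ga Scheme.fppfPrecoverage S)
  haveI : Epi (H.map π) := by
    rw [← Sheaf.isLocallySurjective_iff_epi']
    refine ⟨fun {U} χ => epi_of_surjective_imageSieve (H.map π) χ fun {R} g => ?_⟩
    refine ExtSh.imageSieve_mem_affine hS p ?_ _
    have h1 : (p : Γ(Spec R, ⊤)) = 0 := by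
      rw [← map_natCast (g ≫ U.hom).appTop.hom, hp, map_zero]
    rw [← map_natCast (Scheme.ΓSpecIso R).hom.hom, h1, map_zero]
  rw [HomSh.extSh_def]
  exact ExtSh.isZero_R1 H hS (Iso.refl _) hI inferInstance

end Groth.Agent.GaExt23
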