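import Groth.Agent.Lib.GaExt23.AlphaDual
import Groth.Agent.Lib.GaExt23.ExtShGaMain
import Groth.Agent.Lib.GaCoh23.Basic

/-!
# The dual of Frobenius on the cohomology of the dual of the additive group
-/

set_option autoImplicit false
set_option linter.style.haveILetI false
set_option maxHeartbeats 1600000
set_option backward.isDefEq.respectTransparency false
set_option backward.isDefEq.respectTransparency.types false
universe u

open CategoryTheory CategoryTheory.Limits MonoidalCategory CartesianMonoidalCategory MonObj AlgebraicGeometry Opposite Abelian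

noncomputable section

namespace Groth.Agent.GaExt23.AD

open APts (αG fn pt fn_pt fn_comp fn_injective fn_mul)

variable {p : ℕ} [hp : Fact p.Prime] {R : Type u} [CommRing R] [CharP R p]

/-- The inclusion of `α_p` on points. -/
def gaPt {T : Over (Spec (CommRingCat.of R))} (x : T ⟶ αG p R 1) : T ⟶ Red.Ga (Spec (CommRingCat.of R)) :=
  GaPts.ptOfFn (fn x)

theorem gaPt_mul {T : Over (Spec (CommRingCat.of R))} (x y : T ⟶ αG p R 1) : gaPt (x * y) = gaPt x * gaPt y := by
  rw [gaPt, gaPt, gaPt, fn_mul, GaPts.ptOfFn_add]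

theorem gaPt_comp {T T' : Over (Spec (CommRingCat.of R))} (g : T' ⟶ T) (x : T ⟶ αG p R 1) :
    gaPt (g ≫ x) = g ≫ gaPt x := by
  rw [gaPt, gaPt, GaPts.ptOfFn_comp, fn_comp]

/-- The inclusion of `α_p` in the additive group, on sections. -/
def inclHom (T : Over (Spec (CommRingCat.of R))) :
    (αSh p R).obj.obj (op T) →+ (CGrpSh2.Ga Scheme.fppfPrecoverage (Spec (CommRingCat.of R))).obj.obj (op T) :=
  AddMonoidHom.mk' (fun z => ULift.up (Additive.ofMul (gaPt z.down.toMul)))
    fun x y => ULift.ext _ _ (congrArg Additive.ofMul (gaPt_mul x.down.toMul y.down.toMul))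

/-- The inclusion of `α_p` in the additive group. -/
def inclSh : αSh p R ⟶ CGrpSh2.Ga Scheme.fppfPrecoverage (Spec (CommRingCat.of R)) :=
  ⟨{ app := fun T => AddCommGrpCat.ofHom (inclHom T.unop)
     naturality := fun T T' g => AddCommGrpCat.ext fun z =>
       ULift.ext _ _ (congrArg Additive.ofMul (gaPt_comp g.unop z.down.toMul)) }⟩

variable (F : Red.Ga (Spec (CommRingCat.of R)) ⟶ Red.Ga (Spec (CommRingCat.of R))) [IsMonHom F]
  (hF : ∀ (T : Over (Spec (CommRingCat.of R))) (x : T ⟶ Red.Ga (Spec (CommRingCat.of R))),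
    Red.gaFn (x ≫ F) = Red.gaFn x ^ p)

include hF in
theorem gaPt_F {T : Over (Spec (CommRingCat.of R))} (x : T ⟶ αG p R 1) : gaPt x ≫ F = 1 := by
  refine GaPts.gaFn_injective ?_
  show Red.gaFn (gaPt x ≫ F) = Red.gaFn (1 : T ⟶ Red.Ga (Spec (CommRingCat.of R)))
  rw [hF, GaPts.gaFn_one, gaPt, GaPts.gaFn_ptOfFn, APts.fn_pow_one]

include hF in
theorem inclSh_w : inclSh (p := p) (R := R) ≫ CGrpSh.ptsMap Scheme.fppfPrecoverage F = 0 :=
  Sheaf.hom_ext (NatTrans.ext (funext fun T => AddCommGrpCat.ext fun z =>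
    ULift.ext _ _ (congrArg Additive.ofMul (gaPt_F F hF z.down.toMul))))

include hF in
theorem shortExact_frob :
    (ShortComplex.mk inclSh (CGrpSh.ptsMap Scheme.fppfPrecoverage F) (inclSh_w F hF)).ShortExact := by
  let X : Scheme.{u} := Spec (CommRingCat.of R)
  refine ShortComplex.ShortExact.mk' (DE.exact_of_sections _ fun U x hx => ?_)
    (DE.mono_of_sections _ _ fun U x y hxy => ?_) ?_
  · have e : x.down.toMul ≫ F = 1 := congrArg (fun z => z.down.toMul) hx
    have hx' : Red.gaFn x.down.toMul ^ p ^ 1 = 0 := by rw [pow_one, ← hF, e, GaPts.gaFn_one]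
    refine ⟨ULift.up (Additive.ofMul (pt (Red.gaFn x.down.toMul) hx')),
      ULift.ext _ _ (congrArg Additive.ofMul (GaPts.gaFn_injective ?_))⟩
    show Red.gaFn (GaPts.ptOfFn (fn (pt (Red.gaFn x.down.toMul) hx'))) = Red.gaFn x.down.toMul
    rw [GaPts.gaFn_ptOfFn, fn_pt]
  · refine ULift.ext _ _ (Additive.toMul.injective (fn_injective ?_))
    have e := congrArg (fun z => Red.gaFn z.down.toMul) hxy
    change Red.gaFn (gaPt x.down.toMul) = Red.gaFn (gaPt y.down.toMul) at e
    rwa [gaPt, gaPt, GaPts.gaFn_ptOfFn, GaPts.gaFn_ptOfFn] at e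
  · rw [← Sheaf.isLocallySurjective_iff_epi']
    refine ⟨fun {U} y => epi_of_surjective_imageSieve _ y fun {P} g => ?_⟩
    let V : Over X := Over.mk (g ≫ U.hom)
    let yV : V ⟶ Red.Ga X := (Over.homMk g rfl : V ⟶ U) ≫ y.down.toMul
    let c : (P : Type u) := (Scheme.ΓSpecIso P).hom (Red.gaFn yV)
    let f : Polynomial (P : Type u) := Polynomial.X ^ p - Polynomial.C c
    have hm : f.Monic := Polynomial.monic_X_pow_sub_C _ hp.out.ne_zero
    by_cases htriv : Subsingleton P
    · haveI : IsEmpty V.left := inferInstanceAs (IsEmpty (PrimeSpectrum P))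
      haveI := AdeqA.subsingleton_of_isEmpty (CGrpSh2.Ga Scheme.fppfPrecoverage X) V
      refine GrothendieckTopology.superset_covering _ (fun W k _ => ?_) ((QuotSh.J Scheme.fppfPrecoverage X).top_mem _)
      refine ⟨0, (map_zero _).trans (Eq.trans ?_ (congrArg _ (Subsingleton.elim
        (0 : (CGrpSh2.Ga Scheme.fppfPrecoverage X).obj.obj (op V))
        ((CGrpSh2.Ga Scheme.fppfPrecoverage X).obj.map (Over.homMk g rfl : V ⟶ U).op y))))⟩
      exact (map_zero _).symm
    haveI : Nontrivial P := not_subsingleton_iff_nontrivial.1 htriv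
    haveI := hm.free_adjoinRoot
    haveI := hm.finite_adjoinRoot
    haveI : Nontrivial (AdjoinRoot f) := by
      have hq' : 0 < f.natDegree := by rw [Polynomial.natDegree_X_pow_sub_C]; exact hp.out.pos
      let b := AdjoinRoot.powerBasis' hm
      exact nontrivial_of_ne (b.basis ⟨0, by simpa [b] using hq'⟩) 0 (b.basis.ne_zero _)
    haveI : Algebra.FinitePresentation P (AdjoinRoot f) :=
      Algebra.FinitePresentation.quotient (R := P) (A := Polynomial P) (I := Ideal.span {f})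
        (Submodule.fg_span_singleton f)
    refine GrothendieckTopology.superset_covering _ ?_ (ff_cover_mem (g ≫ U.hom) (AdjoinRoot f))
    rw [Sieve.generate_le_iff]
    rintro _ _ ⟨⟨⟩⟩
    let W : Over X := Over.mk (Spec.map (CommRingCat.ofHom (algebraMap P (AdjoinRoot f))) ≫ g ≫ U.hom)
    let wV : W ⟶ V := Over.homMk (Spec.map (CommRingCat.ofHom (algebraMap P (AdjoinRoot f)))) rfl
    let t : Γ(W.left, ⊤) := (Scheme.ΓSpecIso (CommRingCat.of (AdjoinRoot f))).inv (AdjoinRoot.root f)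
    have ht : t ^ p = Red.gaFn (wV ≫ yV) := by
      rw [GaPts.gaFn_comp]
      have h1 : AdjoinRoot.root f ^ p = algebraMap P (AdjoinRoot f) c := by
        have h := AdjoinRoot.eval₂_root f
        simp only [f, Polynomial.eval₂_sub, Polynomial.eval₂_X_pow, Polynomial.eval₂_C, sub_eq_zero] at h
        exact h
      show (Scheme.ΓSpecIso (CommRingCat.of (AdjoinRoot f))).inv.hom (AdjoinRoot.root f) ^ p = _
      rw [← map_pow, h1]
      refine (ConcreteCategory.congr_hom
        (Scheme.ΓSpecIso_inv_naturality (CommRingCat.ofHom (algebraMap P (AdjoinRoot f))))) c |>.trans ?_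
      exact congrArg wV.left.appTop (ConcreteCategory.congr_hom (Scheme.ΓSpecIso P).hom_inv_id (Red.gaFn yV))
    refine ⟨ULift.up (Additive.ofMul (GaPts.ptOfFn t : W ⟶ Red.Ga X)),
      ULift.ext _ _ (congrArg Additive.ofMul (GaPts.gaFn_injective ?_))⟩
    show Red.gaFn ((GaPts.ptOfFn t : W ⟶ Red.Ga X) ≫ F) = Red.gaFn (wV ≫ yV)
    rw [hF, GaPts.gaFn_ptOfFn, ht]

theorem subsingleton_of_ext {S : Scheme.{u}} {C : ShortComplex (BigSite.Ab Scheme.fppfPrecoverage S)} (hC : C.ShortExact)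
    {n : ℕ} (h₃ : Subsingleton (BigSite.H Scheme.fppfPrecoverage S C.X₃ n))
    (h₂ : Subsingleton (BigSite.H Scheme.fppfPrecoverage S C.X₂ (n + 1))) :
    Subsingleton (BigSite.H Scheme.fppfPrecoverage S C.X₁ (n + 1)) := by
  refine ⟨fun x y => ?_⟩
  suffices H : ∀ z : Sheaf.H C.X₁ (n + 1), z = 0 from (H x).trans (H y).symm
  intro z
  obtain ⟨w, hw⟩ := Ext.covariant_sequence_exact₁ _ hC z (h₂.elim _ _) (n₀ := n) rfl
  rw [← hw, h₃.elim w 0, Ext.zero_comp]

theorem subsingleton_iso {S : Scheme.{u}} {A B : BigSite.Ab Scheme.fppfPrecoverage S} (φ : A ⟶ B) [IsIso φ] {n : ℕ}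
    (h : Subsingleton (BigSite.H Scheme.fppfPrecoverage S A n)) :
    Subsingleton (BigSite.H Scheme.fppfPrecoverage S B n) := by
  refine ⟨fun x y => ?_⟩
  have key : ∀ z : Sheaf.H B n,
      (Ext.comp z (Ext.mk₀ (inv φ)) (add_zero n)).comp (Ext.mk₀ φ) (add_zero n) = z := fun z => by
    rw [Ext.comp_assoc_of_third_deg_zero, Ext.mk₀_comp_mk₀, IsIso.inv_hom_id, Ext.comp_mk₀_id]
  rw [← key x, ← key y, h.elim (Ext.comp (show Sheaf.H B n from x) (Ext.mk₀ (inv φ)) (add_zero n))
    (Ext.comp (show Sheaf.H B n from y) (Ext.mk₀ (inv φ)) (add_zero n))]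

include hF in
theorem bijective_H_map_dual_frob (i : ℕ) (hi : 2 < i) :
    Function.Bijective (Sheaf.H.map ((CGrpSh2.dualFunctor Scheme.fppfPrecoverage (Spec (CommRingCat.of R))).map
      (CGrpSh.ptsMap Scheme.fppfPrecoverage F).op) i) := by
  have hS := shortExact_frob F hF
  have hpR : (p : Γ(Spec (CommRingCat.of R), ⊤)) = 0 :=
    APts.natCast_eq_zero (p := p) (R := R) (Over.mk (𝟙 (Spec (CommRingCat.of R))))
  have hD := DE.shortExact_dual _ (CGrpSh2.Gm Scheme.fppfPrecoverage (Spec (CommRingCat.of R))) hS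
    (isZero_extSh_one_Ga_Gm p hpR)
  haveI := isIso_toDual (p := p) (R := R)
  have hα : ∀ m : ℕ, Subsingleton (BigSite.H Scheme.fppfPrecoverage (Spec (CommRingCat.of R))
      (CGrpSh2.dualSh Scheme.fppfPrecoverage (αSh p R)) (m + 1 + 1)) := fun m =>
    subsingleton_iso (toDual (p := p) (R := R))
      (subsingleton_of_ext hS (GaCoh23.subsingleton_H_Ga m) (GaCoh23.subsingleton_H_Ga (m + 1)))
  obtain ⟨m, rfl⟩ : ∃ m, i = m + 1 + 1 + 1 := ⟨i - 3, by omega⟩
  refine ⟨fun x y hxy => ?_, fun z => ?_⟩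
  · have h0 : Ext.comp (x - y) (Ext.mk₀ (DE.dual _ (CGrpSh2.Gm Scheme.fppfPrecoverage (Spec (CommRingCat.of R)))
        (ShortComplex.mk inclSh (CGrpSh.ptsMap Scheme.fppfPrecoverage F) (inclSh_w F hF))).f) (add_zero _) = 0 := by
      rw [sub_eq_add_neg, Ext.add_comp, Ext.neg_comp, ← sub_eq_add_neg, sub_eq_zero]
      exact hxy
    obtain ⟨w, hw⟩ := Ext.covariant_sequence_exact₁ _ hD (x - y) h0 (n₀ := m + 1 + 1) rfl
    rw [← sub_eq_zero, ← hw, (hα m).elim w 0, Ext.zero_comp]
  · obtain ⟨w, hw⟩ := Ext.covariant_sequence_exact₂ _ hD z ((hα (m + 1)).elim _ _)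
    exact ⟨w, hw⟩

end Groth.Agent.GaExt23.AD
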