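import Groth.Prelude.Def_AlphaPn
import Groth.Agent.Lib.GaDual.Split
import Mathlib.Algebra.DualNumber
import Mathlib.Algebra.Polynomial.Taylor

/-!
# Symmetric unit cocycles on `α_p` split: a logarithmic derivative argument
-/

set_option autoImplicit false
set_option linter.style.haveILetI false
set_option maxHeartbeats 1000000
set_option backward.isDefEq.respectTransparency.types false
universe u

open TensorProduct TrivSqZeroExt DualNumber

noncomputable section

namespace Groth.Agent.GaExt23.AlphaSplit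

variable (p : ℕ) [hp : Fact p.Prime] (R : Type u) [CommRing R] [CharP R p]

/-- The functions on `α_p`. -/
abbrev K : Type u := AlphaPn.A p 1 R

/-- The coordinate. -/
abbrev y : K p R := AlphaPn.x p 1 R

/-- The functions on `α_p × α_p`. -/
abbrev T2 : Type u := K p R ⊗[R] K p R

theorem y_pow_p : (y p R) ^ p = 0 := by
  simpa using AlphaPn.x_pow p 1 R

theorem y_pow {m : ℕ} (hm : p ≤ m) : (y p R) ^ m = 0 :=
  AlphaPn.x_pow_of_le p 1 R (by rwa [pow_one])

variable {R}

theorem add_pow_p {C : Type u} [CommRing C] [Algebra R C] {a b : C} (ha : a ^ p = 0) (hb : b ^ p = 0) :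
    (a + b) ^ p = 0 := by
  simpa using AlphaPn.add_pow_eq_zero p 1 R (Commute.all a b) (by simpa using ha) (by simpa using hb)

theorem eps_pow {C : Type u} [CommRing C] : (ε : C[ε]) ^ p = 0 := by
  rw [← Nat.sub_add_cancel hp.out.two_le, pow_add, pow_two, eps_mul_eps, mul_zero]

theorem inl_pow_p {C : Type u} [CommRing C] {a : C} (ha : a ^ p = 0) : (inl a : C[ε]) ^ p = 0 := by
  rw [show (inl a : C[ε]) = TrivSqZeroExt.inlHom C C a from rfl, ← map_pow, ha, map_zero]

/-- Evaluation at a point. -/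
def ev1 {C : Type u} [CommRing C] [Algebra R C] (a : C) (ha : a ^ p = 0) : K p R →ₐ[R] C :=
  AlphaPn.lift p 1 R a (by simpa using ha)

@[simp] theorem ev1_y {C : Type u} [CommRing C] [Algebra R C] (a : C) (ha : a ^ p = 0) :
    ev1 (R := R) p a ha (y p R) = a := AlphaPn.lift_x _ _

theorem ev1_unique {C : Type u} [CommRing C] [Algebra R C] {a : C} {ha : a ^ p = 0} {φ : K p R →ₐ[R] C}
    (h : φ (y p R) = a) : φ = ev1 p a ha := AlphaPn.algHom_ext (by rw [h]; exact (ev1_y p a ha).symm)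

/-- Evaluation at a pair of points. -/
def ev2 {C : Type u} [CommRing C] [Algebra R C] (a b : C) (ha : a ^ p = 0) (hb : b ^ p = 0) : T2 p R →ₐ[R] C :=
  Algebra.TensorProduct.lift (ev1 p a ha) (ev1 p b hb) (fun _ _ => Commute.all _ _)

theorem ev2_tmul {C : Type u} [CommRing C] [Algebra R C] (a b : C) (ha : a ^ p = 0) (hb : b ^ p = 0) (u v : K p R) :
    ev2 p a b ha hb (u ⊗ₜ v) = ev1 p a ha u * ev1 p b hb v := Algebra.TensorProduct.lift_tmul _ _ _ _ _

theorem ev2_unique {C : Type u} [CommRing C] [Algebra R C] {a b : C} {ha : a ^ p = 0} {hb : b ^ p = 0}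
    {φ : T2 p R →ₐ[R] C} (h1 : φ (y p R ⊗ₜ 1) = a) (h2 : φ (1 ⊗ₜ y p R) = b) : φ = ev2 p a b ha hb :=
  Algebra.TensorProduct.ext (AlphaPn.algHom_ext (by simp [ev2, ev1, h1])) (AlphaPn.algHom_ext (by
    simp [ev2, ev1, h2]))

theorem map_ev2 {C C' : Type u} [CommRing C] [Algebra R C] [CommRing C'] [Algebra R C'] (φ : C →ₐ[R] C') (a b : C)
    (ha : a ^ p = 0) (hb : b ^ p = 0) (a' b' : C') (ha' : a' ^ p = 0) (hb' : b' ^ p = 0) (ea : φ a = a') (eb : φ b = b')
    (h : T2 p R) : φ (ev2 p a b ha hb h) = ev2 p a' b' ha' hb' h :=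
  DFunLike.congr_fun (ev2_unique p (φ := φ.comp (ev2 p a b ha hb))
    (by simp [ev2_tmul, ea]) (by simp [ev2_tmul, eb])) h

theorem ev2_congr {C : Type u} [CommRing C] [Algebra R C] {a a' b b' : C} {ha : a ^ p = 0} {hb : b ^ p = 0}
    {ha' : a' ^ p = 0} {hb' : b' ^ p = 0} (ea : a = a') (eb : b = b') :
    ev2 (R := R) p a b ha hb = ev2 p a' b' ha' hb' := by
  subst ea eb; rfl

/-- Extension of an algebra map to dual numbers. -/
def dmap {C C' : Type u} [CommRing C] [Algebra R C] [CommRing C'] [Algebra R C'] (ρ : C →ₐ[R] C') :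
    C[ε] →ₐ[R] C'[ε] :=
  DualNumber.lift ⟨((inlAlgHom R C' C').comp ρ, ε), eps_mul_eps, fun _ => Commute.all _ _⟩

theorem dmap_inl {C C' : Type u} [CommRing C] [Algebra R C] [CommRing C'] [Algebra R C'] (ρ : C →ₐ[R] C') (c : C) :
    dmap ρ (inl c) = inl (ρ c) := DualNumber.lift_apply_inl _ _

theorem dmap_eps {C C' : Type u} [CommRing C] [Algebra R C] [CommRing C'] [Algebra R C'] (ρ : C →ₐ[R] C') :
    dmap ρ (ε : C[ε]) = ε := DualNumber.lift_apply_eps _

theorem snd_dmap {C C' : Type u} [CommRing C] [Algebra R C] [CommRing C'] [Algebra R C'] (ρ : C →ₐ[R] C') (z : C[ε]) :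
    snd (dmap ρ z) = ρ (snd z) ∧ fst (dmap ρ z) = ρ (fst z) := by
  have e : z = inl (fst z) + inl (snd z) * ε := by
    ext <;> simp [DualNumber.snd_mul]
  rw [e, map_add, map_mul, dmap_inl, dmap_inl, dmap_eps]
  constructor <;> simp [DualNumber.snd_mul]

/-- The translation on `α_p`. -/
def Δ : K p R →ₐ[R] (K p R)[ε] :=
  ev1 p (inl (y p R) + ε) (add_pow_p (R := R) p (inl_pow_p p (y_pow_p p R)) (eps_pow p))

/-- The derivative. -/
def D (z : K p R) : K p R := snd (Δ p z)

theorem fst_Δ (z : K p R) : fst (Δ p z) = z :=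
  DFunLike.congr_fun (AlphaPn.algHom_ext (f := (fstHom R (K p R) (K p R)).comp (Δ p)) (g := AlgHom.id R _)
    (by simp [Δ, ev1, fstHom])) z

theorem D_mul (a b : K p R) : D p (a * b) = a * D p b + D p a * b := by
  simp [D, map_mul, DualNumber.snd_mul, fst_Δ]

theorem D_add (a b : K p R) : D p (a + b) = D p a + D p b := by simp [D]

theorem D_algebraMap (r : R) : D p (algebraMap R (K p R) r) = 0 := by
  show snd (Δ p (algebraMap R _ r)) = 0
  rw [AlgHom.commutes]
  rfl

theorem D_one : D p (1 : K p R) = 0 := by simp [D]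

theorem D_aeval (V : K p R) (P : Polynomial R) :
    D p (Polynomial.aeval V P) = Polynomial.aeval V P.derivative * D p V := by
  have e : Δ p V = inlAlgHom R (K p R) (K p R) V + inl (D p V) * ε := by
    ext <;> simp [DualNumber.snd_mul, fst_Δ, D, inlAlgHom]
  show snd (Δ p (Polynomial.aeval V P)) = _
  rw [← Polynomial.aeval_algHom_apply, e, Polynomial.aeval_add_of_sq_eq_zero, Polynomial.aeval_algHom_apply,
    Polynomial.aeval_algHom_apply]
  · simp [DualNumber.snd_mul, inlAlgHom]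
  · rw [mul_pow, pow_two (ε : (K p R)[ε]), eps_mul_eps, mul_zero]

theorem D_pow_y (m : ℕ) : D p (y p R ^ m) = (m : K p R) * y p R ^ (m - 1) := by
  have h := D_aeval p (y p R) (Polynomial.X ^ m)
  have hy : D p (y p R) = 1 := by simp [D, Δ]
  rw [Polynomial.derivative_X_pow] at h
  simpa [hy, map_natCast] using h

/-- The coefficients. -/
def co (i : ℕ) (z : K p R) : R :=
  if h : i < p then
    haveI : Nontrivial R := CharP.nontrivial_of_char_ne_one (R := R) hp.out.ne_one
    (AlphaPn.basis p 1 R).coord ⟨i, by rwa [pow_one]⟩ z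
  else 0

theorem sum_co (z : K p R) : ∑ i ∈ Finset.range p, co p i z • y p R ^ i = z := by
  haveI : Nontrivial R := CharP.nontrivial_of_char_ne_one (R := R) hp.out.ne_one
  conv_rhs => rw [← (AlphaPn.basis p 1 R).sum_repr z]
  simp only [AlphaPn.basis_apply]
  have hb : ∀ i : Fin (p ^ 1), (AlphaPn.basis p 1 R).repr z i = co p (i : ℕ) z := fun i => by
    rw [co, dif_pos (by simpa using i.2)]
    rfl
  simp only [hb]
  rw [Fin.sum_univ_eq_sum_range (fun i => co p i z • y p R ^ i) (p ^ 1), pow_one]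

theorem co_sum (c : ℕ → R) {j : ℕ} (hj : j < p) : co p j (∑ i ∈ Finset.range p, c i • y p R ^ i) = c j := by
  haveI : Nontrivial R := CharP.nontrivial_of_char_ne_one (R := R) hp.out.ne_one
  rw [co, dif_pos hj]
  have e : ∀ i ∈ Finset.range p, (AlphaPn.basis p 1 R).coord ⟨j, by rwa [pow_one]⟩ (c i • y p R ^ i) =
      if i = j then c i else 0 := fun i hi => by
    have hi' : i < p ^ 1 := by rw [pow_one]; exact Finset.mem_range.1 hi
    rw [map_smul, ← AlphaPn.basis_apply p 1 R ⟨i, hi'⟩, Module.Basis.coord_apply, Module.Basis.repr_self,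
      Finsupp.single_apply]
    simp [Fin.ext_iff]
  rw [map_sum, Finset.sum_congr rfl e, Finset.sum_ite_eq' (Finset.range p) j c, if_pos (Finset.mem_range.2 hj)]

/-- The counit. -/
abbrev c0 : K p R →ₐ[R] R := ev1 p 0 (zero_pow hp.out.ne_zero)

theorem c0_eq (z : K p R) : c0 p z = co p 0 z := by
  conv_lhs => rw [← sum_co p z]
  rw [map_sum, Finset.sum_eq_single_of_mem 0 (Finset.mem_range.2 hp.out.pos)]
  · simp
  · intro i _ hi
    simp [map_pow, zero_pow hi]

theorem exists_eq_add_y_mul (z : K p R) : ∃ q, z = algebraMap R (K p R) (c0 p z) + y p R * q := by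
  refine ⟨∑ i ∈ Finset.Ico 1 p, co p i z • y p R ^ (i - 1), ?_⟩
  conv_lhs => rw [← sum_co p z, Finset.range_eq_Ico, Finset.sum_eq_sum_Ico_succ_bot hp.out.pos]
  rw [c0_eq, pow_zero, ← Algebra.algebraMap_eq_smul_one, Finset.mul_sum, zero_add]
  refine congrArg _ (Finset.sum_congr rfl fun i hi => ?_)
  rw [Algebra.mul_smul_comm, ← pow_succ', Nat.sub_add_cancel (Finset.mem_Ico.1 hi).1]

theorem isUnit_of_c0 {z : K p R} (h : c0 p z = 1) : IsUnit z := by
  obtain ⟨q, hq⟩ := exists_eq_add_y_mul p z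
  rw [hq, h, map_one]
  exact ((Commute.all _ _).isNilpotent_mul_right (⟨p, y_pow_p p R⟩ : IsNilpotent (y p R))).isUnit_one_add

theorem derivative_expTrunc (c : R) :
    (GaDual.expTrunc p c).derivative = Polynomial.C c * (GaDual.expTrunc p c -
      Polynomial.C (Ring.inverse (((p - 1).factorial : ℕ) : R) * c ^ (p - 1)) * Polynomial.X ^ (p - 1)) := by
  refine Polynomial.ext fun n => ?_
  rw [Polynomial.coeff_derivative, GaDual.coeff_expTrunc, Polynomial.coeff_C_mul, Polynomial.coeff_sub,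
    GaDual.coeff_expTrunc, Polynomial.coeff_C_mul, Polynomial.coeff_X_pow]
  rcases lt_trichotomy (n + 1) p with h | h | h
  · rw [if_pos h, if_pos (by omega), if_neg (by omega), mul_zero, sub_zero]
    have hu := GaDual.isUnit_factorial (R := R) p h
    refine hu.mul_left_cancel ?_
    rw [← mul_assoc, ← mul_assoc, Ring.mul_inverse_cancel _ hu, one_mul, ← mul_assoc]
    rw [Nat.factorial_succ, Nat.cast_mul]
    have hu' := GaDual.isUnit_factorial (R := R) p (show n < p by omega)
    calc c ^ (n + 1) * ((n : R) + 1)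
        = ((n : R) + 1) * c ^ (n + 1) * ((n.factorial : R) * Ring.inverse (n.factorial : R)) := by
          rw [Ring.mul_inverse_cancel _ hu', mul_one, mul_comm]
      _ = _ := by push_cast; ring
  · rw [if_neg (show ¬ n + 1 < p by omega), zero_mul, if_pos (show n < p by omega), if_pos (show n = p - 1 by omega), mul_one]
    obtain rfl : n = p - 1 := by omega
    rw [sub_self, mul_zero]
  · have := hp.out.pos
    rw [if_neg (show ¬ n + 1 < p by omega), zero_mul, if_neg (show ¬ n < p by omega), if_neg (show ¬ n = p - 1 by omega), mul_zero, sub_self, mul_zero]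

/-- A logarithmic antiderivative. -/
theorem exists_logIntegral (g : K p R) (hg : c0 p g = 0) (c : R) (hc : c ^ p = co p (p - 1) g) :
    ∃ f : K p R, c0 p f = 1 ∧ D p f = f * (g + algebraMap R _ c) := by
  have hp2 := hp.out.two_le
  let S := (Finset.range p).filter fun i => 1 ≤ i ∧ i + 1 < p
  let V : K p R := ∑ i ∈ S, (co p i g * Ring.inverse ((i + 1 : ℕ) : R)) • y p R ^ (i + 1)
  have hDV : D p V + co p (p - 1) g • y p R ^ (p - 1) = g := by
    have hsum : ∀ (s : Finset ℕ) (F : ℕ → K p R), D p (∑ i ∈ s, F i) = ∑ i ∈ s, D p (F i) := fun s F => by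
      simp [D, map_sum, TrivSqZeroExt.snd_sum]
    have hDs : ∀ (r : R) (z : K p R), D p (r • z) = r • D p z := fun r z => by
      rw [Algebra.smul_def, D_mul, D_algebraMap, zero_mul, add_zero, Algebra.smul_def]
    have h1 : D p V = ∑ i ∈ S, co p i g • y p R ^ i := by
      rw [hsum]
      refine Finset.sum_congr rfl fun i hi => ?_
      obtain ⟨-, hi⟩ := Finset.mem_filter.1 hi
      rw [hDs, D_pow_y, Nat.add_sub_cancel, ← map_natCast (algebraMap R (K p R)), ← Algebra.smul_def, smul_smul,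
        mul_assoc, Ring.inverse_mul_cancel _ (GaDual.isUnit_natCast_of_not_dvd p fun hd => by
          have := Nat.le_of_dvd (by omega) hd; omega), mul_one]
    rw [h1]
    conv_rhs => rw [← sum_co p g]
    have e : Finset.range p = insert (p - 1) (insert 0 S) := by
      ext i; simp [S]; omega
    rw [e, Finset.sum_insert (by simp [S]; omega), Finset.sum_insert (by simp [S]), ← c0_eq, hg, zero_smul, zero_add,
      add_comm]
  have hV2 : ∃ W, V = y p R ^ 2 * W := ⟨∑ i ∈ S, (co p i g * Ring.inverse ((i + 1 : ℕ) : R)) • y p R ^ (i - 1), by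
    rw [Finset.mul_sum]
    refine Finset.sum_congr rfl fun i hi => ?_
    obtain ⟨-, hi⟩ := Finset.mem_filter.1 hi
    rw [Algebra.mul_smul_comm, ← pow_add, show 2 + (i - 1) = i + 1 by omega]⟩
  obtain ⟨W, hW⟩ := hV2
  have hVp : V ^ (p - 1) = 0 := by rw [hW, mul_pow, ← pow_mul, y_pow p R (by omega), zero_mul]
  let e : K p R := Polynomial.aeval V (GaDual.expTrunc p (1 : R))
  let k : K p R := Polynomial.aeval (y p R) (GaDual.expTrunc p c)
  have hDe : D p e = D p V * e := by
    rw [D_aeval, derivative_expTrunc, map_mul, map_sub, map_mul, map_pow, Polynomial.aeval_X, hVp, mul_zero, sub_zero,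
      Polynomial.aeval_C, map_one, one_mul, mul_comm]
  have hDk : D p k = algebraMap R _ c * k + co p (p - 1) g • y p R ^ (p - 1) := by
    have hy : D p (y p R) = 1 := by simp [D, Δ]
    rw [D_aeval, hy, mul_one, derivative_expTrunc, map_mul, map_sub, map_mul, map_pow, Polynomial.aeval_X,
      Polynomial.aeval_C, Polynomial.aeval_C, GaDual.ringInverse_factorial_pred, mul_sub, ← mul_assoc, ← map_mul,
      Algebra.smul_def, show c * (-1 * c ^ (p - 1)) = -(c * c ^ (p - 1)) by ring, ← pow_succ',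
      Nat.sub_add_cancel hp.out.one_le, hc, map_neg]
    ring
  have h0e : ∀ (z : K p R) (P : Polynomial R), c0 p z = 0 → P.coeff 0 = 1 → c0 p (Polynomial.aeval z P) = 1 :=
    fun z P hz hP => by
      rw [← Polynomial.aeval_algHom_apply, hz, ← Polynomial.coeff_zero_eq_aeval_zero, hP]
  have hcoeff : ∀ a : R, (GaDual.expTrunc p a).coeff 0 = 1 := fun a => by
    rw [GaDual.coeff_expTrunc, if_pos hp.out.pos]; simp
  have he1 : c0 p e = 1 := h0e _ _ (by rw [hW, map_mul, map_pow]; simp) (hcoeff _)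
  have hk1 : c0 p k = 1 := h0e _ _ (by simp) (hcoeff _)
  refine ⟨e * k, by rw [map_mul, he1, hk1, mul_one], ?_⟩
  have htop : ∀ z : K p R, c0 p z = 1 → z * y p R ^ (p - 1) = y p R ^ (p - 1) := fun z hz => by
    obtain ⟨q, hq⟩ := exists_eq_add_y_mul p z
    rw [hq, hz, map_one, add_mul, one_mul, show y p R * q * y p R ^ (p - 1) = q * y p R ^ (p - 1 + 1) by ring,
      Nat.sub_add_cancel hp.out.one_le, y_pow_p, mul_zero, add_zero]
  rw [D_mul, hDe, hDk]
  conv_rhs => rw [← hDV]
  have t1 := htop e he1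
  have t2 := htop (e * k) (by rw [map_mul, he1, hk1, mul_one])
  simp only [Algebra.smul_def]
  linear_combination (algebraMap R (K p R) (co p (p - 1) g)) * (t1 - t2)

/-- The translation of the first factor. -/
def Δ2 : T2 p R →ₐ[R] (T2 p R)[ε] :=
  ev2 p (inl (y p R ⊗ₜ 1) + ε) (inl (1 ⊗ₜ y p R))
    (add_pow_p (R := R) p (inl_pow_p p (by rw [Algebra.TensorProduct.tmul_pow, y_pow_p, zero_tmul])) (eps_pow p))
    (inl_pow_p p (by rw [Algebra.TensorProduct.tmul_pow, y_pow_p, tmul_zero]))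

theorem fst_Δ2 (z : T2 p R) : fst (Δ2 p z) = z :=
  DFunLike.congr_fun (Algebra.TensorProduct.ext (f := (fstHom R (T2 p R) (T2 p R)).comp (Δ2 p))
    (g := AlgHom.id R _) (AlphaPn.algHom_ext (by simp [Δ2, ev2_tmul, fstHom]))
    (AlphaPn.algHom_ext (by simp [Δ2, ev2_tmul, fstHom]))) z

theorem eq_of_snd_Δ2_eq_zero (z : T2 p R) (h : snd (Δ2 p z) = 0) :
    z = Algebra.TensorProduct.includeRight (ev2 p 0 (y p R) (zero_pow hp.out.ne_zero) (y_pow_p p R) z) := by
  have hD : ∀ u v : K p R, snd (Δ2 p (u ⊗ₜ[R] v)) = D p u ⊗ₜ v := fun u v => by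
    have e1 : (Δ2 p).comp (Algebra.TensorProduct.includeLeft : K p R →ₐ[R] T2 p R) =
        (dmap (Algebra.TensorProduct.includeLeft : K p R →ₐ[R] T2 p R)).comp (Δ p) :=
      AlphaPn.algHom_ext (by simp [Δ2, Δ, ev2_tmul, dmap_inl, dmap_eps])
    have e2 : (Δ2 p).comp (Algebra.TensorProduct.includeRight : K p R →ₐ[R] T2 p R) =
        (inlAlgHom R (T2 p R) (T2 p R)).comp Algebra.TensorProduct.includeRight :=
      AlphaPn.algHom_ext (by simp [Δ2, ev2_tmul, inlAlgHom])
    have h1 := DFunLike.congr_fun e1 u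
    have h2 := DFunLike.congr_fun e2 v
    simp only [AlgHom.comp_apply, Algebra.TensorProduct.includeLeft_apply, Algebra.TensorProduct.includeRight_apply] at h1 h2
    rw [show u ⊗ₜ[R] v = (u ⊗ₜ[R] (1 : K p R)) * ((1 : K p R) ⊗ₜ v) by simp, map_mul, h1, h2, DualNumber.snd_mul,
      (snd_dmap _ _).1, (snd_dmap _ _).2, fst_Δ]
    simp [D, inlAlgHom]
  let π : ℕ → K p R →ₗ[R] R := fun i =>
    if h : i < p then
      haveI : Nontrivial R := CharP.nontrivial_of_char_ne_one (R := R) hp.out.ne_one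
      (AlphaPn.basis p 1 R).coord ⟨i, by rwa [pow_one]⟩
    else 0
  have hπ : ∀ i z, π i z = co p i z := fun i z => by
    by_cases hi : i < p
    · simp only [π, co, dif_pos hi]
    · simp only [π, co, dif_neg hi, LinearMap.zero_apply]
  let Q : ℕ → T2 p R →ₗ[R] K p R := fun i =>
    (TensorProduct.lid R (K p R)).toLinearMap ∘ₗ LinearMap.rTensor (K p R) (π i)
  have hQ : ∀ (i : ℕ) (u v : K p R), Q i (u ⊗ₜ v) = co p i u • v := fun i u v => by
    simp [Q, hπ]
  have hdec : ∀ w : T2 p R, w = ∑ i ∈ Finset.range p, (y p R ^ i) ⊗ₜ[R] Q i w := fun w => by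
    induction w using TensorProduct.induction_on with
    | zero => simp
    | tmul u v =>
      conv_lhs => rw [← sum_co p u, TensorProduct.sum_tmul]
      exact Finset.sum_congr rfl fun x _ => by rw [hQ, TensorProduct.tmul_smul, TensorProduct.smul_tmul']
    | add a b ha hb => simp only [map_add, TensorProduct.tmul_add, Finset.sum_add_distrib, ← ha, ← hb]
  have hQD : ∀ i, i + 1 < p → ∀ w, Q i (snd (Δ2 p w)) = ((i + 1 : ℕ) : R) • Q (i + 1) w := fun i hi w => by
    induction w using TensorProduct.induction_on with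
    | zero => simp
    | tmul u v =>
      rw [hD, hQ, hQ, smul_smul]
      congr 1
      have hDu : D p u = ∑ j ∈ Finset.range p, (if j + 1 < p then ((j + 1 : ℕ) : R) * co p (j + 1) u else 0) • y p R ^ j := by
        have hterm : ∀ j, D p (co p j u • y p R ^ j) = ((j : R) * co p j u) • y p R ^ (j - 1) := fun j => by
          rw [Algebra.smul_def, D_mul, D_algebraMap, zero_mul, add_zero, D_pow_y, Algebra.smul_def, map_mul,
            map_natCast]
          ring
        conv_lhs => rw [← sum_co p u]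
        rw [show ∀ (F : ℕ → K p R), D p (∑ j ∈ Finset.range p, F j) = ∑ j ∈ Finset.range p, D p (F j) from
          fun F => by simp [D, map_sum, TrivSqZeroExt.snd_sum], Finset.sum_congr rfl fun j _ => hterm j]
        obtain ⟨m, hm⟩ : ∃ m, p = m + 1 := ⟨p - 1, by have := hp.out.two_le; omega⟩
        rw [show Finset.range p = Finset.range (m + 1) from congrArg Finset.range hm, Finset.sum_range_succ',
          Finset.sum_range_succ]
        rw [Nat.cast_zero, zero_mul, zero_smul, if_neg (by omega), zero_smul]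
        congr 1
        refine Finset.sum_congr rfl fun j hj => ?_
        rw [if_pos (by have := Finset.mem_range.1 hj; omega), Nat.add_sub_cancel]
      rw [hDu, co_sum p _ (by omega), if_pos hi]
    | add a b ha hb => simp only [map_add, TrivSqZeroExt.snd_add, smul_add, ha, hb]
  have hz : ∀ i, i + 1 < p → Q (i + 1) z = 0 := fun i hi => by
    have e := hQD i hi z
    rw [h, map_zero] at e
    have hu : IsUnit ((i + 1 : ℕ) : R) := GaDual.isUnit_natCast_of_not_dvd p fun hd => by
      have := Nat.le_of_dvd (by omega) hd; omega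
    exact (hu.smul_eq_zero).1 e.symm
  have hQ0 : ∀ w : T2 p R, ev2 p 0 (y p R) (zero_pow hp.out.ne_zero) (y_pow_p p R) w = Q 0 w := fun w => by
    induction w using TensorProduct.induction_on with
    | zero => simp
    | tmul u v =>
      rw [ev2_tmul, hQ, ← c0_eq, Algebra.smul_def]
      congr 1
      · exact DFunLike.congr_fun (ev1_unique p (φ := (Algebra.ofId R (K p R)).comp (c0 p))
          (ha := zero_pow hp.out.ne_zero) (by simp)).symm u
      · exact DFunLike.congr_fun (ev1_unique p (φ := AlgHom.id R (K p R)) (ha := y_pow_p p R) rfl).symm v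
    | add a b ha hb => simp only [map_add, ha, hb]
  rw [hQ0]
  conv_lhs => rw [hdec z]
  rw [Finset.sum_eq_single_of_mem 0 (Finset.mem_range.2 hp.out.pos)]
  · simp
  · intro i hi hne
    obtain ⟨j, rfl⟩ := Nat.exists_eq_succ_of_ne_zero hne
    rw [hz j (Finset.mem_range.1 hi), TensorProduct.tmul_zero]

/-- Symmetric unit cocycles on `α_p` are coboundaries. -/
theorem exists_splitting (hF : Function.Surjective (frobenius R p)) (h : T2 p R)
    (h0 : ∀ {C : Type u} [CommRing C] [Algebra R C] (a : C) (ha : a ^ p = 0),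
      ev2 p a 0 ha (zero_pow hp.out.ne_zero) h = 1)
    (hsymm : ∀ {C : Type u} [CommRing C] [Algebra R C] (a b : C) (ha : a ^ p = 0) (hb : b ^ p = 0),
      ev2 p b a hb ha h = ev2 p a b ha hb h)
    (hcoc : ∀ {C : Type u} [CommRing C] [Algebra R C] (a b d : C) (ha : a ^ p = 0) (hb : b ^ p = 0) (hd : d ^ p = 0),
      ev2 p b d hb hd h * ev2 p a (b + d) ha (add_pow_p (R := R) p hb hd) h =
        ev2 p (a + b) d (add_pow_p (R := R) p ha hb) hd h * ev2 p a b ha hb h) :
    ∃ f : K p R, IsUnit f ∧ ∀ {C : Type u} [CommRing C] [Algebra R C] (a b : C) (ha : a ^ p = 0) (hb : b ^ p = 0),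
      ev1 p (a + b) (add_pow_p (R := R) p ha hb) f = ev1 p a ha f * ev1 p b hb f * ev2 p a b ha hb h := by
  let z0 : ∀ {C : Type u} [CommRing C], (0 : C) ^ p = 0 := fun {C} _ => zero_pow hp.out.ne_zero
  have h0' : ∀ {C : Type u} [CommRing C] [Algebra R C] (b : C) (hb : b ^ p = 0), ev2 p 0 b z0 hb h = 1 :=
    fun b hb => (hsymm b 0 hb z0).trans (h0 b hb)
  let W : (K p R)[ε] := ev2 p ε (inl (y p R)) (eps_pow p) (inl_pow_p p (y_pow_p p R)) h
  let g : K p R := snd W
  have hW : ∀ {C : Type u} [CommRing C] [Algebra R C] (t : C) (ht : t ^ p = 0),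
      snd (ev2 p (ε : C[ε]) (inl t) (eps_pow p) (inl_pow_p p ht) h) = ev1 p t ht g ∧
        fst (ev2 p (ε : C[ε]) (inl t) (eps_pow p) (inl_pow_p p ht) h) = 1 := fun {C} _ _ t ht => by
    refine ⟨?_, ?_⟩
    · rw [← map_ev2 p (dmap (ev1 p t ht)) ε (inl (y p R)) (eps_pow p) (inl_pow_p p (y_pow_p p R)) ε (inl t)
        (eps_pow p) (inl_pow_p p ht) (dmap_eps _) (by rw [dmap_inl, ev1_y]) h, (snd_dmap _ _).1]
    · exact (map_ev2 p (fstHom R C C) ε (inl t) _ _ 0 t z0 ht rfl rfl h).trans (h0' t ht)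
  have hg : c0 p g = 0 := by
    have e := (hW (0 : R) z0).1
    rw [ev2_congr p rfl (TrivSqZeroExt.inl_zero R) (hb' := z0) (ha' := eps_pow p), h0 (ε : R[ε]) (eps_pow p)] at e
    exact e.symm.trans rfl
  obtain ⟨c, hc⟩ := hF (co p (p - 1) g)
  obtain ⟨f, hf1, hDf⟩ := exists_logIntegral p g hg c (by rwa [frobenius_def] at hc)
  have hfu := isUnit_of_c0 p hf1
  refine ⟨f, hfu, ?_⟩
  let X : T2 p R := y p R ⊗ₜ 1
  let Y : T2 p R := 1 ⊗ₜ y p R
  have hX : X ^ p = 0 := by rw [Algebra.TensorProduct.tmul_pow, y_pow_p, zero_tmul]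
  have hY : Y ^ p = 0 := by rw [Algebra.TensorProduct.tmul_pow, y_pow_p, tmul_zero]
  have hS : (X + Y) ^ p = 0 := add_pow_p (R := R) p hX hY
  have hid : ev2 p X Y hX hY = AlgHom.id R (T2 p R) :=
    (ev2_unique p (φ := AlgHom.id R (T2 p R)) (AlgHom.id_apply _) (AlgHom.id_apply _)).symm
  let fX := ev1 p X hX f
  let fY := ev1 p Y hY f
  let wS := ev1 p (X + Y) hS ((hfu.unit⁻¹ : (K p R)ˣ) : K p R)
  let D2 : T2 p R → T2 p R := fun z => snd (Δ2 p z)
  have D2mul : ∀ a b, D2 (a * b) = a * D2 b + D2 a * b := fun a b => by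
    simp [D2, map_mul, DualNumber.snd_mul, fst_Δ2]
  have hD2 : ∀ (t : T2 p R) (ht : t ^ p = 0), Δ2 p t = inl t + ε → ∀ u, D2 (ev1 p t ht u) = ev1 p t ht (D p u) :=
    fun t ht e u => by
      have e' : (Δ2 p).comp (ev1 p t ht) = (dmap (ev1 p t ht)).comp (Δ p) :=
        AlphaPn.algHom_ext (by simp [Δ, dmap_inl, dmap_eps, e])
      show snd (((Δ2 p).comp (ev1 p t ht)) u) = _
      rw [e']
      exact (snd_dmap _ _).1
  have eX : Δ2 p X = inl X + ε := by simp [X, Δ2, ev2_tmul]
  have eY : Δ2 p Y = inl Y := by simp [Y, Δ2, ev2_tmul]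
  have hDX : D2 fX = fX * (ev1 p X hX g + algebraMap R _ c) := by
    rw [hD2 X hX eX, hDf, map_mul, map_add, AlgHom.commutes]
  have hDY : D2 fY = 0 := by
    have e' : (Δ2 p).comp (ev1 p Y hY) = (inlAlgHom R (T2 p R) (T2 p R)).comp (ev1 p Y hY) :=
      AlphaPn.algHom_ext (by simp [eY, inlAlgHom])
    show snd (((Δ2 p).comp (ev1 p Y hY)) f) = _
    rw [e']
    rfl
  have hDw : D2 wS = - wS * (ev1 p (X + Y) hS g + algebraMap R _ c) := by
    have e1 : D p ((hfu.unit⁻¹ : (K p R)ˣ) : K p R) =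
        - ((hfu.unit⁻¹ : (K p R)ˣ) : K p R) * (g + algebraMap R _ c) := by
      have h1 : ((hfu.unit⁻¹ : (K p R)ˣ) : K p R) * f = 1 := hfu.unit.inv_mul
      have h2 := congrArg (D p) h1
      rw [D_mul, D_one, hDf] at h2
      calc D p ((hfu.unit⁻¹ : (K p R)ˣ) : K p R)
          = D p ((hfu.unit⁻¹ : (K p R)ˣ) : K p R) * (((hfu.unit⁻¹ : (K p R)ˣ) : K p R) * f) := by rw [h1, mul_one]
        _ = _ := by linear_combination ((hfu.unit⁻¹ : (K p R)ˣ) : K p R) * h2 - ((hfu.unit⁻¹ : (K p R)ˣ) : K p R) * (g + algebraMap R _ c) * h1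
    rw [hD2 (X + Y) hS (by rw [map_add, eX, eY, TrivSqZeroExt.inl_add]; abel), e1, map_mul, map_neg, map_add,
      AlgHom.commutes]
  have hDh : D2 h = h * (ev1 p (X + Y) hS g - ev1 p X hX g) := by
    have e := hcoc (ε : (T2 p R)[ε]) (inl X) (inl Y) (eps_pow p) (inl_pow_p p hX) (inl_pow_p p hY)
    have e1 : ev2 p (inl X) (inl Y) (inl_pow_p p hX) (inl_pow_p p hY) h = inl h := by
      rw [← map_ev2 p (inlAlgHom R (T2 p R) (T2 p R)) X Y hX hY (inl X) (inl Y) _ _ rfl rfl h, hid]
      rfl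
    have e2 : ev2 p (ε + inl X) (inl Y) (add_pow_p (R := R) p (eps_pow p) (inl_pow_p p hX)) (inl_pow_p p hY) h =
        Δ2 p h :=
      DFunLike.congr_fun (ev2_congr p (add_comm _ _) rfl) h
    rw [e1, e2, DFunLike.congr_fun (ev2_congr p (rfl : (ε : (T2 p R)[ε]) = ε) (TrivSqZeroExt.inl_add (T2 p R) X Y).symm
      (ha' := eps_pow p) (hb' := inl_pow_p p hS)) h] at e
    have es := congrArg snd e
    rw [DualNumber.snd_mul, DualNumber.snd_mul, (hW (X + Y) hS).1, (hW (X + Y) hS).2, (hW X hX).1, (hW X hX).2,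
      fst_inl, snd_inl, zero_mul, add_zero, fst_Δ2] at es
    show snd (Δ2 p h) = _
    linear_combination -es
  let Φ := h * fX * fY * wS
  have hDΦ : D2 Φ = 0 := by
    show D2 (h * fX * fY * wS) = 0
    rw [D2mul, D2mul, D2mul, hDh, hDX, hDY, hDw]
    ring
  have hΦ := eq_of_snd_Δ2_eq_zero p Φ hDΦ
  have hΦ1 : ev2 p 0 (y p R) z0 (y_pow_p p R) Φ = 1 := by
    let E := ev2 (R := R) p 0 (y p R) z0 (y_pow_p p R)
    show E (h * fX * fY * wS) = 1
    rw [map_mul, map_mul, map_mul, show E h = 1 from h0' _ _]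
    have a1 : E fX = 1 := by
      rw [show E fX = ((Algebra.ofId R (K p R)).comp (c0 p)) f from DFunLike.congr_fun
        ((AlphaPn.algHom_ext (by simp [E, X, ev2_tmul])) : E.comp (ev1 p X hX) = _) f]
      show algebraMap R _ (c0 p f) = 1
      rw [hf1, map_one]
    have a2 : ∀ t (ht : t ^ p = 0), E t = y p R → ∀ u, E (ev1 p t ht u) = u := fun t ht e u =>
      DFunLike.congr_fun ((AlphaPn.algHom_ext (by simp [e])) : E.comp (ev1 p t ht) = AlgHom.id R _) u
    rw [a1, a2 Y hY (by simp [E, Y, ev2_tmul]), a2 (X + Y) hS (by simp [E, X, Y, ev2_tmul]), one_mul, one_mul]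
    exact hfu.unit.mul_inv
  rw [hΦ1, map_one] at hΦ
  have hmain : ev1 p (X + Y) hS f = fX * fY * h := by
    have e1 : wS * ev1 p (X + Y) hS f = 1 := by
      rw [← map_mul, show ((hfu.unit⁻¹ : (K p R)ˣ) : K p R) * f = 1 from hfu.unit.inv_mul, map_one]
    have e2 : h * fX * fY * wS = 1 := hΦ
    linear_combination (fX * fY * h) * e1 - (ev1 p (X + Y) hS f) * e2
  intro C _ _ a b ha hb
  let E := ev2 (R := R) p a b ha hb
  have eE := congrArg E hmain
  rw [map_mul, map_mul] at eE
  have a3 : ∀ t (ht : t ^ p = 0) (s : C) (hs : s ^ p = 0), E t = s → E (ev1 p t ht f) = ev1 p s hs f :=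
    fun t ht s hs e => DFunLike.congr_fun (ev1_unique p (φ := E.comp (ev1 p t ht)) (by simp [e])) f
  rw [a3 (X + Y) hS (a + b) _ (by simp [E, X, Y, ev2_tmul]), a3 X hX a ha (by simp [E, X, ev2_tmul]),
    a3 Y hY b hb (by simp [E, Y, ev2_tmul])] at eE
  exact eE

end Groth.Agent.GaExt23.AlphaSplit
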