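import Groth.Agent.Lib.GaExt23.PLift2
import Groth.Agent.Lib.GaExt23.DualExact
import Groth.Agent.Lib.SiteCoh.Shift
import Groth.Agent.Lib.GaPts.Basic
import Groth.Agent.Lib.AdeqA.SiteFpqc

/-!
# Homomorphisms from the additive group lift locally along quotients by `Gm` in characteristic `p`
-/

set_option autoImplicit false
set_option linter.style.haveILetI false
set_option maxHeartbeats 1600000
set_option backward.isDefEq.respectTransparency false
set_option backward.isDefEq.respectTransparency.types false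
universe u

open CategoryTheory CategoryTheory.Limits MonoidalCategory CartesianMonoidalCategory MonObj AlgebraicGeometry Opposite

noncomputable section

namespace Groth.Agent.GaExt23

open AdeqA (toSec toSec_comp toSec_ofSec toSec_injective)

variable {S : Scheme.{u}}

/-- A faithfully flat algebra of finite presentation gives a cover. -/
theorem ff_cover_mem {R : CommRingCat.{u}} (a : Spec R ⟶ S) (B : Type u) [CommRing B] [Algebra R B]
    [Module.FaithfullyFlat R B] [Algebra.FinitePresentation R B] :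
    Sieve.ofArrows (fun _ : PUnit.{1} => Over.mk (Spec.map (CommRingCat.ofHom (algebraMap R B)) ≫ a))
        (fun _ => (Over.homMk (Spec.map (CommRingCat.ofHom (algebraMap R B))) rfl :
          Over.mk (Spec.map (CommRingCat.ofHom (algebraMap R B)) ≫ a) ⟶ Over.mk a)) ∈
      QuotSh.J Scheme.fppfPrecoverage S (Over.mk a) := by
  rw [GrothendieckTopology.mem_over_iff, Sieve.overEquiv_ofArrows]
  refine Precoverage.generate_mem_toGrothendieck ((Scheme.ofArrows_mem_precoverage_iff _).2 ⟨fun x => ?_, fun _ => ⟨?_, ?_⟩⟩)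
  · obtain ⟨y, hy⟩ := PrimeSpectrum.comap_surjective_of_faithfullyFlat (A := R) (B := B) x
    exact ⟨PUnit.unit, y, hy⟩
  · show Flat (Spec.map (CommRingCat.ofHom (algebraMap R B)))
    rw [HasRingHomProperty.Spec_iff (P := @Flat)]
    exact RingHom.flat_algebraMap_iff.2 inferInstance
  · show LocallyOfFinitePresentation (Spec.map (CommRingCat.ofHom (algebraMap R B)))
    rw [HasRingHomProperty.Spec_iff (P := @LocallyOfFinitePresentation)]
    exact RingHom.finitePresentation_algebraMap.2 inferInstance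

theorem epi_of_surjective_imageSieve {U : Over S} {F F' : BigSite.Ab Scheme.fppfPrecoverage S} (π : F ⟶ F')
    (x : F'.obj.obj (op U)) (h : ∀ {R : CommRingCat.{u}} (g : Spec R ⟶ U.left),
      Presheaf.imageSieve π.hom (F'.obj.map (Over.homMk g rfl : Over.mk (g ≫ U.hom) ⟶ U).op x) ∈
        QuotSh.J Scheme.fppfPrecoverage S (Over.mk (g ≫ U.hom))) :
    Presheaf.imageSieve π.hom x ∈ QuotSh.J Scheme.fppfPrecoverage S U := by
  have hz : Sieve.ofArrows (fun k => Over.mk (U.left.affineCover.f k ≫ U.hom))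
      (fun k => (Over.homMk (U.left.affineCover.f k) rfl : Over.mk (U.left.affineCover.f k ≫ U.hom) ⟶ U)) ∈
        QuotSh.J Scheme.fppfPrecoverage S U := by
    rw [GrothendieckTopology.mem_over_iff, Sieve.overEquiv_ofArrows]
    refine Precoverage.generate_mem_toGrothendieck ((Scheme.ofArrows_mem_precoverage_iff _).2
      ⟨fun y => ?_, fun k => ⟨show Flat (U.left.affineCover.f k) from inferInstance,
        show LocallyOfFinitePresentation (U.left.affineCover.f k) from inferInstance⟩⟩)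
    exact ⟨U.left.affineCover.idx y, U.left.affineCover.covers y⟩
  refine (QuotSh.J Scheme.fppfPrecoverage S).transitive hz _ fun Z g hg => ?_
  obtain ⟨W, c, _, ⟨k⟩, rfl⟩ := hg
  refine GrothendieckTopology.superset_covering _ ?_
    ((QuotSh.J Scheme.fppfPrecoverage S).pullback_stable c (h (U.left.affineCover.f k)))
  intro W' d hd
  obtain ⟨t, ht⟩ := hd
  refine ⟨t, ht.trans ?_⟩
  show F'.obj.map (d ≫ c).op (F'.obj.map _ x) = F'.obj.map (d ≫ c ≫ _).op x
  rw [← ConcreteCategory.comp_apply, ← Functor.map_comp, ← op_comp, Category.assoc]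

namespace ExtSh

variable {R : CommRingCat.{u}} (a : Spec R ⟶ S)

/-- The spectrum of an algebra over an affine object. -/
abbrev PS (C : Type u) [CommRing C] [Algebra R C] : Over S :=
  Over.mk (Spec.map (CommRingCat.ofHom (algebraMap R C)) ≫ a)

/-- The structure map. -/
abbrev pr (C : Type u) [CommRing C] [Algebra R C] : PS a C ⟶ Over.mk a :=
  Over.homMk (Spec.map (CommRingCat.ofHom (algebraMap R C))) rfl

variable {a}

/-- The functions on an object over an affine object form an algebra. -/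
abbrev ψr {T : Over S} (r : T ⟶ Over.mk a) : R →+* Γ(T.left, ⊤) := (toSec r.left).hom

theorem ψr_comp {T T' : Over S} (g : T' ⟶ T) (r : T ⟶ Over.mk a) :
    ψr (g ≫ r) = g.left.appTop.hom.comp (ψr r) := by
  show (toSec (g.left ≫ r.left)).hom = _
  simp only [toSec, Scheme.Hom.comp_appTop, CommRingCat.hom_comp, RingHom.comp_assoc]
  rfl

theorem ψr_pr (C : Type u) [CommRing C] [Algebra R C] (x : R) :
    ψr (pr a C) x = (Scheme.ΓSpecIso (CommRingCat.of C)).inv (algebraMap R C x) := by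
  show (toSec (Spec.map (CommRingCat.ofHom (algebraMap R C)))) x = _
  rw [toSec, ← Scheme.ΓSpecIso_inv_naturality]
  rfl

/-- The morphism to a spectrum given by a map on functions. -/
def toPS {T : Over S} (r : T ⟶ Over.mk a) {C : Type u} [CommRing C] [Algebra R C] (φ : C →+* Γ(T.left, ⊤))
    (h : φ.comp (algebraMap R C) = ψr r) : T ⟶ PS a C :=
  Over.homMk (T.left.toSpecΓ ≫ Spec.map (CommRingCat.ofHom φ)) (by
    rw [← Over.w r]
    show _ ≫ Spec.map _ ≫ a = r.left ≫ a
    refine (Category.assoc _ _ _).symm.trans (congrArg (· ≫ a) (toSec_injective ?_))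
    rw [toSec_comp, toSec_ofSec]
    exact CommRingCat.hom_ext h)

theorem appTop_toPS {T : Over S} (r : T ⟶ Over.mk a) {C : Type u} [CommRing C] [Algebra R C] (φ : C →+* Γ(T.left, ⊤))
    (h : φ.comp (algebraMap R C) = ψr r) (q : C) :
    (toPS r φ h).left.appTop ((Scheme.ΓSpecIso (CommRingCat.of C)).inv q) = φ q :=
  ConcreteCategory.congr_hom (toSec_ofSec (T := T.left) (CommRingCat.ofHom φ)) q

theorem toPS_pr {T : Over S} (r : T ⟶ Over.mk a) {C : Type u} [CommRing C] [Algebra R C] (φ : C →+* Γ(T.left, ⊤))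
    (h : φ.comp (algebraMap R C) = ψr r) : toPS r φ h ≫ pr a C = r := by
  refine Over.OverMorphism.ext (toSec_injective ?_)
  show toSec ((_ ≫ _) ≫ Spec.map _) = _
  rw [toSec_comp, toSec_ofSec]
  exact CommRingCat.hom_ext h

theorem toPS_eq {T : Over S} {C : Type u} [CommRing C] [Algebra R C] {r : T ⟶ Over.mk a} {φ : C →+* Γ(T.left, ⊤)}
    {h : φ.comp (algebraMap R C) = ψr r} (g : T ⟶ PS a C)
    (hg : ∀ q, g.left.appTop ((Scheme.ΓSpecIso (CommRingCat.of C)).inv q) = φ q) : g = toPS r φ h := by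
  refine Over.OverMorphism.ext (toSec_injective ?_)
  show toSec g.left = toSec (_ ≫ _)
  rw [toSec_ofSec]
  exact CommRingCat.hom_ext (RingHom.ext hg)

variable (a) in
/-- A coordinate point. -/
abbrev cp {C : Type u} [CommRing C] [Algebra R C] (q : C) : PS a C ⟶ Red.Ga S :=
  GaPts.ptOfFn ((Scheme.ΓSpecIso (CommRingCat.of C)).inv q)

theorem toPS_cp {T : Over S} (r : T ⟶ Over.mk a) {C : Type u} [CommRing C] [Algebra R C] (φ : C →+* Γ(T.left, ⊤))
    (h : φ.comp (algebraMap R C) = ψr r) (q : C) (x : T ⟶ Red.Ga S) (hq : φ q = Red.gaFn x) :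
    toPS r φ h ≫ cp a q = x := by
  refine GaPts.gaFn_injective ?_
  show Red.gaFn _ = Red.gaFn x
  rw [GaPts.gaFn_comp, GaPts.gaFn_ptOfFn, appTop_toPS, hq]

/-- The point of the line. -/
def evL {T : Over S} (r : T ⟶ Over.mk a) (x : T ⟶ Red.Ga S) : T ⟶ PS a (Polynomial R) :=
  toPS r (Polynomial.eval₂RingHom (ψr r) (Red.gaFn x)) (RingHom.ext fun _ => Polynomial.eval₂_C _ _)

theorem evL_pr {T : Over S} (r : T ⟶ Over.mk a) (x : T ⟶ Red.Ga S) : evL r x ≫ pr a _ = r := toPS_pr _ _ _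

theorem evL_cp {T : Over S} (r : T ⟶ Over.mk a) (x : T ⟶ Red.Ga S) :
    evL r x ≫ cp a (Polynomial.X : Polynomial R) = x :=
  toPS_cp _ _ _ _ _ (Polynomial.eval₂_X _ _)

theorem comp_evL {T T' : Over S} (g : T' ⟶ T) (r : T ⟶ Over.mk a) (x : T ⟶ Red.Ga S) :
    g ≫ evL r x = evL (g ≫ r) (g ≫ x) := by
  refine toPS_eq _ fun q => ?_
  show g.left.appTop ((toPS r _ _).left.appTop _) = _
  rw [appTop_toPS]
  refine DFunLike.congr_fun (Polynomial.ringHom_ext (f := g.left.appTop.hom.comp (Polynomial.eval₂RingHom (ψr r) (Red.gaFn x)))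
    (g := Polynomial.eval₂RingHom (ψr (g ≫ r)) (Red.gaFn (g ≫ x))) (fun z => ?_) ?_) q
  · simp [ψr_comp]
  · simp [GaPts.gaFn_comp]

/-- The point of the plane. -/
def evP {n : ℕ} {T : Over S} (r : T ⟶ Over.mk a) (x : Fin n → (T ⟶ Red.Ga S)) :
    T ⟶ PS a (MvPolynomial (Fin n) R) :=
  toPS r (MvPolynomial.eval₂Hom (ψr r) fun j => Red.gaFn (x j)) (RingHom.ext fun _ => MvPolynomial.eval₂Hom_C _ _ _)

theorem evP_pr {n : ℕ} {T : Over S} (r : T ⟶ Over.mk a) (x : Fin n → (T ⟶ Red.Ga S)) : evP r x ≫ pr a _ = r :=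
  toPS_pr _ _ _

theorem evP_cp {n : ℕ} {T : Over S} (r : T ⟶ Over.mk a) (x : Fin n → (T ⟶ Red.Ga S)) (j : Fin n) :
    evP r x ≫ cp a (MvPolynomial.X j : MvPolynomial (Fin n) R) = x j :=
  toPS_cp _ _ _ _ _ (MvPolynomial.eval₂Hom_X' _ _ _)

variable {Q : BigSite.Ab Scheme.fppfPrecoverage S}

/-- Values of a homomorphism on the slice. -/
abbrev val {U : Over S} (χ : (CGrpSh2.Ga Scheme.fppfPrecoverage S).over U ⟶ Q.over U) {T : Over S} (r : T ⟶ U)
    (x : T ⟶ Red.Ga S) : Q.obj.obj (op T) :=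
  χ.hom.app (op (Over.mk r)) (ULift.up (Additive.ofMul x))

theorem val_comp {U : Over S} (χ : (CGrpSh2.Ga Scheme.fppfPrecoverage S).over U ⟶ Q.over U) {T T' : Over S}
    (g : T' ⟶ T) (r : T ⟶ U) (x : T ⟶ Red.Ga S) :
    val χ (g ≫ r) (g ≫ x) = Q.obj.map g.op (val χ r x) :=
  NatTrans.naturality_apply χ.hom (Over.homMk g rfl : Over.mk (g ≫ r) ⟶ Over.mk r).op (ULift.up (Additive.ofMul x))

theorem val_mul {U : Over S} (χ : (CGrpSh2.Ga Scheme.fppfPrecoverage S).over U ⟶ Q.over U) {T : Over S} (r : T ⟶ U)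
    (x y : T ⟶ Red.Ga S) : val χ r (x * y) = val χ r x + val χ r y :=
  map_add (χ.hom.app (op (Over.mk r))).hom _ _

theorem val_one {U : Over S} (χ : (CGrpSh2.Ga Scheme.fppfPrecoverage S).over U ⟶ Q.over U) {T : Over S} (r : T ⟶ U) :
    val χ r (1 : T ⟶ Red.Ga S) = 0 :=
  map_zero (χ.hom.app (op (Over.mk r))).hom

variable {I : BigSite.Ab Scheme.fppfPrecoverage S} {i : CGrpSh2.Gm Scheme.fppfPrecoverage S ⟶ I} {π : I ⟶ Q}
  {w : i ≫ π = 0} (hS : (ShortComplex.mk i π w).ShortExact)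

include hS in
/-- A lift over the line gives a lift of the homomorphism after a finite stage. -/
theorem exists_hom_of_line (p : ℕ) [Fact p.Prime] [CharP R p]
    (χ : (CGrpSh2.Ga Scheme.fppfPrecoverage S).over (Over.mk a) ⟶ Q.over (Over.mk a))
    (e₀ : I.obj.obj (op (PS a (Polynomial R))))
    (he₀ : π.hom.app _ e₀ = val χ (pr a _) (cp a (Polynomial.X : Polynomial R))) :
    ∃ (A : Stage p R) (φ : (CGrpSh2.Ga Scheme.fppfPrecoverage S).over (PS a A.carrier) ⟶ I.over (PS a A.carrier)),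
      ∀ (T : Over S) (r : T ⟶ PS a A.carrier) (x : T ⟶ Red.Ga S),
        π.hom.app (op T) (φ.hom.app (op (Over.mk r)) (ULift.up (Additive.ofMul x))) = val χ (r ≫ pr a _) x := by
  let G : Over S := Red.Ga S
  let e : I.obj.obj (op (PS a (Polynomial R))) := e₀ - I.obj.map (evL (pr a _) (1 : PS a (Polynomial R) ⟶ G)).op e₀
  let s : ∀ {T : Over S}, (T ⟶ Over.mk a) → (T ⟶ G) → I.obj.obj (op T) := fun r x => I.obj.map (evL r x).op e
  have hs : ∀ {T T' : Over S} (g : T' ⟶ T) (r : T ⟶ Over.mk a) (x : T ⟶ G),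
      s (g ≫ r) (g ≫ x) = I.obj.map g.op (s r x) := fun g r x => by
    show I.obj.map (evL (g ≫ r) (g ≫ x)).op e = _
    rw [← comp_evL, op_comp, Functor.map_comp]
    rfl
  have h₁ : π.hom.app _ e = val χ (pr a _) (cp a (Polynomial.X : Polynomial R)) := by
    have h2 : π.hom.app _ (I.obj.map (evL (pr a _) (1 : PS a (Polynomial R) ⟶ G)).op e₀) = 0 := by
      rw [NatTrans.naturality_apply π.hom, he₀, ← val_comp, evL_pr, evL_cp, val_one]
    show π.hom.app _ (e₀ - _) = _
    rw [map_sub, h2, sub_zero, he₀]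
  have hps : ∀ {T : Over S} (r : T ⟶ Over.mk a) (x : T ⟶ G), π.hom.app (op T) (s r x) = val χ r x := fun r x => by
    show π.hom.app _ (I.obj.map _ e) = _
    rw [NatTrans.naturality_apply π.hom, h₁, ← val_comp, evL_pr, evL_cp]
  have hs0 : ∀ {T : Over S} (r : T ⟶ Over.mk a), s r 1 = 0 := fun {T} r => by
    show I.obj.map (evL r (1 : T ⟶ G)).op (e₀ - _) = 0
    rw [map_sub, sub_eq_zero, ← ConcreteCategory.comp_apply, ← Functor.map_comp, ← op_comp, comp_evL, evL_pr,
      MonObj.comp_one]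
  let X2 : Fin 2 → (PS a (MvPolynomial (Fin 2) R) ⟶ G) := fun j => cp a (MvPolynomial.X j)
  obtain ⟨c, hc⟩ := AdeqA.exists_app_f hS (op (PS a (MvPolynomial (Fin 2) R)))
    (s (pr a _) (X2 0 * X2 1) - s (pr a _) (X2 0) - s (pr a _) (X2 1)) (by
      rw [map_sub, map_sub]
      show π.hom.app _ _ - π.hom.app _ _ - π.hom.app _ _ = 0
      rw [hps, hps, hps, val_mul]
      abel)
  change i.hom.app _ c = _ at hc
  let cc : PS a (MvPolynomial (Fin 2) R) ⟶ Red.Gm S := c.down.toMul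
  let h : MvPolynomial (Fin 2) R := (Scheme.ΓSpecIso (CommRingCat.of (MvPolynomial (Fin 2) R))).hom
    (GmPts.unitOfPt cc : Γ((PS a (MvPolynomial (Fin 2) R)).left, ⊤))
  let ι' : ∀ {T : Over S}, (T ⟶ Red.Gm S) → I.obj.obj (op T) := fun k => i.hom.app _ (ULift.up (Additive.ofMul k))
  have ιmul : ∀ {T : Over S} (k k' : T ⟶ Red.Gm S), ι' (k * k') = ι' k + ι' k' := fun k k' => by
    rw [← map_add]; rfl
  have ιinj : ∀ {T : Over S} (k k' : T ⟶ Red.Gm S), ι' k = ι' k' → k = k' := fun {T} k k' h =>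
    congrArg (fun z => z.down.toMul) (AdeqA.injective_app_f hS (op T) h)
  have ι1 : ∀ T : Over S, ι' (1 : T ⟶ Red.Gm S) = 0 := fun T => map_zero (i.hom.app (op T)).hom
  let K : ∀ {T : Over S}, (T ⟶ Over.mk a) → (T ⟶ G) → (T ⟶ G) → (T ⟶ Red.Gm S) := fun r x y => evP r ![x, y] ≫ cc
  have hadd : ∀ {T : Over S} (r : T ⟶ Over.mk a) (x y : T ⟶ G), ι' (K r x y) = s r (x * y) - s r x - s r y :=
    fun {T} r x y => by
    refine (NatTrans.naturality_apply i.hom (evP r ![x, y]).op c).trans ((congrArg _ hc).trans ?_)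
    rw [map_sub, map_sub, ← hs, ← hs, ← hs, MonObj.comp_mul, evP_pr]
    simp only [X2, evP_cp, Matrix.cons_val_zero, Matrix.cons_val_one]
  have hK : ∀ {T : Over S} (r : T ⟶ Over.mk a) (x y : T ⟶ G),
      (GmPts.unitOfPt (K r x y) : Γ(T.left, ⊤)) = MvPolynomial.eval₂Hom (ψr r) ![Red.gaFn x, Red.gaFn y] h := by
    intro T r x y
    rw [GmPts.unitOfPt_comp]
    have e₁ : (GmPts.unitOfPt cc : Γ((PS a (MvPolynomial (Fin 2) R)).left, ⊤)) =
        (Scheme.ΓSpecIso (CommRingCat.of (MvPolynomial (Fin 2) R))).inv h :=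
      (ConcreteCategory.congr_hom (Scheme.ΓSpecIso (CommRingCat.of (MvPolynomial (Fin 2) R))).hom_inv_id _).symm
    show (evP r ![x, y]).left.appTop _ = _
    rw [e₁]
    refine (appTop_toPS _ _ _ h).trans ?_
    congr 2
    funext j; fin_cases j <;> rfl
  have hK' : ∀ {C : Type u} [CommRing C] [Algebra R C] (q q' : C),
      (GmPts.unitOfPt (K (pr a C) (cp a q) (cp a q')) : Γ((PS a C).left, ⊤)) =
        (Scheme.ΓSpecIso (CommRingCat.of C)).inv (MvPolynomial.aeval ![q, q'] h) := by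
    intro C _ _ q q'
    rw [hK, GaPts.gaFn_ptOfFn, GaPts.gaFn_ptOfFn]
    refine Eq.symm (DFunLike.congr_fun (MvPolynomial.ringHom_ext (f := (Scheme.ΓSpecIso (CommRingCat.of C)).inv.hom.comp
      (MvPolynomial.aeval ![q, q'] : MvPolynomial (Fin 2) R →ₐ[R] C).toRingHom)
      (g := MvPolynomial.eval₂Hom (ψr (pr a C))
        ![(Scheme.ΓSpecIso (CommRingCat.of C)).inv q, (Scheme.ΓSpecIso (CommRingCat.of C)).inv q'])
      (fun z => ?_) (fun j => ?_)) h)
    · show (Scheme.ΓSpecIso (CommRingCat.of C)).inv (MvPolynomial.aeval ![q, q'] (MvPolynomial.C z)) = _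
      rw [MvPolynomial.aeval_C, MvPolynomial.eval₂Hom_C]
      exact (ψr_pr C z).symm
    · show (Scheme.ΓSpecIso (CommRingCat.of C)).inv (MvPolynomial.aeval ![q, q'] (MvPolynomial.X j)) = _
      rw [MvPolynomial.aeval_X, MvPolynomial.eval₂Hom_X']
      fin_cases j <;> rfl
  have Γinj : ∀ (C : Type u) [CommRing C] {q q' : C}, (Scheme.ΓSpecIso (CommRingCat.of C)).inv q =
      (Scheme.ΓSpecIso (CommRingCat.of C)).inv q' → q = q' := fun C _ q q' e =>
    (Scheme.ΓSpecIso (CommRingCat.of C)).symm.commRingCatIsoToRingEquiv.injective e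
  have cmul : ∀ {C : Type u} [CommRing C] [Algebra R C] (q q' : C), cp a q * cp a q' = cp a (q + q') :=
    fun q q' => by rw [cp, cp, cp, map_add]; exact (GaPts.ptOfFn_add _ _).symm
  have h0 : MvPolynomial.aeval ![(MvPolynomial.X 0 : MvPolynomial (Fin 2) R), 0] h = 1 := by
    refine Γinj _ ((hK' _ _).symm.trans ?_)
    have e1 : cp a (0 : MvPolynomial (Fin 2) R) = 1 := by rw [cp, map_zero]; exact GaPts.ptOfFn_zero
    have e2 : K (pr a _) (cp a (MvPolynomial.X 0 : MvPolynomial (Fin 2) R)) 1 = 1 := ιinj _ _ (by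
      rw [hadd, hs0, ι1, show ∀ z : PS a (MvPolynomial (Fin 2) R) ⟶ G, z * 1 = z from fun z => MulOneClass.mul_one z,
        sub_self, sub_zero])
    rw [e1, e2, GmPts.unitOfPt_one, Units.val_one, map_one]
  have hsymm : GaDual.IsSymm2 h := by
    refine Γinj _ ((hK' (MvPolynomial.X 1) (MvPolynomial.X 0)).symm.trans (Eq.trans ?_ ((hK' (MvPolynomial.X 0) (MvPolynomial.X 1)).trans ?_)))
    · exact congrArg (fun k => (GmPts.unitOfPt k : Γ((PS a (MvPolynomial (Fin 2) R)).left, ⊤)))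
        (ιinj (K (pr a (MvPolynomial (Fin 2) R)) (cp a (MvPolynomial.X 1 : MvPolynomial (Fin 2) R)) (cp a (MvPolynomial.X 0 : MvPolynomial (Fin 2) R)))
          (K (pr a (MvPolynomial (Fin 2) R)) (cp a (MvPolynomial.X 0 : MvPolynomial (Fin 2) R)) (cp a (MvPolynomial.X 1 : MvPolynomial (Fin 2) R)))
          (by rw [hadd, hadd, _root_.mul_comm (cp a (MvPolynomial.X 1 : MvPolynomial (Fin 2) R))]; abel))
    · rw [show ![(MvPolynomial.X 0 : MvPolynomial (Fin 2) R), MvPolynomial.X 1] = MvPolynomial.X from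
        funext fun j => by fin_cases j <;> rfl, MvPolynomial.aeval_X_left_apply]
  have hcoc : GaDual.IsMulCocycle h := by
    let z : Fin 3 → (PS a (MvPolynomial (Fin 3) R) ⟶ G) := fun j => cp a (MvPolynomial.X j)
    have e' : K (pr a _) (z 1) (z 2) * K (pr a _) (z 0) (z 1 * z 2) = K (pr a _) (z 0 * z 1) (z 2) * K (pr a _) (z 0) (z 1) :=
      ιinj _ _ (by rw [ιmul, ιmul, hadd, hadd, hadd, hadd, _root_.mul_assoc (z 0) (z 1) (z 2)]; abel)
    have e'' := congrArg (fun k => (GmPts.unitOfPt k : Γ((PS a (MvPolynomial (Fin 3) R)).left, ⊤))) e'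
    simp only [z, cmul, GmPts.unitOfPt_mul, Units.val_mul, hK', ← map_mul] at e''
    exact Γinj _ ((map_mul (Scheme.ΓSpecIso (CommRingCat.of (MvPolynomial (Fin 3) R))).inv.hom _ _).trans
      (e''.trans (map_mul (Scheme.ΓSpecIso (CommRingCat.of (MvPolynomial (Fin 3) R))).inv.hom _ _).symm))
  have hu : IsUnit h := (Units.isUnit _).map (Scheme.ΓSpecIso (CommRingCat.of (MvPolynomial (Fin 2) R))).hom.hom
  obtain ⟨A, f, hfu, hf⟩ := PRoots.exists_splitting_stage p R h hu h0 hsymm hcoc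
  let ψA : ∀ {T : Over S}, (T ⟶ PS a A.carrier) → (A.carrier →+* Γ(T.left, ⊤)) := fun r => (toSec r.left).hom
  have hψA : ∀ {T : Over S} (r : T ⟶ PS a A.carrier) (z : R),
      ψA r (algebraMap R A.carrier z) = ψr (r ≫ pr a _) z := fun r z => by
    show _ = (toSec (r.left ≫ Spec.map (CommRingCat.ofHom (algebraMap R A.carrier)))) z
    rw [toSec_comp]
    rfl
  let ev : ∀ {T : Over S}, (T ⟶ PS a A.carrier) → (T ⟶ G) → (Polynomial A.carrier →+* Γ(T.left, ⊤)) := fun r x =>
    Polynomial.eval₂RingHom (ψA r) (Red.gaFn x)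
  let F : ∀ {T : Over S}, (T ⟶ PS a A.carrier) → (T ⟶ G) → (T ⟶ Red.Gm S) := fun r x =>
    GmPts.ptOfUnit (Units.map (ev r x).toMonoidHom hfu.unit)
  have hF : ∀ {T : Over S} (r : T ⟶ PS a A.carrier) (x : T ⟶ G),
      (GmPts.unitOfPt (F r x) : Γ(T.left, ⊤)) = ev r x f := fun r x => by
    rw [GmPts.unitOfPt_ptOfUnit]
    rfl
  have hFnat : ∀ {T T' : Over S} (g : T' ⟶ T) (r : T ⟶ PS a A.carrier) (x : T ⟶ G), g ≫ F r x = F (g ≫ r) (g ≫ x) := by
    intro T T' g r x
    rw [← GmPts.ptOfUnit_unitOfPt (g ≫ F r x), ← GmPts.ptOfUnit_unitOfPt (F (g ≫ r) (g ≫ x))]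
    refine congrArg GmPts.ptOfUnit (Units.ext ?_)
    rw [GmPts.unitOfPt_comp, hF]
    show g.left.appTop (GmPts.unitOfPt (F r x) : Γ(T.left, ⊤)) = _
    rw [hF]
    refine DFunLike.congr_fun (Polynomial.ringHom_ext (f := g.left.appTop.hom.comp (ev r x)) (g := ev (g ≫ r) (g ≫ x))
      (fun z => ?_) ?_) f
    · simp [ev, ψA, toSec, Scheme.Hom.comp_appTop]
    · simp [ev, GaPts.gaFn_comp]
  have hFK : ∀ {T : Over S} (r : T ⟶ PS a A.carrier) (x y : T ⟶ G),
      F r (x * y) = F r x * F r y * K (r ≫ pr a _) x y := fun {T} r x y => by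
    rw [← GmPts.ptOfUnit_unitOfPt (F r (x * y)), ← GmPts.ptOfUnit_unitOfPt (F r x * F r y * K (r ≫ pr a _) x y)]
    refine congrArg GmPts.ptOfUnit (Units.ext ?_)
    rw [GmPts.unitOfPt_mul, GmPts.unitOfPt_mul, Units.val_mul, Units.val_mul, hF, hF, hF, hK]
    let Φ := MvPolynomial.eval₂Hom (ψA r) ![Red.gaFn x, Red.gaFn y]
    have hh : Φ (MvPolynomial.map (algebraMap R A.carrier) h) =
        MvPolynomial.eval₂Hom (ψr (r ≫ pr a _)) ![Red.gaFn x, Red.gaFn y] h := by
      rw [MvPolynomial.eval₂Hom_map_hom]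
      exact congrArg (fun k => MvPolynomial.eval₂Hom k ![Red.gaFn x, Red.gaFn y] h) (RingHom.ext (hψA r))
    have hΦ : ∀ (q : MvPolynomial (Fin 2) A.carrier) (t : T ⟶ G), Φ q = Red.gaFn t →
        Φ (Polynomial.aeval q f) = ev r t f := fun q t hq =>
      DFunLike.congr_fun (Polynomial.ringHom_ext (f := Φ.comp (Polynomial.aeval q).toRingHom) (g := ev r t)
        (fun z => by
          show Φ (Polynomial.aeval q (Polynomial.C z)) = Polynomial.eval₂ _ _ (Polynomial.C z)
          rw [Polynomial.aeval_C, Polynomial.eval₂_C]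
          exact MvPolynomial.eval₂Hom_C _ _ z)
        (by
          show Φ (Polynomial.aeval q Polynomial.X) = Polynomial.eval₂ _ _ Polynomial.X
          rw [Polynomial.aeval_X, Polynomial.eval₂_X, hq])) f
    have e' := congrArg Φ hf
    rw [map_mul, map_mul, hΦ _ (x * y) (by rw [map_add, GaPts.gaFn_mul]; simp [Φ]), hΦ _ x (by simp [Φ]),
      hΦ _ y (by simp [Φ]), hh] at e'
    exact e'
  let hh : ∀ V : Over (PS a A.carrier),
      (CGrpSh2.Ga Scheme.fppfPrecoverage S).obj.obj (op V.left) →+ I.obj.obj (op V.left) := fun V =>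
    AddMonoidHom.mk' (fun z => s (V.hom ≫ pr a _) z.down.toMul - ι' (F V.hom z.down.toMul)) fun x y => by
      show s _ (x.down.toMul * y.down.toMul) - ι' (F _ (x.down.toMul * y.down.toMul)) = _
      rw [hFK, ιmul, ιmul, hadd]
      abel
  refine ⟨A, ⟨{ app := fun V => AddCommGrpCat.ofHom (hh V.unop)
                naturality := fun V V' g => AddCommGrpCat.ext fun z => ?_ }⟩, fun T r x => ?_⟩
  · show s (V'.unop.hom ≫ pr a _) (g.unop.left ≫ z.down.toMul) - ι' (F V'.unop.hom (g.unop.left ≫ z.down.toMul)) =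
      I.obj.map g.unop.left.op (s (V.unop.hom ≫ pr a _) z.down.toMul - ι' (F V.unop.hom z.down.toMul))
    rw [map_sub, ← hs, ← Over.w g.unop, Category.assoc]
    refine congrArg₂ (· - ·) rfl ?_
    rw [← hFnat]
    exact NatTrans.naturality_apply i.hom g.unop.left.op _
  · show π.hom.app (op T) (s (r ≫ pr a _) x - ι' (F r x)) = _
    rw [map_sub, hps]
    have hz : π.hom.app (op T) (ι' (F r x)) = 0 :=
      ConcreteCategory.congr_hom (congrArg (fun q : CGrpSh2.Gm Scheme.fppfPrecoverage S ⟶ Q => q.hom.app (op T)) w) _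
    rw [hz, sub_zero]

end ExtSh

end Groth.Agent.GaExt23
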