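import Groth.Agent.Lib.GaExt23.PTors

/-!
# Unit cocycles killed by `p` over rings perfect modulo nilpotents
-/

set_option autoImplicit false
universe u

open TensorProduct

noncomputable section

namespace Groth.Agent.GaExt23

open TorsTriv25

variable {A B : Type u} [CommRing A] [CommRing B] [Algebra A B]

/-- A unit cocycle whose `p`-th power is a coboundary is a coboundary, over a ring perfect modulo nilpotents. -/
theorem exists_unit_coboundary_nil (p : ℕ) [hp : Fact p.Prime] [CharP A p]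
    (hF : ∀ x : A, ∃ y : A, IsNilpotent (x - y ^ p))
    [Module.FaithfullyFlat A B] (θ : (B ⊗[A] B)ˣ)
    (h2 : pair01 (θ : B ⊗[A] B) * pair12 (θ : B ⊗[A] B) = pair02 (θ : B ⊗[A] B))
    (h1 : diagHom (θ : B ⊗[A] B) = 1) (v : Bˣ)
    (hv : q0 (v : B) * (θ : B ⊗[A] B) ^ p = q1 (v : B)) :
    ∃ m : Bˣ, q0 (m : B) * (θ : B ⊗[A] B) = q1 (m : B) := by
  have hinj : Function.Injective (algebraMap A B) := FaithfulSMul.algebraMap_injective _ _
  haveI : CharP B p := charP_of_injective_algebraMap hinj p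
  haveI : ExpChar B p := ExpChar.prime hp.out
  have h1' : diagHom ((θ⁻¹ : (B ⊗[A] B)ˣ) : B ⊗[A] B) = 1 := by
    have := congrArg diagHom θ.inv_mul
    rwa [map_mul, h1, mul_one, map_one] at this
  have h2' : pair01 ((θ⁻¹ : (B ⊗[A] B)ˣ) : B ⊗[A] B) * pair12 ((θ⁻¹ : (B ⊗[A] B)ˣ) : B ⊗[A] B) =
      pair02 ((θ⁻¹ : (B ⊗[A] B)ˣ) : B ⊗[A] B) := by
    have e : Units.map (pair01 (A := A) (B := B)).toMonoidHom θ * Units.map (pair12 (A := A) (B := B)).toMonoidHom θ =
        Units.map (pair02 (A := A) (B := B)).toMonoidHom θ := Units.ext h2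
    have e' : Units.map (pair01 (A := A) (B := B)).toMonoidHom θ⁻¹ * Units.map (pair12 (A := A) (B := B)).toMonoidHom θ⁻¹ =
        Units.map (pair02 (A := A) (B := B)).toMonoidHom θ⁻¹ := by
      rw [map_inv, map_inv, map_inv, ← e, mul_inv_rev]
      exact mul_comm ((Units.map (pair01 (A := A) (B := B)).toMonoidHom) θ)⁻¹ _
    exact congrArg Units.val e'
  obtain ⟨M, hM, hMs⟩ := bijective_twist _ h1 h2
  obtain ⟨M', hM', hM's⟩ := bijective_twist _ h1' h2'
  have hdesc : ∀ b : B, q0 (A := A) b = q1 b → ∃ a : A, algebraMap A B a = b := fun b hb => by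
    obtain ⟨a, ha⟩ := (Amitsur12.exact_zero A B A (b ⊗ₜ[A] (1 : A))).1 (by
      have h := congrArg ((TensorProduct.rid A B).symm.toLinearMap.lTensor B)
        (show b ⊗ₜ[A] (1 : B) = (1 : B) ⊗ₜ[A] b from hb)
      simp only [LinearMap.lTensor_tmul, LinearEquiv.coe_coe, TensorProduct.rid_symm_apply] at h
      simp [← h])
    refine ⟨a, ?_⟩
    have := congrArg (TensorProduct.rid A B) ha
    simpa [Algebra.smul_def] using this
  have hv' : q0 (A := A) ((v⁻¹ : Bˣ) : B) = q1 ((v⁻¹ : Bˣ) : B) * (θ : B ⊗[A] B) ^ p := by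
    have a : q0 (A := A) ((v⁻¹ : Bˣ) : B) * q0 (v : B) = 1 := by rw [← map_mul, Units.inv_mul, map_one]
    have b : q1 (A := A) ((v⁻¹ : Bˣ) : B) * q1 (v : B) = 1 := by rw [← map_mul, Units.inv_mul, map_one]
    calc q0 (A := A) ((v⁻¹ : Bˣ) : B) = q0 ((v⁻¹ : Bˣ) : B) * (q1 ((v⁻¹ : Bˣ) : B) * q1 (v : B)) := by rw [b, mul_one]
      _ = q1 ((v⁻¹ : Bˣ) : B) * (θ : B ⊗[A] B) ^ p * (q0 ((v⁻¹ : Bˣ) : B) * q0 (v : B)) := by rw [← hv]; ring
      _ = _ := by rw [a, mul_one]
  have hΦ : ∀ m : M, ∃ a : A, algebraMap A B a = (m : B) ^ p * ((v⁻¹ : Bˣ) : B) := fun m => hdesc _ (by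
    rw [map_mul, map_mul, map_pow, map_pow, hv', ← (hM m).1 m.2, mul_pow]
    ring)
  have hΨ : ∀ m : M', ∃ a : A, algebraMap A B a = (m : B) ^ p * (v : B) := fun m => hdesc _ (by
    have e : q0 (A := A) (m : B) * ((θ⁻¹ : (B ⊗[A] B)ˣ) : B ⊗[A] B) = q1 (m : B) := (hM' m).1 m.2
    rw [map_mul, map_mul, map_pow, map_pow, ← e, ← hv, mul_pow,
      show ∀ a b c d : B ⊗[A] B, a * b * (c * d) = a * c * (b * d) from fun a b c d => by ring, ← mul_pow _ _ p,
      θ.inv_mul, one_pow, mul_one])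
  choose Φ hΦ using hΦ
  choose Ψ hΨ using hΨ
  have hβ : ∀ (n : M) (l : M'), ∃ a : A, algebraMap A B a = (n : B) * (l : B) := fun n l => hdesc _ (by
    rw [map_mul q1, ← (hM n).1 n.2, ← (hM' l).1 l.2, map_mul, mul_mul_mul_comm, θ.mul_inv, mul_one])
  choose β hβ using hβ
  have hΦΨ : ∀ (n : M) (l : M'), Φ n * Ψ l = β n l ^ p := fun n l => hinj (by
    rw [map_mul, hΦ, hΨ, map_pow, hβ, mul_pow,
      show ∀ a b c d : B, a * b * (c * d) = a * c * (b * d) from fun a b c d => by ring, Units.inv_mul, mul_one])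
  have hrel : ∀ (m n : M) (l : M'), β n l ^ p * Φ m = β m l ^ p * Φ n := fun m n l => by
    rw [← hΦΨ, ← hΦΨ]; ring
  have hspan : ∀ (M₀ : Submodule A B) (Ξ : M₀ → A) (w : Bˣ),
      (∀ m : M₀, algebraMap A B (Ξ m) = (m : B) ^ p * (w : B)) →
      Function.Surjective (ModDesc12.mult M₀) → Ideal.span (Set.range Ξ) = ⊤ := fun M₀ Ξ w hΞ hs => by
    rw [← Ideal.comap_map_eq_self_of_faithfullyFlat (B := B) (Ideal.span (Set.range Ξ))]
    refine (Ideal.eq_top_iff_one _).2 ?_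
    show algebraMap A B 1 ∈ (Ideal.span (Set.range Ξ)).map (algebraMap A B)
    rw [map_one]
    have hI : ∀ z : B ⊗[A] M₀, (ModDesc12.mult M₀ z) ^ p ∈ (Ideal.span (Set.range Ξ)).map (algebraMap A B) := by
      intro z
      induction z using TensorProduct.induction_on with
      | zero => rw [map_zero, zero_pow hp.out.pos.ne']; exact Ideal.zero_mem _
      | add a b ha hb => rw [map_add, add_pow_char]; exact Ideal.add_mem _ ha hb
      | tmul s m =>
        rw [ModDesc12.mult_tmul, smul_eq_mul, mul_pow]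
        refine Ideal.mul_mem_left _ _ ?_
        have e : (m : B) ^ p = algebraMap A B (Ξ m) * ((w⁻¹ : Bˣ) : B) := by
          rw [hΞ, mul_assoc, Units.mul_inv, mul_one]
        rw [e]
        exact Ideal.mul_mem_right _ _ (Ideal.mem_map_of_mem _ (Ideal.subset_span ⟨m, rfl⟩))
    obtain ⟨z, hz⟩ := hs 1
    simpa [hz] using hI z
  have hone : ∀ {ι : Type u} (Ξ : ι → A), Ideal.span (Set.range Ξ) = ⊤ →
      ∃ c : ι →₀ A, c.sum (fun i a => a * Ξ i) = 1 := fun Ξ h => by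
    have h1 : (1 : A) ∈ Ideal.span (Set.range Ξ) := h ▸ trivial
    obtain ⟨c, hc⟩ := Finsupp.mem_span_range_iff_exists_finsupp.1 h1
    exact ⟨c, hc⟩
  -- reduce
  let S := A ⧸ nilradical A
  haveI : _root_.IsReduced S := (Ideal.isRadical_iff_quotient_reduced _).1 (Ideal.radical_isRadical _)
  haveI : Nontrivial A := CharP.nontrivial_of_char_ne_one (R := A) hp.out.ne_one
  haveI : Nontrivial S := Ideal.Quotient.nontrivial_iff.2 (fun h => one_ne_zero
    (by obtain ⟨k, hk⟩ := mem_nilradical.1 (h ▸ trivial : (1 : A) ∈ nilradical A); rwa [one_pow] at hk))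
  haveI : CharP S p := (CharP.charP_iff_prime_eq_zero hp.out).2 (by
    rw [← map_natCast (Ideal.Quotient.mk (nilradical A)), CharP.cast_eq_zero, map_zero])
  haveI : ExpChar S p := ExpChar.prime hp.out
  let π : A →+* S := Ideal.Quotient.mk (nilradical A)
  obtain ⟨cΦ, hcΦ⟩ := hone Φ (hspan M Φ v⁻¹ hΦ hMs)
  let φ : M → S := fun m => π (Φ m)
  have hpow : ∀ m : M, ∃ c : S, c ^ p = φ m := fun m => by
    obtain ⟨y, hy⟩ := hF (Φ m)
    exact ⟨π y, by rw [← map_pow]; exact (Ideal.Quotient.eq.2 (mem_nilradical.2 hy)).symm⟩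
  choose ψ hψ using hpow
  have hΦadd : ∀ a b : M, Φ (a + b) = Φ a + Φ b := fun a b => hinj (by
    rw [map_add, hΦ, hΦ, hΦ, Submodule.coe_add, add_pow_char, add_mul])
  have hΦsmul : ∀ (c : A) (a : M), Φ (c • a) = c ^ p * Φ a := fun c a => hinj (by
    rw [map_mul, map_pow, hΦ, hΦ, Submodule.coe_smul, Algebra.smul_def, mul_pow, mul_assoc])
  let Φh : M →+ A := AddMonoidHom.mk' Φ hΦadd
  -- a combination mapping to one
  obtain ⟨c₀, hc₀⟩ : ∃ c : M →₀ S, c.sum (fun i a => a * ψ i) = 1 := by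
    have h1 : Ideal.span (Set.range ψ) = ⊤ := by
      refine (Ideal.eq_top_iff_one _).2 ?_
      rw [← map_one π, ← hcΦ, Finsupp.sum, map_sum]
      refine Submodule.sum_mem _ fun i _ => ?_
      rw [map_mul]
      show π (cΦ i) * φ i ∈ _
      rw [← hψ i, ← Nat.sub_add_cancel hp.out.one_le, pow_succ]
      exact Ideal.mul_mem_left _ _ (Ideal.mul_mem_left _ _ (Ideal.subset_span ⟨i, rfl⟩))
    obtain ⟨c, hc⟩ := Finsupp.mem_span_range_iff_exists_finsupp.1 (show (1 : S) ∈ Ideal.span (Set.range ψ) from h1 ▸ trivial)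
    exact ⟨c, hc⟩
  have hπs : Function.Surjective π := Ideal.Quotient.mk_surjective
  let m₀ : M := ∑ i ∈ c₀.support, Function.surjInv hπs (c₀ i) • i
  have hm₀ : π (Φ m₀) = 1 := by
    show π (Φh m₀) = 1
    rw [map_sum, map_sum]
    calc ∑ i ∈ c₀.support, π (Φh (Function.surjInv hπs (c₀ i) • i))
        = ∑ i ∈ c₀.support, (c₀ i * ψ i) ^ p := Finset.sum_congr rfl fun i _ => by
          show π (Φ _) = _
          rw [hΦsmul, map_mul, map_pow, Function.surjInv_eq hπs, mul_pow, hψ]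
      _ = (c₀.sum fun i a => a * ψ i) ^ p := (sum_pow_char p _ _).symm
      _ = 1 := by rw [hc₀, one_pow]
  have hu : IsUnit (Φ m₀) := by
    have h : Φ m₀ - 1 ∈ nilradical A := Ideal.Quotient.eq.1 (hm₀.trans (map_one π).symm)
    have := (mem_nilradical.1 h).isUnit_add_left_of_commute isUnit_one (Commute.all _ _)
    rwa [add_sub_cancel] at this
  have hmu : IsUnit (m₀ : B) := by
    have e : (m₀ : B) ^ p = algebraMap A B (Φ m₀) * (v : B) := by
      rw [hΦ, mul_assoc, Units.inv_mul, mul_one]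
    exact (isUnit_pow_iff hp.out.pos.ne').1 (e ▸ (hu.map _).mul v.isUnit)
  exact ⟨hmu.unit, (hM m₀).1 m₀.2⟩


end Groth.Agent.GaExt23
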