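import Groth.Prelude.Def_CGrpSh2
import Groth.Prelude.Def_Red2
import Mathlib.Algebra.Homology.DerivedCategory.Ext.ExactSequences

/-!
# `Ext¹` out of towers of additive groups
-/

set_option autoImplicit false
set_option linter.style.haveILetI false
universe u

open CategoryTheory CategoryTheory.Limits AlgebraicGeometry MonObj Abelian

noncomputable section

namespace Groth.Agent.GaExt23

variable {S : Scheme.{u}}

theorem subsingleton_ext_middle {C : ShortComplex (BigSite.Ab Scheme.fppfPrecoverage S)} (hC : C.ShortExact)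
    {M : BigSite.Ab Scheme.fppfPrecoverage S} (h₁ : Subsingleton (Ext C.X₁ M 1)) (h₃ : Subsingleton (Ext C.X₃ M 1)) :
    Subsingleton (Ext C.X₂ M 1) := by
  refine subsingleton_of_forall_eq 0 fun z => ?_
  obtain ⟨y, hy⟩ := Ext.contravariant_sequence_exact₂ hC M z (h₁.elim _ _)
  rw [← hy, h₃.elim y 0, Ext.comp_zero]

theorem subsingleton_ext_of_tower
    (hGa : Subsingleton (Ext (CGrpSh.pts Scheme.fppfPrecoverage (Red.Ga S)) (CGrpSh2.Gm Scheme.fppfPrecoverage S) 1))
    (n : ℕ) (U : Fin (n + 1) → Over S) [∀ j, GrpObj (U j)] [∀ j, IsCommMonObj (U j)]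
    (incl : ∀ j : Fin n, U j.castSucc ⟶ U j.succ) (proj : ∀ j : Fin n, U j.succ ⟶ Red.Ga S)
    [∀ j, IsMonHom (incl j)] [∀ j, IsMonHom (proj j)] (w : ∀ j, incl j ≫ proj j = 1)
    (hex : ∀ j, (CGrpSh.seq Scheme.fppfPrecoverage (incl j) (proj j) (w j)).ShortExact)
    (h0 : IsZero (CGrpSh.pts Scheme.fppfPrecoverage (U 0))) (j : Fin (n + 1)) :
    Subsingleton (Ext (CGrpSh.pts Scheme.fppfPrecoverage (U j)) (CGrpSh2.Gm Scheme.fppfPrecoverage S) 1) := by
  induction j using Fin.induction with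
  | zero =>
    refine subsingleton_of_forall_eq 0 fun z => ?_
    rw [← Ext.mk₀_id_comp z, h0.eq_of_src (𝟙 _) 0, Ext.mk₀_zero, Ext.zero_comp]
  | succ j ih => exact subsingleton_ext_middle (hex j) ih hGa

end Groth.Agent.GaExt23
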