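import Groth.Agent.Lib.GaExt23.AlphaPts
import Groth.Agent.Lib.GaExt23.AlphaSplit
import Groth.Agent.Lib.GaExt23.PNil
import Groth.Agent.Lib.GaExt23.Tower
import Groth.Agent.Lib.GaExt23.ExtShGa

/-!
# `Ext¹(α_{p^n}, Gm) = 0` over rings with surjective Frobenius
-/

set_option autoImplicit false
set_option linter.style.haveILetI false
set_option maxHeartbeats 1600000
set_option synthInstance.maxHeartbeats 100000
set_option backward.isDefEq.respectTransparency false
set_option backward.isDefEq.respectTransparency.types false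
universe u

open CategoryTheory CategoryTheory.Limits MonoidalCategory CartesianMonoidalCategory MonObj AlgebraicGeometry Opposite Abelian
open scoped TensorProduct

noncomputable section

namespace Groth.Agent.GaExt23.APts

open AdeqA (toSec toSec_comp toSec_ofSec toSec_injective)

variable {p : ℕ} [hp : Fact p.Prime] {R : Type u} [CommRing R] [CharP R p]

/-- The functions on an object as an algebra. -/
abbrev algΓ (T : Over (Spec (CommRingCat.of R))) : Algebra R Γ(T.left, ⊤) := (ψ (R := CommRingCat.of R) T).toAlgebra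

theorem uCo_one (hF : Function.Surjective (frobenius R p)) : UCo p (AlphaPn.A p 1 R) := by
  intro B _ _ _ θ h2 h1 v hv
  refine exists_unit_coboundary_nil p (fun z => ?_) θ h2 h1 v hv
  obtain ⟨q, hq⟩ := AlphaSplit.exists_eq_add_y_mul p z
  obtain ⟨r, hr⟩ := hF (AlphaSplit.c0 p z)
  refine ⟨algebraMap R _ r, ?_⟩
  rw [← map_pow, show r ^ p = AlphaSplit.c0 p z from hr]
  nth_rewrite 1 [hq]
  rw [add_sub_cancel_left]
  exact (Commute.all _ _).isNilpotent_mul_right ⟨p, AlphaSplit.y_pow_p p R⟩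

theorem fn_pow_one {T : Over (Spec (CommRingCat.of R))} (t : T ⟶ αG p R 1) : fn t ^ p = 0 := by
  simpa using fn_pow t

theorem exists_splitting_pts (hF : Function.Surjective (frobenius R p))
    (cc : αG p R 1 ⊗ αG p R 1 ⟶ Red.Gm (Spec (CommRingCat.of R)))
    (K0 : ∀ {T : Over (Spec (CommRingCat.of R))} (a : T ⟶ αG p R 1), lift a 1 ≫ cc = 1)
    (Ksymm : ∀ {T : Over (Spec (CommRingCat.of R))} (a b : T ⟶ αG p R 1), lift b a ≫ cc = lift a b ≫ cc)
    (Kcoc : ∀ {T : Over (Spec (CommRingCat.of R))} (a b d : T ⟶ αG p R 1),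
      (lift b d ≫ cc) * (lift a (b * d) ≫ cc) = (lift (a * b) d ≫ cc) * (lift a b ≫ cc)) :
    ∃ fPt : αG p R 1 ⟶ Red.Gm (Spec (CommRingCat.of R)),
      ∀ {T : Over (Spec (CommRingCat.of R))} (a b : T ⟶ αG p R 1),
        (a * b) ≫ fPt = (a ≫ fPt) * (b ≫ fPt) * (lift a b ≫ cc) := by
  let P : Type u := AlphaSplit.T2 p R
  have hP : ∀ {C : Type u} [CommRing C] [Algebra R C] (c : C), c ^ p = 0 →
      ((Scheme.ΓSpecIso (CommRingCat.of C)).inv c : Γ((TP (R := CommRingCat.of R) C).left, ⊤)) ^ p ^ 1 = 0 := by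
    intro C _ _ c hc
    refine (map_pow (Scheme.ΓSpecIso (CommRingCat.of C)).inv.hom c (p ^ 1)).symm.trans ?_
    rw [pow_one, hc, map_zero]
  let X0 : P := AlphaPn.x p 1 R ⊗ₜ 1
  let Y0 : P := 1 ⊗ₜ AlphaPn.x p 1 R
  have hX0 : X0 ^ p = 0 := by rw [Algebra.TensorProduct.tmul_pow, AlphaSplit.y_pow_p, TensorProduct.zero_tmul]
  have hY0 : Y0 ^ p = 0 := by rw [Algebra.TensorProduct.tmul_pow, AlphaSplit.y_pow_p, TensorProduct.tmul_zero]
  let h : P := (Scheme.ΓSpecIso (CommRingCat.of P)).hom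
    (GmPts.unitOfPt (lift (pt (T := TP (R := CommRingCat.of R) P) _ (hP X0 hX0)) (pt _ (hP Y0 hY0)) ≫ cc) :
      Γ((TP (R := CommRingCat.of R) P).left, ⊤))
  have hK : ∀ {T : Over (Spec (CommRingCat.of R))} (a b : T ⟶ αG p R 1),
      letI := algΓ T
      (GmPts.unitOfPt (lift a b ≫ cc) : Γ(T.left, ⊤)) =
        AlphaSplit.ev2 (R := R) p (fn a) (fn b) (fn_pow_one a) (fn_pow_one b) h := by
    intro T a b
    letI := algΓ T
    let φ := AlphaSplit.ev2 (R := R) p (fn a) (fn b) (fn_pow_one a) (fn_pow_one b)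
    have hφ : φ.toRingHom.comp (algebraMap R P) = ψ (R := CommRingCat.of R) T := φ.comp_algebraMap
    let g : T ⟶ TP (R := CommRingCat.of R) P := toTP φ.toRingHom hφ
    have e : lift a b = g ≫ lift (pt (T := TP (R := CommRingCat.of R) P) _ (hP X0 hX0)) (pt _ (hP Y0 hY0)) := by
      rw [comp_lift]
      refine congrArg₂ lift (fn_injective ?_) (fn_injective ?_)
      · rw [fn_comp, fn_pt, appTop_toTP]
        show _ = AlphaSplit.ev2 (R := R) p (fn a) (fn b) _ _ (AlphaPn.x p 1 R ⊗ₜ[R] 1)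
        rw [AlphaSplit.ev2_tmul, map_one, _root_.mul_one]
        exact (AlphaSplit.ev1_y p (fn a) (fn_pow_one a)).symm
      · rw [fn_comp, fn_pt, appTop_toTP]
        show _ = AlphaSplit.ev2 (R := R) p (fn a) (fn b) _ _ (1 ⊗ₜ[R] AlphaPn.x p 1 R)
        rw [AlphaSplit.ev2_tmul, map_one, _root_.one_mul]
        exact (AlphaSplit.ev1_y p (fn b) (fn_pow_one b)).symm
    rw [e, Category.assoc, GmPts.unitOfPt_comp]
    refine Eq.trans ?_ (appTop_toTP φ.toRingHom hφ h)
    exact congrArg g.left.appTop (ConcreteCategory.congr_hom (Scheme.ΓSpecIso (CommRingCat.of P)).hom_inv_id _).symm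
  let ιC : ∀ (C : Type u) [CommRing C] [Algebra R C],
      letI := algΓ (TP (R := CommRingCat.of R) C)
      C →ₐ[R] Γ((TP (R := CommRingCat.of R) C).left, ⊤) := fun C _ _ =>
    letI := algΓ (TP (R := CommRingCat.of R) C)
    { (Scheme.ΓSpecIso (CommRingCat.of C)).inv.hom with
      commutes' := fun r => (toSec_TP (R := CommRingCat.of R) C r).symm }
  have hKC : ∀ {C : Type u} [CommRing C] [Algebra R C] (q r : C) (hq : q ^ p = 0) (hr : r ^ p = 0),
      (GmPts.unitOfPt (lift (pt (T := TP (R := CommRingCat.of R) C) _ (hP q hq)) (pt _ (hP r hr)) ≫ cc) :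
        Γ((TP (R := CommRingCat.of R) C).left, ⊤)) =
        (Scheme.ΓSpecIso (CommRingCat.of C)).inv (AlphaSplit.ev2 (R := R) p q r hq hr h) := by
    intro C _ _ q r hq hr
    letI := algΓ (TP (R := CommRingCat.of R) C)
    rw [hK]
    exact (AlphaSplit.map_ev2 p (ιC C) q r hq hr _ _ _ _ (fn_pt _ (hP q hq)).symm (fn_pt _ (hP r hr)).symm h).symm
  have hinj : ∀ {C : Type u} [CommRing C] {x y : C}, (Scheme.ΓSpecIso (CommRingCat.of C)).inv x =
      (Scheme.ΓSpecIso (CommRingCat.of C)).inv y → x = y := fun e =>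
    (Scheme.ΓSpecIso (CommRingCat.of _)).symm.commRingCatIsoToRingEquiv.injective e
  have hadd' : ∀ {C : Type u} [CommRing C] [Algebra R C] (q r : C) (hq : q ^ p = 0) (hr : r ^ p = 0),
      pt (T := TP (R := CommRingCat.of R) C) _ (hP q hq) * pt _ (hP r hr) =
        pt _ (hP (q + r) (AlphaSplit.add_pow_p (R := R) p hq hr)) := by
    intro C _ _ q r hq hr
    refine fn_injective ?_
    rw [fn_mul, fn_pt, fn_pt, fn_pt]
    exact (map_add (Scheme.ΓSpecIso (CommRingCat.of C)).inv.hom q r).symm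
  obtain ⟨f, hfu, hf⟩ := AlphaSplit.exists_splitting p hF h
    (fun {C} _ _ q hq => hinj (by
      rw [← hKC, map_one]
      have e1 : pt (T := TP (R := CommRingCat.of R) C) _ (hP (0 : C) (zero_pow hp.out.ne_zero)) = 1 := fn_injective (by
        rw [fn_pt, fn_one]; exact map_zero _)
      rw [e1, K0, GmPts.unitOfPt_one, Units.val_one]))
    (fun {C} _ _ q r hq hr => hinj (by rw [← hKC, ← hKC, Ksymm]))
    (fun {C} _ _ q r d hq hr hd => hinj (by
      have e := Kcoc (pt (T := TP (R := CommRingCat.of R) C) _ (hP q hq)) (pt _ (hP r hr)) (pt _ (hP d hd))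
      rw [hadd' r d hr hd, hadd' q r hq hr] at e
      have e' := congrArg (fun k => (GmPts.unitOfPt k : Γ((TP (R := CommRingCat.of R) C).left, ⊤))) e
      rw [GmPts.unitOfPt_mul, GmPts.unitOfPt_mul, Units.val_mul, Units.val_mul, hKC r d hr hd,
        hKC q (r + d) hq (AlphaSplit.add_pow_p (R := R) p hr hd),
        hKC (q + r) d (AlphaSplit.add_pow_p (R := R) p hq hr) hd, hKC q r hq hr] at e'
      exact (map_mul (Scheme.ΓSpecIso (CommRingCat.of C)).inv.hom _ _).trans
        (e'.trans (map_mul (Scheme.ΓSpecIso (CommRingCat.of C)).inv.hom _ _).symm)))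
  let fPt : αG p R 1 ⟶ Red.Gm (Spec (CommRingCat.of R)) :=
    letI := algΓ (αG p R 1)
    GmPts.ptOfUnit (Units.map (AlphaSplit.ev1 (R := R) p (fn (𝟙 (αG p R 1))) (fn_pow_one _)).toMonoidHom hfu.unit)
  have hval : ∀ {T : Over (Spec (CommRingCat.of R))} (t : T ⟶ αG p R 1),
      letI := algΓ T
      (GmPts.unitOfPt (t ≫ fPt) : Γ(T.left, ⊤)) = AlphaSplit.ev1 (R := R) p (fn t) (fn_pow_one t) f := by
    intro T t
    letI := algΓ T
    letI := algΓ (αG p R 1)
    let τ : Γ((αG p R 1).left, ⊤) →ₐ[R] Γ(T.left, ⊤) :=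
      { t.left.appTop.hom with
        commutes' := fun r => (ConcreteCategory.congr_hom (AdeqA.toSec_hom_naturality (R := CommRingCat.of R) t) r).symm }
    rw [GmPts.unitOfPt_comp, GmPts.unitOfPt_ptOfUnit]
    refine DFunLike.congr_fun (AlphaSplit.ev1_unique p (R := R)
      (φ := τ.comp (AlphaSplit.ev1 (R := R) p (fn (𝟙 (αG p R 1))) (fn_pow_one _))) ?_) f
    rw [AlgHom.comp_apply, AlphaSplit.ev1_y]
    show t.left.appTop (fn (𝟙 (αG p R 1))) = fn t
    rw [← fn_comp, Category.comp_id]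
  refine ⟨fPt, fun {T} a b => ?_⟩
  letI := algΓ T
  rw [← GmPts.ptOfUnit_unitOfPt ((a * b) ≫ fPt), ← GmPts.ptOfUnit_unitOfPt ((a ≫ fPt) * (b ≫ fPt) * (lift a b ≫ cc))]
  refine congrArg GmPts.ptOfUnit (Units.ext ?_)
  rw [GmPts.unitOfPt_mul, GmPts.unitOfPt_mul, Units.val_mul, Units.val_mul, hval, hval, hval, hK]
  refine Eq.trans ?_ (hf (fn a) (fn b) (fn_pow_one a) (fn_pow_one b))
  congr 2
  exact fn_mul a b

/-- Vanishing of `Ext¹(G, Gm)` from a lift of the universal point and the splitting of cocycles. -/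
theorem subsingleton_ext_one_of_points {X : Scheme.{u}} (G : Over X) [GrpObj G] [IsCommMonObj G]
    (hlift : ∀ {I Q : BigSite.Ab Scheme.fppfPrecoverage X} {i : CGrpSh.pts Scheme.fppfPrecoverage (Red.Gm X) ⟶ I}
      {π : I ⟶ Q} {w : i ≫ π = 0}, (ShortComplex.mk i π w).ShortExact →
      ∀ g : CGrpSh.pts Scheme.fppfPrecoverage G ⟶ Q,
        ∃ e₀ : I.obj.obj (op G), π.hom.app (op G) e₀ = g.hom.app (op G) (ULift.up (Additive.ofMul (𝟙 G))))
    (hsplit : ∀ (cc : G ⊗ G ⟶ Red.Gm X), (∀ {T : Over X} (a : T ⟶ G), lift a 1 ≫ cc = 1) →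
      (∀ {T : Over X} (a b : T ⟶ G), lift b a ≫ cc = lift a b ≫ cc) →
      (∀ {T : Over X} (a b d : T ⟶ G),
        (lift b d ≫ cc) * (lift a (b * d) ≫ cc) = (lift (a * b) d ≫ cc) * (lift a b ≫ cc)) →
      ∃ fPt : G ⟶ Red.Gm X, ∀ {T : Over X} (a b : T ⟶ G),
        (a * b) ≫ fPt = (a ≫ fPt) * (b ≫ fPt) * (lift a b ≫ cc)) :
    Subsingleton (Ext (CGrpSh.pts Scheme.fppfPrecoverage G) (CGrpSh.pts Scheme.fppfPrecoverage (Red.Gm X)) 1) := by
  obtain ⟨I, Q, i, π, w, _, hS⟩ := SiteCoh.exists_inj_seq (CGrpSh.pts Scheme.fppfPrecoverage (Red.Gm X))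
  refine SiteCoh.ext_one_eq_zero _ hS (fun g => ?_) (SiteCoh.subsingleton_ext_injective _ _ 0)
  let pt₀ : ∀ {T : Over X}, (T ⟶ G) → (CGrpSh.pts Scheme.fppfPrecoverage G).obj.obj (op T) :=
    fun t => ULift.up (Additive.ofMul t)
  have hpt₀ : ∀ {T : Over X} (a b : T ⟶ G), pt₀ (a * b) = pt₀ a + pt₀ b := fun a b => rfl
  have hg : ∀ {T T' : Over X} (t : T ⟶ G) (u : T' ⟶ T),
      g.hom.app (op T') (pt₀ (u ≫ t)) = Q.obj.map u.op (g.hom.app (op T) (pt₀ t)) := fun t u =>
    NatTrans.naturality_apply g.hom u.op (pt₀ t)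
  obtain ⟨e₀, he₀⟩ := hlift hS g
  let e : I.obj.obj (op G) := e₀ - I.obj.map (1 : G ⟶ G).op e₀
  let s : ∀ {T : Over X}, (T ⟶ G) → I.obj.obj (op T) := fun t => I.obj.map t.op e
  have hps : ∀ {T : Over X} (t : T ⟶ G), π.hom.app (op T) (s t) = g.hom.app (op T) (pt₀ t) := fun {T} t => by
    have h1 : π.hom.app (op G) e = g.hom.app (op G) (pt₀ (𝟙 G)) := by
      show π.hom.app (op G) (e₀ - I.obj.map (1 : G ⟶ G).op e₀) = _
      refine (map_sub (π.hom.app (op G)).hom e₀ _).trans ?_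
      have h2 : π.hom.app (op G) (I.obj.map (1 : G ⟶ G).op e₀) = 0 := by
        refine (NatTrans.naturality_apply π.hom (1 : G ⟶ G).op e₀).trans ((congrArg _ he₀).trans ?_)
        rw [← hg, Category.comp_id]
        exact map_zero (g.hom.app (op G)).hom
      exact (congrArg₂ (fun x y => x - y) he₀ h2).trans (sub_zero _)
    refine (NatTrans.naturality_apply π.hom t.op e).trans ((congrArg _ h1).trans ?_)
    rw [← hg, Category.comp_id]
  have hs : ∀ {T T' : Over X} (h : T' ⟶ T) (t : T ⟶ G), s (h ≫ t) = I.obj.map h.op (s t) := fun h t => by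
    show I.obj.map (h ≫ t).op e = _
    rw [op_comp, Functor.map_comp]
    rfl
  have hs0 : ∀ T : Over X, s (1 : T ⟶ G) = 0 := fun T => by
    show I.obj.map (1 : T ⟶ G).op (e₀ - I.obj.map (1 : G ⟶ G).op e₀) = 0
    refine (map_sub (I.obj.map (1 : T ⟶ G).op).hom e₀ _).trans (sub_eq_zero.2 ?_)
    have hone : (1 : T ⟶ G) ≫ (1 : G ⟶ G) = 1 := MonObj.comp_one _
    refine Eq.trans (congrArg (fun t : T ⟶ G => I.obj.map t.op e₀) hone.symm) ?_
    show I.obj.map ((1 : G ⟶ G).op ≫ (1 : T ⟶ G).op) e₀ = _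
    rw [Functor.map_comp]
    rfl
  obtain ⟨c, hc⟩ := AdeqA.exists_app_f hS (op (G ⊗ G))
    (s (fst G G * snd G G) - s (fst G G) - s (snd G G)) (by
      rw [map_sub, map_sub]
      show π.hom.app _ _ - π.hom.app _ _ - π.hom.app _ _ = 0
      rw [hps, hps, hps, hpt₀, map_add]
      abel)
  change i.hom.app _ c = _ at hc
  let cc : G ⊗ G ⟶ Red.Gm X := c.down.toMul
  let ι' : ∀ {T : Over X}, (T ⟶ Red.Gm X) → I.obj.obj (op T) := fun k => i.hom.app _ (ULift.up (Additive.ofMul k))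
  have ιmul : ∀ {T : Over X} (k k' : T ⟶ Red.Gm X), ι' (k * k') = ι' k + ι' k' := fun k k' => by
    rw [← map_add]; rfl
  have ιinj : ∀ {T : Over X} (k k' : T ⟶ Red.Gm X), ι' k = ι' k' → k = k' := fun {T} k k' h =>
    congrArg (fun z => z.down.toMul) (AdeqA.injective_app_f hS (op T) h)
  let K : ∀ {T : Over X}, (T ⟶ G) → (T ⟶ G) → (T ⟶ Red.Gm X) := fun a b => lift a b ≫ cc
  have hadd : ∀ {T : Over X} (a b : T ⟶ G), ι' (K a b) = s (a * b) - s a - s b := fun a b => by
    refine (congrArg (i.hom.app _) (rfl : (ULift.up (Additive.ofMul (lift a b ≫ cc)) :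
      (CGrpSh.pts Scheme.fppfPrecoverage (Red.Gm X)).obj.obj (op _)) =
        (CGrpSh.pts Scheme.fppfPrecoverage (Red.Gm X)).obj.map (lift a b).op c)).trans ?_
    refine (NatTrans.naturality_apply i.hom (lift a b).op c).trans ((congrArg _ hc).trans ?_)
    rw [map_sub, map_sub, ← hs, ← hs, ← hs, MonObj.comp_mul, lift_fst, lift_snd]
  have ι1 : ∀ T : Over X, ι' (1 : T ⟶ Red.Gm X) = 0 := fun T => map_zero (i.hom.app (op T)).hom
  have K0 : ∀ {T : Over X} (a : T ⟶ G), K a 1 = 1 := fun a => ιinj _ _ (by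
    rw [hadd, hs0, ι1]
    show s (a * (1 : _ ⟶ G)) - s a - 0 = 0
    rw [show a * (1 : _ ⟶ G) = a from MulOneClass.mul_one a, sub_self, sub_zero])
  have Ksymm : ∀ {T : Over X} (a b : T ⟶ G), K b a = K a b := fun a b => ιinj _ _ (by
    rw [hadd, hadd, _root_.mul_comm b a]; abel)
  have Kcoc : ∀ {T : Over X} (a b d : T ⟶ G), K b d * K a (b * d) = K (a * b) d * K a b := fun a b d => ιinj _ _ (by
    rw [ιmul, ιmul, hadd, hadd, hadd, hadd, _root_.mul_assoc a b d]; abel)
  obtain ⟨fPt, hFK⟩ := hsplit cc K0 Ksymm Kcoc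
  let h : ∀ T : Over X, (CGrpSh.pts Scheme.fppfPrecoverage G).obj.obj (op T) →+ I.obj.obj (op T) := fun T =>
    AddMonoidHom.mk' (fun z => s z.down.toMul - ι' (z.down.toMul ≫ fPt)) fun a b => by
      show s (a.down.toMul * b.down.toMul) - ι' ((a.down.toMul * b.down.toMul) ≫ fPt) = _
      rw [hFK, ιmul, ιmul, hadd]
      abel
  refine ⟨⟨{ app := fun T => AddCommGrpCat.ofHom (h T.unop)
             naturality := fun T T' u => AddCommGrpCat.ext fun z => ?_ }⟩, Sheaf.hom_ext (NatTrans.ext (funext fun T =>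
    AddCommGrpCat.ext fun z => ?_))⟩
  · show s (u.unop ≫ z.down.toMul) - ι' ((u.unop ≫ z.down.toMul) ≫ fPt) =
      I.obj.map u (s z.down.toMul - ι' (z.down.toMul ≫ fPt))
    rw [map_sub, hs, Category.assoc]
    refine congrArg₂ (· - ·) rfl ?_
    exact NatTrans.naturality_apply i.hom u _
  · show π.hom.app T (s z.down.toMul - ι' (z.down.toMul ≫ fPt)) = g.hom.app T z
    rw [map_sub, hps]
    have hz : π.hom.app T (ι' (z.down.toMul ≫ fPt)) = 0 :=
      ConcreteCategory.congr_hom (congrArg (fun q : CGrpSh.pts Scheme.fppfPrecoverage (Red.Gm X) ⟶ Q => q.hom.app T) w) _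
    rw [hz, sub_zero]
    rfl


theorem exists_lift_universal (hF : Function.Surjective (frobenius R p))
    {I Q : BigSite.Ab Scheme.fppfPrecoverage (Spec (CommRingCat.of R))}
    {i : CGrpSh.pts Scheme.fppfPrecoverage (Red.Gm (Spec (CommRingCat.of R))) ⟶ I}
    {π : I ⟶ Q} {w : i ≫ π = 0} (hS : (ShortComplex.mk i π w).ShortExact)
    (g : CGrpSh.pts Scheme.fppfPrecoverage (αG p R 1) ⟶ Q) :
    ∃ e₀ : I.obj.obj (op (αG p R 1)),
      π.hom.app (op (αG p R 1)) e₀ = g.hom.app (op (αG p R 1)) (ULift.up (Additive.ofMul (𝟙 (αG p R 1)))) := by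
  let X : Scheme.{u} := Spec (CommRingCat.of R)
  let G : Over X := αG p R 1
  let pt₀ : ∀ {T : Over X}, (T ⟶ G) → (CGrpSh.pts Scheme.fppfPrecoverage G).obj.obj (op T) :=
    fun t => ULift.up (Additive.ofMul t)
  -- a lift over the group
  let P1 : CommRingCat.{u} := CommRingCat.of (AlphaPn.A p 1 R)
  let a₁ : Spec P1 ⟶ X := Spec.map (CommRingCat.ofHom (algebraMap R (AlphaPn.A p 1 R)))
  let V1 : Over X := AdeqA.sOb a₁ (Adeq.algOf P1 P1)
  have hid : Spec.map (CommRingCat.ofHom (algebraMap P1 P1)) = 𝟙 _ := by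
    rw [Algebra.algebraMap_self, CommRingCat.ofHom_id, Spec.map_id]
  let x1 : V1 ⟶ G := Over.homMk (Spec.map (CommRingCat.ofHom (algebraMap P1 P1))) rfl
  have hs1 : p • g.hom.app (op V1) (pt₀ x1) = 0 := by
    rw [← map_nsmul]
    have e : p • pt₀ x1 = (0 : (CGrpSh.pts Scheme.fppfPrecoverage G).obj.obj (op V1)) :=
      ULift.ext _ _ (congrArg Additive.ofMul (pow_p_eq_one x1))
    rw [e, map_zero]
  obtain ⟨t₁, ht₁⟩ := exists_lift_of_nsmul_eq_zero (S := X) (A := P1) a₁ p (uCo_one hF) hS _ hs1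
  let bk : G ⟶ V1 := Over.homMk (𝟙 _) (by
    show 𝟙 _ ≫ Spec.map (CommRingCat.ofHom (algebraMap P1 P1)) ≫ a₁ = _
    rw [hid]
    rfl)
  have hbk : bk ≫ x1 = 𝟙 G := Over.OverMorphism.ext (by
    show 𝟙 _ ≫ Spec.map (CommRingCat.ofHom (algebraMap P1 P1)) = 𝟙 _
    rw [hid]
    exact Category.id_comp _)
  refine ⟨I.obj.map bk.op t₁, ?_⟩
  refine (NatTrans.naturality_apply π.hom bk.op t₁).trans ((congrArg _ ht₁).trans ?_)
  refine (NatTrans.naturality_apply g.hom bk.op (pt₀ x1)).symm.trans ?_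
  exact congrArg (fun k => g.hom.app (op G) (pt₀ k)) hbk

theorem subsingleton_ext_one (hF : Function.Surjective (frobenius R p)) :
    Subsingleton (Ext (CGrpSh.pts Scheme.fppfPrecoverage (αG p R 1))
      (CGrpSh.pts Scheme.fppfPrecoverage (Red.Gm (Spec (CommRingCat.of R)))) 1) :=
  subsingleton_ext_one_of_points _ (fun hS g => exists_lift_universal hF hS g)
    (fun cc K0 Ksymm Kcoc => exists_splitting_pts hF cc K0 Ksymm Kcoc)

/-- The inclusion `α_p ⟶ α_{p^(n+1)}`. -/
def incl (n : ℕ) : αG p R 1 ⟶ αG p R (n + 1) :=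
  pt (fn (𝟙 (αG p R 1))) (by rw [pow_succ', pow_mul, fn_pow_one, zero_pow (pow_ne_zero _ hp.out.ne_zero)])

/-- The Frobenius `α_{p^(n+1)} ⟶ α_{p^n}`. -/
def frobHom (n : ℕ) : αG p R (n + 1) ⟶ αG p R n :=
  pt (fn (𝟙 (αG p R (n + 1))) ^ p) (by rw [← pow_mul, ← pow_succ', fn_pow])

theorem fn_comp_incl {n : ℕ} {T : Over (Spec (CommRingCat.of R))} (t : T ⟶ αG p R 1) :
    fn (t ≫ incl (p := p) (R := R) n) = fn t := by
  rw [fn_comp, incl, fn_pt, ← fn_comp, Category.comp_id]

theorem fn_comp_frobHom {n : ℕ} {T : Over (Spec (CommRingCat.of R))} (t : T ⟶ αG p R (n + 1)) :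
    fn (t ≫ frobHom (p := p) (R := R) n) = fn t ^ p := by
  rw [fn_comp, frobHom, fn_pt, map_pow, ← fn_comp, Category.comp_id]

theorem fn_eta (n : ℕ) : fn (η[αG p R n]) = 0 := by
  have h : (1 : 𝟙_ (Over (Spec (CommRingCat.of R))) ⟶ αG p R n) = η[αG p R n] := by
    simp [Hom.one_def]
  rw [← h, fn_one]

theorem fn_mu (n : ℕ) : fn (μ[αG p R n]) = fn (fst (αG p R n) (αG p R n)) + fn (snd (αG p R n) (αG p R n)) := by
  rw [← fn_mul, Hom.mul_def, lift_fst_snd, Category.id_comp]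

theorem isMonHom_of_fn {m n : ℕ} (f : αG p R m ⟶ αG p R n) (φ : ∀ (T : Over (Spec (CommRingCat.of R))), Γ(T.left, ⊤) →+ Γ(T.left, ⊤))
    (hφ : ∀ {T : Over (Spec (CommRingCat.of R))} (t : T ⟶ αG p R m), fn (t ≫ f) = φ T (fn t)) : IsMonHom f where
  one_hom := fn_injective (by rw [hφ, fn_eta, fn_eta, map_zero])
  mul_hom := fn_injective (by
    rw [hφ, fn_mu, map_add, ← hφ, ← hφ, ← fn_mul, Hom.mul_def]
    congr 2)

instance isMonHom_incl (n : ℕ) : IsMonHom (incl (p := p) (R := R) n) :=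
  isMonHom_of_fn _ (fun _ => AddMonoidHom.id _) fun t => fn_comp_incl t

instance isMonHom_frobHom (n : ℕ) : IsMonHom (frobHom (p := p) (R := R) n) :=
  isMonHom_of_fn _ (fun T => AddMonoidHom.mk' (fun z => z ^ p) fun a b => by
    obtain ⟨r, hr⟩ := (Commute.all a b).exists_add_pow_prime_eq hp.out
    show (a + b) ^ p = a ^ p + b ^ p
    rw [hr, natCast_eq_zero T]
    simp) fun t => fn_comp_frobHom t

theorem incl_frobHom (n : ℕ) : incl (p := p) (R := R) n ≫ frobHom (p := p) (R := R) n = 1 :=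
  fn_injective (by rw [fn_comp_frobHom, fn_one, incl, fn_pt, fn_pow_one])

theorem shortExact_seq (n : ℕ) :
    (CGrpSh.seq Scheme.fppfPrecoverage (incl (p := p) (R := R) n) (frobHom (p := p) (R := R) n) (incl_frobHom n)).ShortExact := by
  let X : Scheme.{u} := Spec (CommRingCat.of R)
  refine ShortComplex.ShortExact.mk' (DE.exact_of_sections _ fun U x hx => ?_)
    (DE.mono_of_sections _ _ fun U x y hxy => ?_) ?_
  · have hx' : fn (x.down.toMul ≫ frobHom (p := p) (R := R) n) = 0 := by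
      have e : x.down.toMul ≫ frobHom (p := p) (R := R) n = 1 := congrArg (fun z => z.down.toMul) hx
      rw [e, fn_one]
    rw [fn_comp_frobHom] at hx'
    have hx'' : fn x.down.toMul ^ p ^ 1 = 0 := by rw [pow_one]; exact hx'
    refine ⟨ULift.up (Additive.ofMul (pt (fn x.down.toMul) hx'')),
      ULift.ext _ _ (congrArg Additive.ofMul (fn_injective ?_))⟩
    show fn (pt (fn x.down.toMul) hx'' ≫ incl (p := p) (R := R) n) = fn x.down.toMul
    rw [fn_comp_incl, fn_pt]
  · refine ULift.ext _ _ (Additive.toMul.injective (fn_injective ?_))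
    have e := congrArg (fun z => fn z.down.toMul) hxy
    change fn (x.down.toMul ≫ incl (p := p) (R := R) n) = fn (y.down.toMul ≫ incl (p := p) (R := R) n) at e
    rwa [fn_comp_incl, fn_comp_incl] at e
  · rw [← Sheaf.isLocallySurjective_iff_epi']
    refine ⟨fun {U} y => epi_of_surjective_imageSieve _ y fun {P} g => ?_⟩
    let V : Over X := Over.mk (g ≫ U.hom)
    let yV : V ⟶ αG p R n := (Over.homMk g rfl : V ⟶ U) ≫ y.down.toMul
    let c : (P : Type u) := (Scheme.ΓSpecIso P).hom (fn yV)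
    let f : Polynomial (P : Type u) := Polynomial.X ^ p - Polynomial.C c
    have hm : f.Monic := Polynomial.monic_X_pow_sub_C _ hp.out.ne_zero
    by_cases htriv : Subsingleton P
    · haveI : IsEmpty V.left := inferInstanceAs (IsEmpty (PrimeSpectrum P))
      haveI := AdeqA.subsingleton_of_isEmpty (CGrpSh.pts Scheme.fppfPrecoverage (αG p R n)) V
      refine GrothendieckTopology.superset_covering _ (fun W k _ => ?_) ((QuotSh.J Scheme.fppfPrecoverage X).top_mem _)
      refine ⟨0, (map_zero _).trans (Eq.trans ?_ (congrArg _ (Subsingleton.elim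
        (0 : (CGrpSh.pts Scheme.fppfPrecoverage (αG p R n)).obj.obj (op V))
        ((CGrpSh.pts Scheme.fppfPrecoverage (αG p R n)).obj.map (Over.homMk g rfl : V ⟶ U).op y))))⟩
      exact (map_zero _).symm
    haveI : Nontrivial P := not_subsingleton_iff_nontrivial.1 htriv
    haveI := hm.free_adjoinRoot
    haveI := hm.finite_adjoinRoot
    haveI : Nontrivial (AdjoinRoot f) := by
      have hq' : 0 < f.natDegree := by rw [Polynomial.natDegree_X_pow_sub_C]; exact hp.out.pos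
      let b := AdjoinRoot.powerBasis' hm
      exact nontrivial_of_ne (b.basis ⟨0, by simpa [b] using hq'⟩) 0 (b.basis.ne_zero _)
    haveI : Algebra.FinitePresentation P (AdjoinRoot f) :=
      Algebra.FinitePresentation.quotient (R := P) (A := Polynomial P) (I := Ideal.span {f})
        (Submodule.fg_span_singleton f)
    refine GrothendieckTopology.superset_covering _ ?_ (ff_cover_mem (g ≫ U.hom) (AdjoinRoot f))
    rw [Sieve.generate_le_iff]
    rintro _ _ ⟨⟨⟩⟩
    let W : Over X := Over.mk (Spec.map (CommRingCat.ofHom (algebraMap P (AdjoinRoot f))) ≫ g ≫ U.hom)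
    let wV : W ⟶ V := Over.homMk (Spec.map (CommRingCat.ofHom (algebraMap P (AdjoinRoot f)))) rfl
    let t : Γ(W.left, ⊤) := (Scheme.ΓSpecIso (CommRingCat.of (AdjoinRoot f))).inv (AdjoinRoot.root f)
    have ht : t ^ p = fn (wV ≫ yV) := by
      rw [fn_comp]
      have h1 : AdjoinRoot.root f ^ p = algebraMap P (AdjoinRoot f) c := by
        have h := AdjoinRoot.eval₂_root f
        simp only [f, Polynomial.eval₂_sub, Polynomial.eval₂_X_pow, Polynomial.eval₂_C, sub_eq_zero] at h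
        exact h
      show (Scheme.ΓSpecIso (CommRingCat.of (AdjoinRoot f))).inv.hom (AdjoinRoot.root f) ^ p = _
      rw [← map_pow, h1]
      refine (ConcreteCategory.congr_hom
        (Scheme.ΓSpecIso_inv_naturality (CommRingCat.ofHom (algebraMap P (AdjoinRoot f)))) c).trans ?_
      exact congrArg wV.left.appTop (ConcreteCategory.congr_hom (Scheme.ΓSpecIso P).hom_inv_id (fn yV))
    have ht' : t ^ p ^ (n + 1) = 0 := by rw [pow_succ', pow_mul, ht]; exact fn_pow _
    refine ⟨ULift.up (Additive.ofMul (pt t ht')),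
      ULift.ext _ _ (congrArg Additive.ofMul (fn_injective ?_))⟩
    show fn (pt t ht' ≫ frobHom (p := p) (R := R) n) = fn (wV ≫ yV)
    rw [fn_comp_frobHom, fn_pt, ht]

theorem isZero_pts_zero : IsZero (CGrpSh.pts Scheme.fppfPrecoverage (αG p R 0)) := by
  refine (IsZero.iff_id_eq_zero _).2 (Sheaf.hom_ext (NatTrans.ext (funext fun T => AddCommGrpCat.ext fun x => ?_)))
  refine ULift.ext _ _ (Additive.toMul.injective (fn_injective ?_))
  show fn x.down.toMul = fn (1 : T.unop ⟶ αG p R 0)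
  rw [fn_one]
  simpa using fn_pow x.down.toMul

theorem subsingleton_ext (hF : Function.Surjective (frobenius R p)) (n : ℕ) :
    Subsingleton (Ext (CGrpSh.pts Scheme.fppfPrecoverage (αG p R n))
      (CGrpSh.pts Scheme.fppfPrecoverage (Red.Gm (Spec (CommRingCat.of R)))) 1) := by
  induction n with
  | zero =>
    refine subsingleton_of_forall_eq 0 fun z => ?_
    rw [← Ext.mk₀_id_comp z, isZero_pts_zero.eq_of_src (𝟙 _) 0, Ext.mk₀_zero, Ext.zero_comp]
  | succ n ih => exact subsingleton_ext_middle (shortExact_seq n) (subsingleton_ext_one hF) ih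

end Groth.Agent.GaExt23.APts
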