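import Groth.Agent.Lib.GaExt23.Frob
import Groth.Prelude.Def_AlphaPn

/-!
# Points of the group schemes `α_{p^n}`
-/

set_option autoImplicit false
set_option linter.style.haveILetI false
set_option maxHeartbeats 800000
set_option backward.isDefEq.respectTransparency false
set_option backward.isDefEq.respectTransparency.types false
universe u

open CategoryTheory CategoryTheory.Limits MonoidalCategory CartesianMonoidalCategory MonObj AlgebraicGeometry Opposite

noncomputable section

namespace Groth.Agent.GaExt23.APts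

open AdeqA (toSec toSec_comp toSec_ofSec toSec_injective)

variable (p : ℕ) [hp : Fact p.Prime] (R : Type u) [CommRing R] [CharP R p]

/-- The group scheme `α_{p^n}`. -/
abbrev αG (n : ℕ) : Over (Spec (CommRingCat.of R)) :=
  (Spec (CommRingCat.of (AlphaPn.A p n R))).asOver (Spec (CommRingCat.of R))

variable {p R} {n : ℕ} {T T' : Over (Spec (CommRingCat.of R))}

/-- The coordinate of a point. -/
def fn (t : T ⟶ αG p R n) : Γ(T.left, ⊤) :=
  t.left.appTop ((Scheme.ΓSpecIso (CommRingCat.of (AlphaPn.A p n R))).inv (AlphaPn.x p n R))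

theorem fn_comp (g : T' ⟶ T) (t : T ⟶ αG p R n) : fn (g ≫ t) = g.left.appTop (fn t) := by
  show (g.left ≫ t.left).appTop _ = _
  rw [GmPts.appTop_comp_apply]
  rfl

theorem fn_pow (t : T ⟶ αG p R n) : fn t ^ p ^ n = 0 := by
  show (toSec (X := CommRingCat.of (AlphaPn.A p n R)) t.left).hom (AlphaPn.x p n R) ^ p ^ n = 0
  rw [← map_pow, AlphaPn.x_pow, map_zero]

/-- A point from a coordinate. -/
def pt (v : Γ(T.left, ⊤)) (hv : v ^ p ^ n = 0) : T ⟶ αG p R n :=
  Over.homMk (T.left.toSpecΓ ≫ Spec.map (CommRingCat.ofHom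
    (AdjoinRoot.lift (ψ (R := CommRingCat.of R) T) v (by rw [Polynomial.eval₂_X_pow]; exact hv) :
      AlphaPn.A p n R →+* Γ(T.left, ⊤)))) (toSec_injective (X := CommRingCat.of R) (by
    show toSec ((_ ≫ _) ≫ Spec.map (CommRingCat.ofHom (algebraMap R (AlphaPn.A p n R)))) = _
    rw [toSec_comp, toSec_ofSec]
    exact CommRingCat.hom_ext (RingHom.ext fun r => AdjoinRoot.lift_of (f := (Polynomial.X : Polynomial R) ^ p ^ n)
      (i := ψ (R := CommRingCat.of R) T) (by rw [Polynomial.eval₂_X_pow]; exact hv))))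

theorem appTop_pt (v : Γ(T.left, ⊤)) (hv : v ^ p ^ n = 0) (q : AlphaPn.A p n R) :
    (pt v hv).left.appTop ((Scheme.ΓSpecIso (CommRingCat.of (AlphaPn.A p n R))).inv q) =
      (AdjoinRoot.lift (ψ (R := CommRingCat.of R) T) v (by rw [Polynomial.eval₂_X_pow]; exact hv) :
        AlphaPn.A p n R →+* Γ(T.left, ⊤)) q :=
  ConcreteCategory.congr_hom (toSec_ofSec (T := T.left) (CommRingCat.ofHom
    (AdjoinRoot.lift (ψ (R := CommRingCat.of R) T) v (by rw [Polynomial.eval₂_X_pow]; exact hv) :
      AlphaPn.A p n R →+* Γ(T.left, ⊤)))) q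

theorem fn_pt (v : Γ(T.left, ⊤)) (hv : v ^ p ^ n = 0) : fn (pt v hv) = v :=
  (appTop_pt v hv _).trans (AdjoinRoot.lift_root _)

theorem toSec_algebraMap (t : T ⟶ αG p R n) (r : R) :
    toSec t.left (algebraMap R (AlphaPn.A p n R) r) = ψ (R := CommRingCat.of R) T r := by
  show _ = toSec T.hom r
  rw [← Over.w t]
  show _ = toSec (t.left ≫ Spec.map (CommRingCat.ofHom (algebraMap R (AlphaPn.A p n R)))) r
  rw [toSec_comp]
  rfl

theorem fn_injective : Function.Injective (fn : (T ⟶ αG p R n) → Γ(T.left, ⊤)) := fun s t h => by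
  refine Over.OverMorphism.ext (toSec_injective (X := CommRingCat.of (AlphaPn.A p n R))
    (CommRingCat.hom_ext (RingHom.ext fun q => ?_)))
  obtain ⟨f, rfl⟩ := AlphaPn.mk_surjective p n R q
  refine DFunLike.congr_fun (Polynomial.ringHom_ext
    (f := (toSec (X := CommRingCat.of (AlphaPn.A p n R)) s.left).hom.comp (AlphaPn.mk p n R).toRingHom)
    (g := (toSec (X := CommRingCat.of (AlphaPn.A p n R)) t.left).hom.comp (AlphaPn.mk p n R).toRingHom)
    (fun r => ?_) h) f
  show toSec s.left (AlphaPn.mk p n R (Polynomial.C r)) = toSec t.left (AlphaPn.mk p n R (Polynomial.C r))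
  rw [← Polynomial.algebraMap_eq, AlgHom.commutes, toSec_algebraMap, toSec_algebraMap]

theorem fn_mul (s t : T ⟶ αG p R n) : fn (s * t) = fn s + fn t := by
  have h := GaPts.mul_appTop_of_primitive (k := R) (AlphaPn.A p n R) (AlphaPn.x p n R) (AlphaPn.comul_x p n R)
  show ((lift s t).left ≫ μ[αG p R n].left).appTop _ = _
  rw [GmPts.appTop_comp_apply]
  refine (congrArg (lift s t).left.appTop h).trans ?_
  refine (map_add _ _ _).trans (congrArg₂ (· + ·) ?_ ?_)
  · refine (GmPts.appTop_comp_apply _ _ _).symm.trans ?_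
    show ((lift s t).left ≫ (fst (αG p R n) (αG p R n)).left).appTop _ = _
    rw [← Over.comp_left, lift_fst]
    rfl
  · refine (GmPts.appTop_comp_apply _ _ _).symm.trans ?_
    show ((lift s t).left ≫ (snd (αG p R n) (αG p R n)).left).appTop _ = _
    rw [← Over.comp_left, lift_snd]
    rfl

/-- The coordinate as a homomorphism. -/
def fnHom : (T ⟶ αG p R n) →* Multiplicative Γ(T.left, ⊤) :=
  MonoidHom.mk' (fun t => Multiplicative.ofAdd (fn t)) fun s t => by rw [fn_mul]; rfl

theorem fn_one : fn (1 : T ⟶ αG p R n) = 0 :=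
  congrArg Multiplicative.toAdd (map_one (fnHom (p := p) (R := R) (n := n) (T := T)))

theorem natCast_eq_zero (T : Over (Spec (CommRingCat.of R))) : ((p : ℕ) : Γ(T.left, ⊤)) = 0 := by
  rw [← map_natCast (ψ (R := CommRingCat.of R) T), show ((p : ℕ) : CommRingCat.of R) = 0 from CharP.cast_eq_zero R p,
    map_zero]

theorem pow_p_eq_one (t : T ⟶ αG p R n) : t ^ p = 1 := by
  refine fn_injective ?_
  rw [fn_one]
  refine (congrArg Multiplicative.toAdd (map_pow (fnHom (p := p) (R := R) (n := n) (T := T)) t p)).trans ?_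
  show p • fn t = 0
  rw [nsmul_eq_mul, natCast_eq_zero, zero_mul]

end Groth.Agent.GaExt23.APts
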