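import Groth.Agent.Lib.GaPts.Basic
import Groth.Agent.Lib.AlgSpDescent.RedNoeth
import Mathlib.RingTheory.Polynomial.Nilpotent
import Mathlib.RingTheory.Smooth.StandardSmooth
import Mathlib.LinearAlgebra.SymmetricAlgebra.Basis

/-!
# Invertible functions on the plane over a reduced scheme are constant
-/

set_option autoImplicit false
set_option linter.style.haveILetI false
set_option maxHeartbeats 800000
set_option backward.isDefEq.respectTransparency false
set_option backward.isDefEq.respectTransparency.types false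
universe u

open CategoryTheory CategoryTheory.Limits MonoidalCategory CartesianMonoidalCategory MonObj AlgebraicGeometry Opposite

noncomputable section

namespace Groth.Agent.GaExt23

variable {X : Scheme.{u}}

theorem eval_eq_of_isUnit {R : Type u} [CommRing R] [_root_.IsReduced R] {q : Polynomial R} (h : IsUnit q) (a b : R) :
    q.eval a = q.eval b := by
  have hq : q = Polynomial.C (q.coeff 0) := by
    ext n
    rcases n with _ | n
    · simp
    · rw [Polynomial.coeff_C_succ]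
      exact ((Polynomial.isUnit_iff_coeff_isUnit_isNilpotent.1 h).2 (n + 1) n.succ_ne_zero).eq_zero
  rw [hq, Polynomial.eval_C, Polynomial.eval_C]

theorem appTop_isoSpec_spec {Y : Scheme.{u}} [IsAffine Y] {A : CommRingCat.{u}} (φ : A ⟶ Γ(Y, ⊤)) (z : A) :
    (Y.isoSpec.hom ≫ Spec.map φ).appTop ((Scheme.ΓSpecIso A).inv z) = φ z := by
  have h : (Scheme.ΓSpecIso A).inv ≫ (Y.isoSpec.hom ≫ Spec.map φ).appTop = φ := by
    rw [Scheme.Hom.comp_appTop, ← Category.assoc, ← Scheme.ΓSpecIso_inv_naturality, Category.assoc,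
      Scheme.isoSpec_hom, Scheme.toSpecΓ_appTop, Iso.inv_hom_id, Category.comp_id]
  exact ConcreteCategory.congr_hom h z

/-- A natural unit in two variables is constant on reduced affine schemes. -/
theorem pt_const {T : Over X} [IsAffine T.left] [IsReduced T.left] (c : Red.Ga X ⊗ Red.Ga X ⟶ Red.Gm X)
    (a b : T ⟶ Red.Ga X) : lift a b ≫ c = lift 1 1 ≫ c := by
  let R : CommRingCat.{u} := Γ(T.left, ⊤)
  let P : CommRingCat.{u} := CommRingCat.of (Polynomial R)
  let T' : Over X := Over.mk (Spec.map (CommRingCat.ofHom (Polynomial.C : R →+* Polynomial R)) ≫ T.left.isoSpec.inv ≫ T.hom)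
  let ev : R → (T ⟶ T') := fun v => Over.homMk (T.left.isoSpec.hom ≫ Spec.map (CommRingCat.ofHom (Polynomial.evalRingHom v) : P ⟶ R)) (by
    show (_ ≫ _) ≫ Spec.map _ ≫ _ ≫ _ = _
    rw [Category.assoc, ← Spec.map_comp_assoc,
      show (CommRingCat.ofHom (Polynomial.C : R →+* Polynomial R) : R ⟶ P) ≫ CommRingCat.ofHom (Polynomial.evalRingHom v) = 𝟙 R from
        CommRingCat.hom_ext (RingHom.ext fun r => Polynomial.eval_C),
      ]
    erw [Spec.map_id, Category.id_comp, Iso.hom_inv_id_assoc])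
  let A : T' ⟶ Red.Ga X := GaPts.ptOfFn ((Scheme.ΓSpecIso P).inv (Polynomial.X * Polynomial.C (Red.gaFn a) : Polynomial R))
  let B : T' ⟶ Red.Ga X := GaPts.ptOfFn ((Scheme.ΓSpecIso P).inv (Polynomial.X * Polynomial.C (Red.gaFn b) : Polynomial R))
  have hev : ∀ (v : R) (t : T ⟶ Red.Ga X),
      Red.gaFn (ev v ≫ (GaPts.ptOfFn ((Scheme.ΓSpecIso P).inv (Polynomial.X * Polynomial.C (Red.gaFn t) : Polynomial R)) : T' ⟶ Red.Ga X)) =
        v * Red.gaFn t := fun v t => by
    rw [GaPts.gaFn_comp, GaPts.gaFn_ptOfFn]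
    refine (appTop_isoSpec_spec (CommRingCat.ofHom (Polynomial.evalRingHom v) : P ⟶ R)
      (Polynomial.X * Polynomial.C (Red.gaFn t) : Polynomial R)).trans ?_
    show Polynomial.eval v (Polynomial.X * Polynomial.C _) = _
    rw [Polynomial.eval_mul, Polynomial.eval_X, Polynomial.eval_C]
  have h1 : ∀ t : T ⟶ Red.Ga X,
      ev 1 ≫ (GaPts.ptOfFn ((Scheme.ΓSpecIso P).inv (Polynomial.X * Polynomial.C (Red.gaFn t) : Polynomial R)) : T' ⟶ Red.Ga X) = t :=
    fun t => GaPts.gaFn_injective ((hev 1 t).trans (_root_.one_mul _))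
  have h0 : ∀ t : T ⟶ Red.Ga X,
      ev 0 ≫ (GaPts.ptOfFn ((Scheme.ΓSpecIso P).inv (Polynomial.X * Polynomial.C (Red.gaFn t) : Polynomial R)) : T' ⟶ Red.Ga X) = 1 :=
    fun t => GaPts.gaFn_injective ((hev 0 t).trans ((zero_mul _).trans GaPts.gaFn_one.symm))
  let w : (Γ(Spec P, ⊤))ˣ := GmPts.unitOfPt (lift A B ≫ c)
  let q : Polynomial R := (Scheme.ΓSpecIso P).hom (w : Γ(Spec P, ⊤))
  have hq : IsUnit q := w.isUnit.map (Scheme.ΓSpecIso P).hom.hom
  have hw : ∀ v : R, (GmPts.unitOfPt (ev v ≫ (lift A B ≫ c)) : Γ(T.left, ⊤)) = Polynomial.eval v q := fun v => by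
    rw [GmPts.unitOfPt_comp]
    have hqw : (Scheme.ΓSpecIso P).inv q = (w : Γ(Spec P, ⊤)) :=
      ConcreteCategory.congr_hom (Scheme.ΓSpecIso P).hom_inv_id (w : Γ(Spec P, ⊤))
    show (ev v).left.appTop (w : Γ(Spec P, ⊤)) = _
    rw [← hqw]
    exact appTop_isoSpec_spec (CommRingCat.ofHom (Polynomial.evalRingHom v) : P ⟶ R) q
  have key : ev 1 ≫ (lift A B ≫ c) = ev 0 ≫ (lift A B ≫ c) := by
    rw [← GmPts.ptOfUnit_unitOfPt (ev 1 ≫ _), ← GmPts.ptOfUnit_unitOfPt (ev 0 ≫ _)]
    refine congrArg GmPts.ptOfUnit (Units.ext ?_)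
    rw [hw, hw]
    exact eval_eq_of_isUnit hq _ _
  rw [← Category.assoc, ← Category.assoc, comp_lift, comp_lift, h1, h1, h0, h0] at key
  exact key

instance smooth_GaZ : Smooth GaPts.GaZ.{u}.hom := by
  show Smooth (Spec.map (CommRingCat.ofHom (algebraMap (ULift.{u} ℤ) (SymmetricAlgebra (ULift.{u} ℤ) (ULift.{u} ℤ)))))
  rw [HasRingHomProperty.Spec_iff (P := @Smooth)]
  show RingHom.Smooth (algebraMap (ULift.{u} ℤ) (SymmetricAlgebra (ULift.{u} ℤ) (ULift.{u} ℤ)))
  rw [RingHom.smooth_algebraMap]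
  haveI : Algebra.Smooth (ULift.{u} ℤ) (MvPolynomial (Fin 1) (ULift.{u} ℤ)) :=
    { formallySmooth := inferInstance, finitePresentation := inferInstance }
  exact Algebra.Smooth.of_equiv (SymmetricAlgebra.equivMvPolynomial (Module.Basis.singleton (Fin 1) (ULift.{u} ℤ))).symm

instance smooth_Ga (S : Scheme.{u}) : Smooth (Red.Ga S).hom :=
  MorphismProperty.pullback_snd (P := @Smooth) GaPts.GaZ.hom (GmPts.toBaseZ S) smooth_GaZ

theorem isReduced_GaGa [IsReduced X] : IsReduced (Red.Ga X ⊗ Red.Ga X).left := by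
  haveI : IsReduced (Red.Ga X).left := AlgSpDescent.isReduced_of_smooth (Red.Ga X).hom
  haveI : Smooth (pullback.fst (Red.Ga X).hom (Red.Ga X).hom) :=
    MorphismProperty.pullback_fst (P := @Smooth) _ _ (smooth_Ga X)
  exact AlgSpDescent.isReduced_of_smooth (pullback.fst (Red.Ga X).hom (Red.Ga X).hom)

/-- Invertible functions on the plane over a reduced scheme are constant. -/
theorem eq_const [IsReduced X] (c : Red.Ga X ⊗ Red.Ga X ⟶ Red.Gm X) :
    c = lift (1 : Red.Ga X ⊗ Red.Ga X ⟶ Red.Ga X) 1 ≫ c := by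
  let W : Over X := Red.Ga X ⊗ Red.Ga X
  haveI : IsReduced W.left := isReduced_GaGa
  apply Over.OverMorphism.ext
  refine Scheme.Cover.hom_ext W.left.affineCover _ _ fun i => ?_
  let T : Over X := Over.mk (W.left.affineCover.f i ≫ W.hom)
  haveI : IsAffine T.left := inferInstanceAs (IsAffine (W.left.affineCover.X i))
  haveI : IsReduced T.left := isReduced_of_isOpenImmersion (W.left.affineCover.f i)
  let t : T ⟶ W := Over.homMk (W.left.affineCover.f i) rfl
  have e := pt_const c (t ≫ fst _ _) (t ≫ snd _ _)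
  rw [← comp_lift, lift_fst_snd, Category.comp_id] at e
  have e' : t ≫ (lift (1 : W ⟶ Red.Ga X) 1 ≫ c) = lift 1 1 ≫ c := by
    rw [← Category.assoc, comp_lift, MonObj.comp_one]
  exact congrArg CommaMorphism.left (e.trans e'.symm)

end Groth.Agent.GaExt23
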