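import Groth.Agent.Lib.GaExt23.Main

/-!
# First cohomology of dual sheaves: `Ĝ` inside the sheaf of invertible functions on `G`
-/

set_option autoImplicit false
set_option linter.style.haveILetI false
set_option maxHeartbeats 1600000
set_option backward.isDefEq.respectTransparency false
set_option backward.isDefEq.respectTransparency.types false
universe u

open CategoryTheory CategoryTheory.Limits MonoidalCategory CartesianMonoidalCategory MonObj AlgebraicGeometry Opposite Abelian

noncomputable section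

namespace Groth.Agent.GaExt23

variable {X : Scheme.{u}}

/-- If the global sections of an epimorphism are surjective and the middle term has no `H¹`, then neither has the kernel. -/
theorem subsingleton_H1_kernel {C : Type*} [Category C] {J : GrothendieckTopology C}
    [HasSheafify J AddCommGrpCat.{u + 1}] [HasExt.{u + 1} (Sheaf J AddCommGrpCat.{u + 1})]
    {E : ShortComplex (Sheaf J AddCommGrpCat.{u + 1})} (hE : E.ShortExact) {T : C} (hT : IsTerminal T)
    (h2 : Subsingleton (Sheaf.H E.X₂ 1)) (hs : Function.Surjective (E.g.hom.app (op T))) :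
    Subsingleton (Sheaf.H E.X₁ 1) := by
  refine subsingleton_of_forall_eq 0 fun z => ?_
  obtain ⟨y, rfl⟩ := Ext.covariant_sequence_exact₁ _ hE z (h2.elim _ _) (n₀ := 0) rfl
  obtain ⟨t, ht⟩ := hs (Sheaf.H.equiv₀ _ hT y)
  have hy : y = Ext.comp ((Sheaf.H.equiv₀ _ hT).symm t) (Ext.mk₀ E.g) (add_zero 0) := by
    apply (Sheaf.H.equiv₀ E.X₃ hT).injective
    rw [← Sheaf.H.map_apply, ← Sheaf.H.equiv₀_naturality, AddEquiv.apply_symm_apply, ht]
  rw [hy, Ext.comp_assoc_of_second_deg_zero, hE.comp_extClass, Ext.comp_zero]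

section Abstract

variable {C : Type (u + 1)} [Category.{u} C] {J : GrothendieckTopology C} {F M : Sheaf J AddCommGrpCat.{u + 1}}

theorem homSh_map_app {U U' : C} (f : U' ⟶ U) (φ : (HomSh.homSh J F M).obj.obj (op U)) {T : C} (r : T ⟶ U')
    (x : F.obj.obj (op T)) :
    ((HomSh.homSh J F M).obj.map f.op φ).hom.app (op (Over.mk r)) x = φ.hom.app (op (Over.mk (r ≫ f))) x := rfl

theorem app_natural {U : C} (φ : (HomSh.homSh J F M).obj.obj (op U)) {T T' : C} (r : T ⟶ U) (r' : T' ⟶ U) (s : T' ⟶ T)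
    (h : s ≫ r = r') (x : F.obj.obj (op T)) :
    φ.hom.app (op (Over.mk r')) (F.obj.map s.op x) = M.obj.map s.op (φ.hom.app (op (Over.mk r)) x) :=
  NatTrans.naturality_apply φ.hom (Over.homMk s h : Over.mk r' ⟶ Over.mk r).op x

end Abstract

variable (G : Over X)

/-- The object of pairs of a point of the variable scheme and a point of `G`. -/
abbrev W (U : Over X) : Over X := (Over.map G.hom).obj ((Over.pullback G.hom).obj U)

/-- The first projection. -/
def π {U : Over X} : W G U ⟶ U := Over.homMk (pullback.fst U.hom G.hom) pullback.condition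

/-- The second projection. -/
def τ {U : Over X} : W G U ⟶ G := Over.homMk (pullback.snd U.hom G.hom) rfl

variable {G}

/-- A pair of points. -/
def wl {T U : Over X} (r : T ⟶ U) (a : T ⟶ G) : T ⟶ W G U :=
  Over.homMk (pullback.lift r.left a.left ((Over.w r).trans (Over.w a).symm))
    (by
      show pullback.lift _ _ _ ≫ pullback.snd U.hom G.hom ≫ G.hom = T.hom
      rw [pullback.lift_snd_assoc]
      exact Over.w a)

@[simp] theorem wl_π {T U : Over X} (r : T ⟶ U) (a : T ⟶ G) : wl r a ≫ π G = r :=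
  Over.OverMorphism.ext (pullback.lift_fst _ _ _)

@[simp] theorem wl_τ {T U : Over X} (r : T ⟶ U) (a : T ⟶ G) : wl r a ≫ τ G = a :=
  Over.OverMorphism.ext (pullback.lift_snd _ _ _)

theorem wl_ext {T U : Over X} {x y : T ⟶ W G U} (h1 : x ≫ π G = y ≫ π G) (h2 : x ≫ τ G = y ≫ τ G) : x = y :=
  Over.OverMorphism.ext (pullback.hom_ext (congrArg CommaMorphism.left h1) (congrArg CommaMorphism.left h2))

theorem comp_wl {T' T U : Over X} (s : T' ⟶ T) (r : T ⟶ U) (a : T ⟶ G) : s ≫ wl r a = wl (s ≫ r) (s ≫ a) :=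
  wl_ext (by simp) (by simp)

theorem wl_eta {U : Over X} : wl (π G) (τ G) = 𝟙 (W G U) := wl_ext (by simp) (by simp)

/-- Functoriality in the variable scheme. -/
abbrev Wf {U U' : Over X} (f : U' ⟶ U) : W G U' ⟶ W G U := (Over.map G.hom).map ((Over.pullback G.hom).map f)

theorem Wf_eq {U U' : Over X} (f : U' ⟶ U) : (Wf f : W G U' ⟶ W G U) = wl (π G ≫ f) (τ G) :=
  wl_ext (Over.OverMorphism.ext (by simp [Wf, π, wl, τ]))
    (Over.OverMorphism.ext (by simp [Wf, π, wl, τ]))

variable (G)

/-- The sheaf of invertible functions on `G`. -/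
abbrev Fun : BigSite.Ab Scheme.fppfPrecoverage X :=
  (BigSite.pushBig Scheme.fppfPrecoverage G.hom AddCommGrpCat.{u + 1}).obj
    ((BigSite.pullBig Scheme.fppfPrecoverage G.hom AddCommGrpCat.{u + 1}).obj (CGrpSh2.Gm Scheme.fppfPrecoverage X))

/-- A section of `Fun G` as a point. -/
abbrev toPt {U : Over X} (f : (Fun G).obj.obj (op U)) : W G U ⟶ Red.Gm X := f.down.toMul

/-- Invertible functions on `G` have no first cohomology when `G` has trivial Picard group. -/
theorem subsingleton_H_Fun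
    (hPic : ∀ L : G.left.Modules, PicF.IsInvertible L → Nonempty (L ≅ Coh.structureModule G.left)) :
    Subsingleton (BigSite.H Scheme.fppfPrecoverage X (Fun G) 1) := by
  let A := (BigSite.pullBig Scheme.fppfPrecoverage G.hom AddCommGrpCat.{u + 1}).obj (CGrpSh2.Gm Scheme.fppfPrecoverage X)
  let P := BigSite.pushBig Scheme.fppfPrecoverage G.hom AddCommGrpCat.{u + 1}
  obtain ⟨I, Q, i, p, w, hI, hS⟩ := SiteCoh.exists_inj_seq A
  haveI := hI
  haveI : PreservesFiniteLimits P :=
    haveI := (BigSite.bigAdj Scheme.fppfPrecoverage G.hom AddCommGrpCat.{u + 1}).isRightAdjoint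
    inferInstance
  haveI : Injective (P.obj I) :=
    Injective.injective_of_adjoint (BigSite.bigAdj Scheme.fppfPrecoverage G.hom AddCommGrpCat.{u + 1}) I
  haveI := hS.mono_f
  haveI : Mono (P.map i) := inferInstance
  let E := ShortComplex.mk (P.map i) (cokernel.π (P.map i)) (cokernel.condition _)
  have hE : E.ShortExact := ShortComplex.ShortExact.mk' (ShortComplex.exact_cokernel _) inferInstance inferInstance
  let ν : cokernel (P.map i) ⟶ P.obj Q := cokernel.desc _ (P.map p) (by rw [← P.map_comp, w, P.map_zero])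
  haveI : Mono ν := by
    have hex : ((ShortComplex.mk i p w).map P).Exact :=
      hS.exact.map_of_mono_of_preservesKernel P inferInstance inferInstance
    exact hex.mono_cokernelDesc
  refine subsingleton_H1_kernel (E := E) hE (Over.mkIdTerminal) inferInstance fun k => ?_
  -- the cover
  let T := G.left
  let o : Over T := (Over.pullback G.hom).obj (Over.mk (𝟙 X))
  let e : o ≅ Over.mk (𝟙 T) := Over.isoMk (asIso (pullback.snd (𝟙 X) G.hom))
  let Z : Over T := Over.mk (𝟙 T)
  have h1 : Subsingleton (Sheaf.H A 1) := by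
    haveI := aCont T
    obtain ⟨h⟩ := SmoothDesc24.nonempty_H_equiv _ (SmoothDesc24.acyc_GmF T) 1
    haveI : Subsingleton (EtCoh.H T ((EtFppf.aPush T).obj (EtDl.GmF T)) 1) := (S0236.result T).2 hPic
    haveI : Subsingleton (Sheaf.H (EtDl.GmF T) 1) := h.symm.toEquiv.subsingleton
    refine subsingleton_of_forall_eq 0 fun z => ?_
    have key : (z.comp (Ext.mk₀ (resGmIso G.hom).hom) (add_zero _)).comp (Ext.mk₀ (resGmIso G.hom).inv) (add_zero _) = z := by
      rw [Ext.comp_assoc_of_third_deg_zero, Ext.mk₀_comp_mk₀, Iso.hom_inv_id, Ext.comp_mk₀_id]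
    rw [← key, Subsingleton.elim (α := Sheaf.H (EtDl.GmF T) 1) (Ext.comp z (Ext.mk₀ (resGmIso G.hom).hom) (add_zero _)) 0,
      Ext.zero_comp]
  let q : Q.obj.obj (op o) := ν.hom.app (op (Over.mk (𝟙 X))) k
  obtain ⟨y, hy⟩ := surjective_terminal hS (Over.mkIdTerminal : IsTerminal (Over.mk (𝟙 T))) h1 (Q.obj.map e.inv.op q)
  refine ⟨(I.obj.map e.hom.op y : (P.obj I).obj.obj (op (Over.mk (𝟙 X)))), ?_⟩
  haveI : Mono (((sheafToPresheaf _ _) ⋙ (evaluation _ _).obj (op (Over.mk (𝟙 X)))).map ν) := inferInstance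
  refine (AddCommGrpCat.mono_iff_injective _).1 this ?_
  show ν.hom.app _ ((cokernel.π (P.map i)).hom.app _ _) = ν.hom.app _ k
  rw [← ConcreteCategory.comp_apply, ← NatTrans.comp_app, ← ObjectProperty.FullSubcategory.comp_hom, cokernel.π_desc]
  show p.hom.app (op o) (I.obj.map e.hom.op y) = q
  rw [NatTrans.naturality_apply p.hom, show p.hom.app (op (Over.mk (𝟙 T))) y = Q.obj.map e.inv.op q from hy,
    ← ConcreteCategory.comp_apply, ← Functor.map_comp, ← op_comp, e.hom_inv_id, op_id, CategoryTheory.Functor.map_id]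
  rfl

variable {G}

/-- Precomposition with a morphism of the schemes `G`. -/
def funMap {G' : Over X} (h : G' ⟶ G) : Fun G ⟶ Fun G' :=
  ⟨{ app := fun U => (CGrpSh2.Gm Scheme.fppfPrecoverage X).obj.map (wl (π G') (τ G' ≫ h) : W G' U.unop ⟶ W G U.unop).op
     naturality := fun U U' f => by
       show (CGrpSh2.Gm Scheme.fppfPrecoverage X).obj.map (Wf f.unop).op ≫ _ =
         _ ≫ (CGrpSh2.Gm Scheme.fppfPrecoverage X).obj.map (Wf f.unop).op
       rw [← Functor.map_comp, ← Functor.map_comp, ← op_comp, ← op_comp, Wf_eq, Wf_eq, comp_wl, comp_wl]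
       refine congrArg (fun t : W G' U'.unop ⟶ W G U.unop => (CGrpSh2.Gm Scheme.fppfPrecoverage X).obj.map t.op) (wl_ext ?_ ?_)
       · rw [wl_π, wl_π, ← Category.assoc, wl_π, wl_π]
       · rw [wl_τ, wl_τ, wl_τ, ← Category.assoc, wl_τ] }⟩

theorem toPt_zero {U : Over X} : toPt G (0 : (Fun G).obj.obj (op U)) = 1 := rfl

theorem toPt_neg_up {U : Over X} (t : W G U ⟶ Red.Gm X) :
    toPt G (- (ULift.up (Additive.ofMul t)) : (Fun G).obj.obj (op U)) = t⁻¹ := rfl

theorem toPt_add {U : Over X} (x y : (Fun G).obj.obj (op U)) : toPt G (x + y) = toPt G x * toPt G y := rfl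

theorem toPt_injective {U : Over X} {x y : (Fun G).obj.obj (op U)} (h : toPt G x = toPt G y) : x = y :=
  ULift.ext _ _ (Additive.toMul.injective h)

theorem toPt_funMap {G' : Over X} (h : G' ⟶ G) {U : Over X} (f : (Fun G).obj.obj (op U)) :
    toPt G' ((funMap h).hom.app (op U) f) = wl (π G') (τ G' ≫ h) ≫ toPt G f := rfl

variable (G) [GrpObj G] [IsCommMonObj G]

/-- The failure of additivity. -/
def dlt : Fun G ⟶ Fun (G ⊗ G) := funMap (fst G G * snd G G) - funMap (fst G G) - funMap (snd G G)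

theorem dlt_app {U : Over X} (f : (Fun G).obj.obj (op U)) :
    (dlt G).hom.app (op U) f = (funMap (fst G G * snd G G)).hom.app (op U) f -
      (funMap (fst G G)).hom.app (op U) f - (funMap (snd G G)).hom.app (op U) f := rfl

/-- A character as an invertible function. -/
def evF : CGrpSh2.dualSh Scheme.fppfPrecoverage (CGrpSh.pts Scheme.fppfPrecoverage G) ⟶ Fun G :=
  ⟨{ app := fun U => AddCommGrpCat.ofHom
      { toFun := fun φ => φ.hom.app (op (Over.mk (π G (U := U.unop)))) (ULift.up (Additive.ofMul (τ G)))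
        map_zero' := rfl
        map_add' := fun φ ψ => rfl }
     naturality := fun U U' f => AddCommGrpCat.ext fun φ => by
       refine (homSh_map_app f.unop φ (π G) (ULift.up (Additive.ofMul (τ G)))).trans ?_
       refine Eq.trans ?_ (app_natural φ (π G) (π G (U := U'.unop) ≫ f.unop) (Wf f.unop)
         (by rw [Wf_eq]; exact wl_π _ _) (ULift.up (Additive.ofMul (τ G))))
       refine congrArg (φ.hom.app _) (ULift.ext _ _ (congrArg Additive.ofMul ?_))
       show τ G = Wf f.unop ≫ τ G
       rw [Wf_eq, wl_τ] }⟩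

variable {G}

theorem app_eq_evF {U : Over X} (φ : (CGrpSh2.dualSh Scheme.fppfPrecoverage (CGrpSh.pts Scheme.fppfPrecoverage G)).obj.obj (op U))
    {T : Over X} (r : T ⟶ U) (a : T ⟶ G) :
    φ.hom.app (op (Over.mk r)) (ULift.up (Additive.ofMul a)) =
      ULift.up (Additive.ofMul (wl r a ≫ toPt G ((evF G).hom.app (op U) φ))) := by
  refine Eq.trans ?_ (app_natural φ (π G (U := U)) r (wl r a) (wl_π r a) (ULift.up (Additive.ofMul (τ G))))
  refine congrArg (φ.hom.app _) (ULift.ext _ _ (congrArg Additive.ofMul ?_))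
  exact (wl_τ r a).symm

theorem mono_evF : Mono (evF G) := by
  haveI : ∀ V, Mono ((evF G).hom.app V) := fun V => (AddCommGrpCat.mono_iff_injective _).2 fun φ ψ h => by
    refine Sheaf.hom_ext (NatTrans.ext (funext fun r => AddCommGrpCat.ext fun a => ?_))
    refine (app_eq_evF φ r.unop.hom a.down.toMul).trans ?_
    refine Eq.trans ?_ (app_eq_evF ψ r.unop.hom a.down.toMul).symm
    exact congrArg (fun t => ULift.up (Additive.ofMul (wl r.unop.hom a.down.toMul ≫ toPt G t))) h
  haveI : Mono (evF G).hom := NatTrans.mono_of_mono_app _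
  exact (sheafToPresheaf _ _).mono_of_mono_map this

theorem pts_up_mul {T : Over X} (a b : T ⟶ G) :
    (ULift.up (Additive.ofMul (a * b)) : (CGrpSh.pts Scheme.fppfPrecoverage G).obj.obj (op T)) =
      ULift.up (Additive.ofMul a) + ULift.up (Additive.ofMul b) := rfl

theorem gm_up_injective {T : Over X} {a b : T ⟶ Red.Gm X}
    (h : (ULift.up (Additive.ofMul a) : (CGrpSh2.Gm Scheme.fppfPrecoverage X).obj.obj (op T)) =
      ULift.up (Additive.ofMul b)) : a = b := congrArg (fun t => t.down.toMul) h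

theorem gm_up_mul {T : Over X} (a b : T ⟶ Red.Gm X) :
    (ULift.up (Additive.ofMul a) + ULift.up (Additive.ofMul b) : (CGrpSh2.Gm Scheme.fppfPrecoverage X).obj.obj (op T)) =
      ULift.up (Additive.ofMul (a * b)) := rfl

theorem evF_add {U : Over X} (φ : (CGrpSh2.dualSh Scheme.fppfPrecoverage (CGrpSh.pts Scheme.fppfPrecoverage G)).obj.obj (op U))
    {T : Over X} (r : T ⟶ U) (a b : T ⟶ G) :
    wl r (a * b) ≫ toPt G ((evF G).hom.app (op U) φ) =
      (wl r a ≫ toPt G ((evF G).hom.app (op U) φ)) * (wl r b ≫ toPt G ((evF G).hom.app (op U) φ)) := by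
  apply gm_up_injective
  rw [← gm_up_mul, ← app_eq_evF φ r, ← app_eq_evF φ r, ← app_eq_evF φ r]
  exact (congrArg (φ.hom.app (op (Over.mk r))) (pts_up_mul a b)).trans (map_add (φ.hom.app (op (Over.mk r))).hom _ _)

theorem evF_dlt : evF G ≫ dlt G = 0 := by
  refine Sheaf.hom_ext (NatTrans.ext (funext fun V => AddCommGrpCat.ext fun φ => ?_))
  obtain ⟨U⟩ := V
  show (dlt G).hom.app (op U) ((evF G).hom.app (op U) φ) = 0
  rw [dlt_app, sub_sub, sub_eq_zero]
  apply toPt_injective
  rw [toPt_add, toPt_funMap, toPt_funMap, toPt_funMap, MonObj.comp_mul]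
  exact evF_add φ _ _ _

theorem exists_of_dlt_eq_zero {U : Over X} (f : (Fun G).obj.obj (op U)) (hf : (dlt G).hom.app (op U) f = 0) :
    ∃ φ, (evF G).hom.app (op U) φ = f := by
  rw [dlt_app, sub_sub, sub_eq_zero] at hf
  have h0 : wl (π (G ⊗ G)) (τ (G ⊗ G) ≫ (fst G G * snd G G)) ≫ toPt G f =
      (wl (π (G ⊗ G)) (τ (G ⊗ G) ≫ fst G G) ≫ toPt G f) * (wl (π (G ⊗ G)) (τ (G ⊗ G) ≫ snd G G) ≫ toPt G f) :=
    (by have h := congrArg (toPt (G ⊗ G)) hf
        rwa [toPt_add, toPt_funMap, toPt_funMap, toPt_funMap] at h)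
  have hadd : ∀ {T : Over X} (r : T ⟶ U) (a b : T ⟶ G),
      wl r (a * b) ≫ toPt G f = (wl r a ≫ toPt G f) * (wl r b ≫ toPt G f) := fun r a b => by
    have h1 := congrArg (fun t => wl r (lift a b) ≫ t) h0
    rw [MonObj.comp_mul (wl r (lift a b))] at h1
    rw [← Category.assoc, ← Category.assoc, ← Category.assoc, comp_wl, comp_wl, comp_wl, wl_π, ← Category.assoc,
      ← Category.assoc, ← Category.assoc, wl_τ, MonObj.comp_mul, lift_fst, lift_snd] at h1
    exact h1
  let app : ∀ r : Over U, (CGrpSh.pts Scheme.fppfPrecoverage G).obj.obj (op r.left) →+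
      (CGrpSh2.Gm Scheme.fppfPrecoverage X).obj.obj (op r.left) := fun r =>
    AddMonoidHom.mk' (fun a => ULift.up (Additive.ofMul (wl r.hom a.down.toMul ≫ toPt G f))) fun a b =>
      ULift.ext _ _ (congrArg Additive.ofMul (hadd r.hom a.down.toMul b.down.toMul))
  refine ⟨⟨{ app := fun r => AddCommGrpCat.ofHom (app r.unop)
             naturality := fun r r' g => AddCommGrpCat.ext fun a => ULift.ext _ _ (congrArg Additive.ofMul ?_) }⟩, ?_⟩
  · show wl r'.unop.hom (g.unop.left ≫ a.down.toMul) ≫ toPt G f = g.unop.left ≫ (wl r.unop.hom a.down.toMul ≫ toPt G f)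
    rw [← Category.assoc, comp_wl, Over.w g.unop]
  · refine ULift.ext _ _ (congrArg Additive.ofMul ?_)
    show wl (π G) (τ G) ≫ toPt G f = toPt G f
    rw [wl_eta, Category.id_comp]

/-- `H¹(X, Ĝ) = 0` when `G` has trivial Picard group and every invertible function on `G × G` is constant. -/
theorem subsingleton_H_dualSh
    (hPic : ∀ L : G.left.Modules, PicF.IsInvertible L → Nonempty (L ≅ Coh.structureModule G.left))
    (hunit : ∀ c : G ⊗ G ⟶ Red.Gm X, c = lift (1 : G ⊗ G ⟶ G) 1 ≫ c) :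
    Subsingleton (BigSite.H Scheme.fppfPrecoverage X
      (CGrpSh2.dualSh Scheme.fppfPrecoverage (CGrpSh.pts Scheme.fppfPrecoverage G)) 1) := by
  haveI := mono_evF (G := G)
  let E := ShortComplex.mk (evF G) (cokernel.π (evF G)) (cokernel.condition _)
  have hE : E.ShortExact := ShortComplex.ShortExact.mk' (ShortComplex.exact_cokernel _) inferInstance inferInstance
  refine subsingleton_H1_kernel (E := E) hE (Over.mkIdTerminal) (subsingleton_H_Fun G hPic) fun k => ?_
  let db : cokernel (evF G) ⟶ Fun (G ⊗ G) := cokernel.desc _ (dlt G) evF_dlt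
  have hdb : ∀ (V : Over X) (f : (Fun G).obj.obj (op V)),
      db.hom.app (op V) ((cokernel.π (evF G)).hom.app (op V) f) = (dlt G).hom.app (op V) f := fun V f => by
    rw [← ConcreteCategory.comp_apply, ← NatTrans.comp_app, ← ObjectProperty.FullSubcategory.comp_hom, cokernel.π_desc]
  -- the defect of additivity of `k` is constant
  let pX : Over X := Over.mk (𝟙 X)
  let j : G ⊗ G ⟶ W (G ⊗ G) pX := wl (Over.mkIdTerminal.from _) (𝟙 _)
  let c : W (G ⊗ G) pX ⟶ Red.Gm X := toPt (G ⊗ G) (db.hom.app (op pX) k)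
  have hc : c = τ (G ⊗ G) ≫ (j ≫ c) := by
    rw [← Category.assoc, comp_wl, Category.comp_id,
      show τ (G ⊗ G) ≫ Over.mkIdTerminal.from (G ⊗ G) = π (G ⊗ G) from Over.mkIdTerminal.hom_ext _ _, wl_eta, Category.id_comp]
  let f₀ : (Fun G).obj.obj (op pX) :=
    - ULift.up (Additive.ofMul (lift (1 : W G pX ⟶ G) 1 ≫ (j ≫ c)))
  have hf₀ : (dlt G).hom.app (op pX) f₀ = db.hom.app (op pX) k := by
    have key : ∀ h : G ⊗ G ⟶ G, (funMap h).hom.app (op pX) f₀ = - db.hom.app (op pX) k := fun h => by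
      refine (map_neg ((funMap h).hom.app (op pX)).hom _).trans (congrArg (- ·) (ULift.ext _ _ (Additive.toMul.injective ?_)))
      show wl (π (G ⊗ G)) (τ (G ⊗ G) ≫ h) ≫ lift 1 1 ≫ (j ≫ c) = c
      rw [← Category.assoc, comp_lift, MonObj.comp_one]
      conv_rhs => rw [hc, hunit (j ≫ c), ← Category.assoc, comp_lift, MonObj.comp_one]
    rw [dlt_app, key, key, key]
    abel
  let k' := k - (cokernel.π (evF G)).hom.app (op pX) f₀
  suffices hk : k' = 0 from ⟨f₀, (sub_eq_zero.1 hk).symm⟩
  have hdk : db.hom.app (op pX) k' = 0 := by rw [map_sub, hdb, hf₀, sub_self]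
  haveI : Sheaf.IsLocallySurjective (cokernel.π (evF G)) :=
    (Sheaf.isLocallySurjective_iff_epi' _ _).2 inferInstance
  have hS := (isSheaf_iff_isSheaf_of_type _ _).1
    ((Presheaf.isSheaf_iff_isSheaf_forget _ (cokernel (evF G)).obj (forget AddCommGrpCat.{u + 1})).1 (cokernel (evF G)).property)
  refine (hS _ (Presheaf.imageSieve_mem _ (cokernel.π (evF G)).hom (U := op pX) k')).isSeparatedFor.ext
    fun V g hg => ?_
  obtain ⟨f, hf⟩ := hg
  change (cokernel (evF G)).obj.map g.op k' = (cokernel (evF G)).obj.map g.op 0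
  rw [map_zero, ← hf]
  have hd : (dlt G).hom.app (op V) f = 0 := by
    rw [← hdb, hf, NatTrans.naturality_apply db.hom, hdk, map_zero]
  obtain ⟨φ, rfl⟩ := exists_of_dlt_eq_zero f hd
  exact ConcreteCategory.congr_hom (congrArg (fun t : _ ⟶ cokernel (evF G) => t.hom.app (op V)) (cokernel.condition (evF G))) φ

end Groth.Agent.GaExt23
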