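import Groth.Agent.Lib.GaExt23.Main
import Groth.Agent.Lib.PicAff14.Basic
import Groth.Agent.Lib.AdeqA.Site
import Mathlib.RingTheory.PicardGroup
import Mathlib.RingTheory.Polynomial.UniqueFactorization

/-!
# `Ext¹(Ga, Gm) = 0` over a field
-/

set_option autoImplicit false
set_option linter.style.haveILetI false
set_option maxHeartbeats 1600000
set_option backward.isDefEq.respectTransparency false
set_option backward.isDefEq.respectTransparency.types false
universe u

open CategoryTheory CategoryTheory.Limits MonoidalCategory CartesianMonoidalCategory MonObj AlgebraicGeometry Opposite Abelian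

noncomputable section

namespace Groth.Agent.GaExt23

open AdeqA (toSec toSec_comp toSec_ofSec toSec_injective)

/-- Invertible modules on the affine line over a field are trivial. -/
theorem pic_line_field (k : Type u) [Field k] (L : (Spec (CommRingCat.of (Polynomial k))).Modules)
    (hL : PicF.IsInvertible L) : Nonempty (L ≅ Coh.structureModule (Spec (CommRingCat.of (Polynomial k)))) := by
  obtain ⟨P, hP, ⟨e⟩⟩ := PicAff14.exists_invertible_tilde hL
  haveI := hP
  haveI : IsGCDMonoid (Polynomial k) := inferInstance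
  haveI : Module.Free (CommRingCat.of (Polynomial k)) P := inferInstanceAs (Module.Free (Polynomial k) P)
  obtain ⟨c⟩ := (Module.Invertible.free_iff_linearEquiv (R := CommRingCat.of (Polynomial k)) (M := P)).1 inferInstance
  exact ⟨e ≪≫ PicAff14.tildeIsoOfEquiv (M := P) (N := ModuleCat.of _ (CommRingCat.of (Polynomial k))) c ≪≫ tildeSelf⟩

theorem subsingleton_ext_one_field (k : Type u) [Field k] :
    Subsingleton (Ext (CGrpSh.pts Scheme.fppfPrecoverage (Red.Ga (Spec (CommRingCat.of k))))
      (CGrpSh.pts Scheme.fppfPrecoverage (Red.Gm (Spec (CommRingCat.of k)))) 1) := by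
  refine subsingleton_ext_one_of_lift fun {C} hC e s => ?_
  let X : Scheme.{u} := Spec (CommRingCat.of k)
  let G : Over X := Red.Ga X
  let P1 : CommRingCat.{u} := CommRingCat.of (Polynomial k)
  let V : Over X := Over.mk (Spec.map (CommRingCat.ofHom (algebraMap k (Polynomial k))))
  let x1 : V ⟶ G := GaPts.ptOfFn ((Scheme.ΓSpecIso P1).inv (Polynomial.X : Polynomial k))
  let ev : Polynomial k →+* Γ(G.left, ⊤) :=
    Polynomial.eval₂RingHom (toSec (X := CommRingCat.of k) G.hom).hom (Red.gaFn (𝟙 G))
  let bk : G ⟶ V := Over.homMk (G.left.toSpecΓ ≫ Spec.map (CommRingCat.ofHom ev)) (toSec_injective (X := CommRingCat.of k) (by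
    show toSec ((_ ≫ _) ≫ Spec.map _) = _
    rw [toSec_comp, toSec_ofSec]
    exact CommRingCat.hom_ext (RingHom.ext fun r => Polynomial.eval₂_C _ _)))
  have hbk : bk ≫ x1 = 𝟙 G := by
    refine GaPts.gaFn_injective ?_
    show Red.gaFn _ = Red.gaFn (𝟙 G)
    rw [GaPts.gaFn_comp, GaPts.gaFn_ptOfFn]
    exact (ConcreteCategory.congr_hom (toSec_ofSec (T := G.left) (CommRingCat.ofHom ev)) (Polynomial.X : Polynomial k)).trans
      (Polynomial.eval₂_X _ _)
  obtain ⟨t, ht⟩ := surjective_sections_of_pic hC e V (pic_line_field k) (C.X₃.obj.map x1.op s)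
  refine ⟨C.X₂.obj.map bk.op t, ?_⟩
  rw [NatTrans.naturality_apply C.g.hom, ht, ← ConcreteCategory.comp_apply, ← Functor.map_comp, ← op_comp, hbk, op_id,
    CategoryTheory.Functor.map_id]
  rfl

end Groth.Agent.GaExt23
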