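import Groth.Agent.Lib.GaExt23.PLift
import Groth.Agent.Lib.SiteCoh.Shift
import Groth.Agent.Lib.GaPts.Basic
import Groth.Agent.Lib.AdeqA.GammaAlg
import Groth.Agent.S13380
import Groth.Prelude.Def_Red2

/-!
# `Ext¹(Ga, Gm) = 0` over rings of characteristic `p` with surjective Frobenius
-/

set_option autoImplicit false
set_option linter.style.haveILetI false
set_option maxHeartbeats 1600000
set_option backward.isDefEq.respectTransparency false
set_option backward.isDefEq.respectTransparency.types false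
universe u

open CategoryTheory CategoryTheory.Limits MonoidalCategory CartesianMonoidalCategory MonObj AlgebraicGeometry Opposite Abelian

noncomputable section

namespace Groth.Agent.GaExt23

open AdeqA (toSec toSec_comp toSec_ofSec toSec_injective)

variable {R : CommRingCat.{u}}

/-- The ring map from the base to the functions of a scheme over it. -/
abbrev ψ (T : Over (Spec R)) : R →+* Γ(T.left, ⊤) := (toSec T.hom).hom

/-- The spectrum of an algebra, over the base. -/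
abbrev TP (P : Type u) [CommRing P] [Algebra R P] : Over (Spec R) :=
  Over.mk (Spec.map (CommRingCat.ofHom (algebraMap R P)))

theorem toSec_TP (P : Type u) [CommRing P] [Algebra R P] (r : R) :
    ψ (TP (R := R) P) r = (Scheme.ΓSpecIso (CommRingCat.of P)).inv (algebraMap R P r) := by
  show (toSec (Spec.map (CommRingCat.ofHom (algebraMap R P)))) r = _
  rw [toSec, ← Scheme.ΓSpecIso_inv_naturality]
  rfl

/-- The morphism to a spectrum given by a ring map on functions. -/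
def toTP {T : Over (Spec R)} {P : Type u} [CommRing P] [Algebra R P] (φ : P →+* Γ(T.left, ⊤))
    (h : φ.comp (algebraMap R P) = ψ T) : T ⟶ TP (R := R) P :=
  Over.homMk (T.left.toSpecΓ ≫ Spec.map (CommRingCat.ofHom φ)) (toSec_injective (by
    show toSec ((_ ≫ _) ≫ Spec.map _) = _
    rw [toSec_comp, toSec_ofSec]
    exact CommRingCat.hom_ext h))

theorem appTop_toTP {T : Over (Spec R)} {P : Type u} [CommRing P] [Algebra R P] (φ : P →+* Γ(T.left, ⊤))
    (h : φ.comp (algebraMap R P) = ψ T) (q : P) :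
    (toTP φ h).left.appTop ((Scheme.ΓSpecIso (CommRingCat.of P)).inv q) = φ q :=
  ConcreteCategory.congr_hom (toSec_ofSec (T := T.left) (CommRingCat.ofHom φ)) q

/-- A coordinate point. -/
abbrev cpt {P : Type u} [CommRing P] [Algebra R P] (q : P) : TP (R := R) P ⟶ Red.Ga (Spec R) :=
  GaPts.ptOfFn ((Scheme.ΓSpecIso (CommRingCat.of P)).inv q)

theorem toTP_cpt {T : Over (Spec R)} {P : Type u} [CommRing P] [Algebra R P] (φ : P →+* Γ(T.left, ⊤))
    (h : φ.comp (algebraMap R P) = ψ T) (q : P) (t : T ⟶ Red.Ga (Spec R)) (hq : φ q = Red.gaFn t) :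
    toTP φ h ≫ cpt q = t := by
  refine GaPts.gaFn_injective ?_
  show Red.gaFn _ = Red.gaFn t
  rw [GaPts.gaFn_comp, GaPts.gaFn_ptOfFn, appTop_toTP, hq]

/-- The polynomial of an invertible function on the plane. -/
def poly2 (c : Red.Ga (Spec R) ⊗ Red.Ga (Spec R) ⟶ Red.Gm (Spec R)) : MvPolynomial (Fin 2) R :=
  (Scheme.ΓSpecIso (CommRingCat.of (MvPolynomial (Fin 2) R))).hom
    (GmPts.unitOfPt (lift (cpt (MvPolynomial.X 0 : MvPolynomial (Fin 2) R)) (cpt (MvPolynomial.X 1)) ≫ c) :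
      Γ((TP (R := R) (MvPolynomial (Fin 2) R)).left, ⊤))

theorem isUnit_poly2 (c : Red.Ga (Spec R) ⊗ Red.Ga (Spec R) ⟶ Red.Gm (Spec R)) : IsUnit (poly2 c) :=
  (Units.isUnit _).map (Scheme.ΓSpecIso (CommRingCat.of (MvPolynomial (Fin 2) R))).hom.hom

theorem unitOfPt_lift (c : Red.Ga (Spec R) ⊗ Red.Ga (Spec R) ⟶ Red.Gm (Spec R)) {T : Over (Spec R)}
    (a b : T ⟶ Red.Ga (Spec R)) :
    (GmPts.unitOfPt (lift a b ≫ c) : Γ(T.left, ⊤)) =
      MvPolynomial.eval₂Hom (ψ T) ![Red.gaFn a, Red.gaFn b] (poly2 c) := by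
  let φ := MvPolynomial.eval₂Hom (ψ T) ![Red.gaFn a, Red.gaFn b]
  have hφ : φ.comp (algebraMap R (MvPolynomial (Fin 2) R)) = ψ T := RingHom.ext fun r => MvPolynomial.eval₂Hom_C _ _ r
  have e : lift a b = toTP φ hφ ≫ lift (cpt (MvPolynomial.X 0 : MvPolynomial (Fin 2) R)) (cpt (MvPolynomial.X 1)) := by
    rw [comp_lift, toTP_cpt φ hφ _ a (by simp [φ]), toTP_cpt φ hφ _ b (by simp [φ])]
  rw [e, Category.assoc, GmPts.unitOfPt_comp]
  show (toTP φ hφ).left.appTop _ = φ (poly2 c)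
  rw [← appTop_toTP φ hφ (poly2 c)]
  refine congrArg (toTP φ hφ).left.appTop ?_
  exact (ConcreteCategory.congr_hom (Scheme.ΓSpecIso (CommRingCat.of (MvPolynomial (Fin 2) R))).hom_inv_id _).symm

theorem unitOfPt_lift_TP (c : Red.Ga (Spec R) ⊗ Red.Ga (Spec R) ⟶ Red.Gm (Spec R)) {P : Type u} [CommRing P]
    [Algebra R P] (q r : P) :
    (GmPts.unitOfPt (lift (cpt (R := R) q) (cpt r) ≫ c) : Γ((TP (R := R) P).left, ⊤)) =
      (Scheme.ΓSpecIso (CommRingCat.of P)).inv (MvPolynomial.aeval ![q, r] (poly2 c)) := by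
  rw [unitOfPt_lift, GaPts.gaFn_ptOfFn, GaPts.gaFn_ptOfFn]
  refine Eq.symm (DFunLike.congr_fun (MvPolynomial.ringHom_ext (f := (Scheme.ΓSpecIso (CommRingCat.of P)).inv.hom.comp
    (MvPolynomial.aeval ![q, r] : MvPolynomial (Fin 2) R →ₐ[R] P).toRingHom)
    (g := MvPolynomial.eval₂Hom (ψ (TP (R := R) P))
      ![(Scheme.ΓSpecIso (CommRingCat.of P)).inv q, (Scheme.ΓSpecIso (CommRingCat.of P)).inv r])
    (fun x => ?_) (fun i => ?_)) (poly2 c))
  · show (Scheme.ΓSpecIso (CommRingCat.of P)).inv (MvPolynomial.aeval ![q, r] (MvPolynomial.C x)) = _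
    rw [MvPolynomial.aeval_C, MvPolynomial.eval₂Hom_C]
    exact (toSec_TP P x).symm
  · show (Scheme.ΓSpecIso (CommRingCat.of P)).inv (MvPolynomial.aeval ![q, r] (MvPolynomial.X i)) = _
    rw [MvPolynomial.aeval_X, MvPolynomial.eval₂Hom_X']
    fin_cases i <;> rfl

theorem cpt_mul {P : Type u} [CommRing P] [Algebra R P] (q r : P) : cpt (R := R) q * cpt r = cpt (q + r) := by
  rw [cpt, cpt, cpt, map_add]
  exact (GaPts.ptOfFn_add _ _).symm

theorem cpt_zero {P : Type u} [CommRing P] [Algebra R P] : cpt (R := R) (0 : P) = 1 := by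
  rw [cpt, map_zero]
  exact GaPts.ptOfFn_zero

theorem aeval_eq_of_units {P : Type u} [CommRing P] [Algebra R P]
    {x y : (Γ((TP (R := R) P).left, ⊤))} {q r : P} (hx : x = (Scheme.ΓSpecIso (CommRingCat.of P)).inv q)
    (hy : y = (Scheme.ΓSpecIso (CommRingCat.of P)).inv r) (h : x = y) : q = r :=
  (Scheme.ΓSpecIso (CommRingCat.of P)).symm.commRingCatIsoToRingEquiv.injective (hx.symm.trans (h.trans hy))

variable (c : Red.Ga (Spec R) ⊗ Red.Ga (Spec R) ⟶ Red.Gm (Spec R))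

theorem poly2_zero (K0 : ∀ {T : Over (Spec R)} (a : T ⟶ Red.Ga (Spec R)), lift a 1 ≫ c = 1) :
    MvPolynomial.aeval ![(MvPolynomial.X 0 : MvPolynomial (Fin 2) R), 0] (poly2 c) = 1 := by
  have h := K0 (cpt (MvPolynomial.X 0 : MvPolynomial (Fin 2) R))
  rw [← cpt_zero] at h
  have h' := (unitOfPt_lift_TP c (MvPolynomial.X 0 : MvPolynomial (Fin 2) R) 0).symm.trans
    (congrArg (fun k => (GmPts.unitOfPt k : Γ((TP (R := R) (MvPolynomial (Fin 2) R)).left, ⊤))) h)
  exact aeval_eq_of_units rfl (by rw [GmPts.unitOfPt_one, Units.val_one, map_one]) h'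

theorem poly2_symm (Ksymm : ∀ {T : Over (Spec R)} (a b : T ⟶ Red.Ga (Spec R)), lift b a ≫ c = lift a b ≫ c) :
    MvPolynomial.aeval ![(MvPolynomial.X 1 : MvPolynomial (Fin 2) R), MvPolynomial.X 0] (poly2 c) = poly2 c := by
  have h := congrArg (fun k => (GmPts.unitOfPt k : Γ((TP (R := R) (MvPolynomial (Fin 2) R)).left, ⊤)))
    (Ksymm (cpt (MvPolynomial.X 0 : MvPolynomial (Fin 2) R)) (cpt (MvPolynomial.X 1)))
  refine (aeval_eq_of_units (unitOfPt_lift_TP c _ _) (unitOfPt_lift_TP c _ _) h).trans ?_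
  rw [show ![(MvPolynomial.X 0 : MvPolynomial (Fin 2) R), MvPolynomial.X 1] = MvPolynomial.X from
    funext fun j => by fin_cases j <;> rfl, MvPolynomial.aeval_X_left_apply]

theorem poly2_coc (Kcoc : ∀ {T : Over (Spec R)} (a b d : T ⟶ Red.Ga (Spec R)),
      (lift b d ≫ c) * (lift a (b * d) ≫ c) = (lift (a * b) d ≫ c) * (lift a b ≫ c)) :
    MvPolynomial.aeval ![(MvPolynomial.X 1 : MvPolynomial (Fin 3) R), MvPolynomial.X 2] (poly2 c) *
        MvPolynomial.aeval ![MvPolynomial.X 0, MvPolynomial.X 1 + MvPolynomial.X 2] (poly2 c) =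
      MvPolynomial.aeval ![MvPolynomial.X 0 + MvPolynomial.X 1, MvPolynomial.X 2] (poly2 c) *
        MvPolynomial.aeval ![MvPolynomial.X 0, MvPolynomial.X 1] (poly2 c) := by
  have h' := Kcoc (cpt (MvPolynomial.X 0 : MvPolynomial (Fin 3) R)) (cpt (MvPolynomial.X 1)) (cpt (MvPolynomial.X 2))
  rw [cpt_mul, cpt_mul] at h'
  have h := congrArg (fun k => (GmPts.unitOfPt k : Γ((TP (R := R) (MvPolynomial (Fin 3) R)).left, ⊤))) h'
  simp only [GmPts.unitOfPt_mul, Units.val_mul, unitOfPt_lift_TP, ← map_mul] at h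
  exact aeval_eq_of_units (map_mul (Scheme.ΓSpecIso (CommRingCat.of (MvPolynomial (Fin 3) R))).inv.hom _ _).symm
    (map_mul (Scheme.ΓSpecIso (CommRingCat.of (MvPolynomial (Fin 3) R))).inv.hom _ _).symm h

/-- Symmetric normalised unit cocycles on the additive group are coboundaries. -/
theorem exists_splitting (p : ℕ) [hp : Fact p.Prime] (R : Type u) [CommRing R] [CharP R p]
    (hF : Function.Surjective (frobenius R p))
    (cc : Red.Ga (Spec (CommRingCat.of R)) ⊗ Red.Ga (Spec (CommRingCat.of R)) ⟶ Red.Gm (Spec (CommRingCat.of R)))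
    (K0 : ∀ {T : Over (Spec (CommRingCat.of R))} (a : T ⟶ Red.Ga (Spec (CommRingCat.of R))), lift a 1 ≫ cc = 1)
    (Ksymm : ∀ {T : Over (Spec (CommRingCat.of R))} (a b : T ⟶ Red.Ga (Spec (CommRingCat.of R))),
      lift b a ≫ cc = lift a b ≫ cc)
    (Kcoc : ∀ {T : Over (Spec (CommRingCat.of R))} (a b d : T ⟶ Red.Ga (Spec (CommRingCat.of R))),
      (lift b d ≫ cc) * (lift a (b * d) ≫ cc) = (lift (a * b) d ≫ cc) * (lift a b ≫ cc)) :
    ∃ fPt : Red.Ga (Spec (CommRingCat.of R)) ⟶ Red.Gm (Spec (CommRingCat.of R)),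
      ∀ {T : Over (Spec (CommRingCat.of R))} (a b : T ⟶ Red.Ga (Spec (CommRingCat.of R))),
        (a * b) ≫ fPt = (a ≫ fPt) * (b ≫ fPt) * (lift a b ≫ cc) := by
  let X : Scheme.{u} := Spec (CommRingCat.of R)
  let G : Over X := Red.Ga X
  let K : ∀ {T : Over X}, (T ⟶ G) → (T ⟶ G) → (T ⟶ Red.Gm X) := fun a b => lift a b ≫ cc
  obtain ⟨f, hfu, hf⟩ := S13380.result p R hF (poly2 (R := CommRingCat.of R) cc) (isUnit_poly2 cc)
    (poly2_zero (R := CommRingCat.of R) cc K0) (poly2_symm (R := CommRingCat.of R) cc Ksymm)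
    (poly2_coc (R := CommRingCat.of R) cc Kcoc)
  let evT : ∀ {T : Over X}, (T ⟶ G) → (Polynomial R →+* Γ(T.left, ⊤)) := fun {T} t =>
    Polynomial.eval₂RingHom (ψ (R := CommRingCat.of R) T) (Red.gaFn t)
  let fPt : G ⟶ Red.Gm X := GmPts.ptOfUnit (Units.map (evT (𝟙 G)).toMonoidHom hfu.unit)
  have hF' : ∀ {T : Over X} (t : T ⟶ G), (GmPts.unitOfPt (t ≫ fPt) : Γ(T.left, ⊤)) = evT t f := fun {T} t => by
    rw [GmPts.unitOfPt_comp, GmPts.unitOfPt_ptOfUnit]
    show t.left.appTop (evT (𝟙 G) f) = _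
    refine DFunLike.congr_fun (Polynomial.ringHom_ext (f := t.left.appTop.hom.comp (evT (𝟙 G))) (g := evT t)
      (fun r => ?_) ?_) f
    · show t.left.appTop (Polynomial.eval₂ _ _ (Polynomial.C r)) = Polynomial.eval₂ _ _ (Polynomial.C r)
      rw [Polynomial.eval₂_C, Polynomial.eval₂_C]
      exact (ConcreteCategory.congr_hom (AdeqA.toSec_hom_naturality (R := CommRingCat.of R) t) r).symm
    · show t.left.appTop (Polynomial.eval₂ _ _ Polynomial.X) = Polynomial.eval₂ _ _ Polynomial.X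
      rw [Polynomial.eval₂_X, Polynomial.eval₂_X, ← GaPts.gaFn_comp, Category.comp_id]
  have hFK : ∀ {T : Over X} (a b : T ⟶ G), (a * b) ≫ fPt = (a ≫ fPt) * (b ≫ fPt) * K a b := fun {T} a b => by
    rw [← GmPts.ptOfUnit_unitOfPt ((a * b) ≫ fPt), ← GmPts.ptOfUnit_unitOfPt ((a ≫ fPt) * (b ≫ fPt) * K a b)]
    refine congrArg GmPts.ptOfUnit (Units.ext ?_)
    rw [GmPts.unitOfPt_mul, GmPts.unitOfPt_mul, Units.val_mul, Units.val_mul, hF', hF', hF',
      show (GmPts.unitOfPt (K a b) : Γ(T.left, ⊤)) = _ from unitOfPt_lift (R := CommRingCat.of R) cc a b]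
    let Φ := MvPolynomial.eval₂Hom (ψ (R := CommRingCat.of R) T) ![Red.gaFn a, Red.gaFn b]
    have hΦ : ∀ q : MvPolynomial (Fin 2) R, ∀ t : T ⟶ G, Φ q = Red.gaFn t →
        Φ (Polynomial.aeval q f) = evT t f := fun q t hq =>
      DFunLike.congr_fun (Polynomial.ringHom_ext (f := Φ.comp (Polynomial.aeval q).toRingHom) (g := evT t)
        (fun r => by
          show Φ (Polynomial.aeval q (Polynomial.C r)) = Polynomial.eval₂ _ _ (Polynomial.C r)
          rw [Polynomial.aeval_C, Polynomial.eval₂_C]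
          exact MvPolynomial.eval₂Hom_C _ _ r)
        (by
          show Φ (Polynomial.aeval q Polynomial.X) = Polynomial.eval₂ _ _ Polynomial.X
          rw [Polynomial.aeval_X, Polynomial.eval₂_X, hq])) f
    have h := congrArg Φ hf
    rw [map_mul, map_mul, hΦ _ (a * b) (by rw [map_add, GaPts.gaFn_mul]; simp [Φ]), hΦ _ a (by simp [Φ]),
      hΦ _ b (by simp [Φ])] at h
    exact h
  exact ⟨fPt, fun a b => hFK a b⟩

/-- `Ext¹(Ga, Gm) = 0`. -/
theorem subsingleton_ext_one_of_frobenius (p : ℕ) [hp : Fact p.Prime] (R : Type u) [CommRing R] [CharP R p]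
    (hF : Function.Surjective (frobenius R p)) :
    Subsingleton (Ext (CGrpSh.pts Scheme.fppfPrecoverage (Red.Ga (Spec (CommRingCat.of R))))
      (CGrpSh.pts Scheme.fppfPrecoverage (Red.Gm (Spec (CommRingCat.of R)))) 1) := by
  let X : Scheme.{u} := Spec (CommRingCat.of R)
  obtain ⟨I, Q, i, π, w, _, hS⟩ := SiteCoh.exists_inj_seq (CGrpSh.pts Scheme.fppfPrecoverage (Red.Gm X))
  refine SiteCoh.ext_one_eq_zero _ hS (fun g => ?_) (SiteCoh.subsingleton_ext_injective _ _ 0)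
  let G : Over X := Red.Ga X
  let pt : ∀ {T : Over X}, (T ⟶ G) → (CGrpSh.pts Scheme.fppfPrecoverage (Red.Ga X)).obj.obj (op T) :=
    fun t => ULift.up (Additive.ofMul t)
  have hpt : ∀ {T : Over X} (a b : T ⟶ G), pt (a * b) = pt a + pt b := fun a b => rfl
  have hg : ∀ {T T' : Over X} (t : T ⟶ G) (u : T' ⟶ T),
      g.hom.app (op T') (pt (u ≫ t)) = Q.obj.map u.op (g.hom.app (op T) (pt t)) := fun t u =>
    NatTrans.naturality_apply g.hom u.op (pt t)
  -- a lift over the line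
  let P1 : CommRingCat.{u} := CommRingCat.of (Polynomial R)
  let a₁ : Spec P1 ⟶ X := Spec.map (CommRingCat.ofHom (algebraMap R (Polynomial R)))
  let V1 : Over X := AdeqA.sOb a₁ (Adeq.algOf P1 P1)
  let x1 : V1 ⟶ G := GaPts.ptOfFn ((Scheme.ΓSpecIso P1).inv (Polynomial.X : Polynomial R))
  have hx1 : x1 ^ p = 1 := by
    have hpow : ∀ m : ℕ, Red.gaFn (x1 ^ m) = (m : Γ(V1.left, ⊤)) * Red.gaFn x1 := fun m => by
      induction m with
      | zero => rw [pow_zero, GaPts.gaFn_one, Nat.cast_zero, zero_mul]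
      | succ n ih => rw [pow_succ, GaPts.gaFn_mul, ih, Nat.cast_succ, add_mul, _root_.one_mul]
    refine GaPts.gaFn_injective ?_
    show Red.gaFn _ = Red.gaFn (1 : V1 ⟶ G)
    rw [hpow, GaPts.gaFn_one]
    have hz : ((p : ℕ) : Γ(Spec P1, ⊤)) = 0 := by
      rw [← map_natCast (Scheme.ΓSpecIso P1).inv.hom, show ((p : ℕ) : P1) = 0 from CharP.cast_eq_zero (Polynomial R) p,
        map_zero]
    show ((p : ℕ) : Γ(Spec P1, ⊤)) * _ = 0
    rw [hz]
    exact zero_mul _
  have hs1 : p • g.hom.app (op V1) (pt x1) = 0 := by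
    rw [← map_nsmul]
    have e : p • pt x1 = (0 : (CGrpSh.pts Scheme.fppfPrecoverage (Red.Ga X)).obj.obj (op V1)) :=
      ULift.ext _ _ (congrArg Additive.ofMul hx1)
    rw [e, map_zero]
  obtain ⟨t₁, ht₁⟩ := exists_lift_of_nsmul_eq_zero (S := X) (A := P1) a₁ p (uCo_polynomial p R hF) hS _ hs1
  let bk : G ⟶ V1 := Over.homMk
    (G.left.toSpecΓ ≫ Spec.map (CommRingCat.ofHom
      (Polynomial.eval₂RingHom (ψ (R := CommRingCat.of R) G) (Red.gaFn (𝟙 G)) : Polynomial R →+* Γ(G.left, ⊤))))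
    (toSec_injective (X := CommRingCat.of R) (by
      show toSec ((_ ≫ _) ≫ Spec.map (CommRingCat.ofHom (algebraMap P1 P1)) ≫ Spec.map _) = _
      rw [Algebra.algebraMap_self, CommRingCat.ofHom_id, Spec.map_id, Category.id_comp, toSec_comp, toSec_ofSec]
      exact CommRingCat.hom_ext (RingHom.ext fun r => Polynomial.eval₂_C _ _)))
  have hbk : bk ≫ x1 = 𝟙 G := by
    refine GaPts.gaFn_injective ?_
    show Red.gaFn _ = Red.gaFn (𝟙 G)
    rw [GaPts.gaFn_comp, GaPts.gaFn_ptOfFn]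
    exact (ConcreteCategory.congr_hom (toSec_ofSec (T := G.left) (CommRingCat.ofHom
      (Polynomial.eval₂RingHom (ψ (R := CommRingCat.of R) G) (Red.gaFn (𝟙 G))))) (Polynomial.X : Polynomial R)).trans
      (Polynomial.eval₂_X _ _)
  let e₀ : I.obj.obj (op G) := I.obj.map bk.op t₁
  let e : I.obj.obj (op G) := e₀ - I.obj.map (1 : G ⟶ G).op e₀
  have he₀ : π.hom.app (op G) e₀ = g.hom.app (op G) (pt (𝟙 G)) := by
    rw [← hbk, hg x1 bk]
    exact (NatTrans.naturality_apply π.hom bk.op t₁).trans (congrArg _ ht₁)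
  let s : ∀ {T : Over X}, (T ⟶ G) → I.obj.obj (op T) := fun t => I.obj.map t.op e
  have hps : ∀ {T : Over X} (t : T ⟶ G), π.hom.app (op T) (s t) = g.hom.app (op T) (pt t) := fun {T} t => by
    have h1 : π.hom.app (op G) e = g.hom.app (op G) (pt (𝟙 G)) := by
      show π.hom.app (op G) (e₀ - I.obj.map (1 : G ⟶ G).op e₀) = _
      refine (map_sub (π.hom.app (op G)).hom e₀ _).trans ?_
      have h2 : π.hom.app (op G) (I.obj.map (1 : G ⟶ G).op e₀) = 0 := by
        refine (NatTrans.naturality_apply π.hom (1 : G ⟶ G).op e₀).trans ((congrArg _ he₀).trans ?_)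
        rw [← hg, Category.comp_id]
        exact map_zero (g.hom.app (op G)).hom
      exact (congrArg₂ (fun x y => x - y) he₀ h2).trans (sub_zero _)
    refine (NatTrans.naturality_apply π.hom t.op e).trans ((congrArg _ h1).trans ?_)
    rw [← hg, Category.comp_id]
  have hs : ∀ {T T' : Over X} (h : T' ⟶ T) (t : T ⟶ G), s (h ≫ t) = I.obj.map h.op (s t) := fun h t => by
    show I.obj.map (h ≫ t).op e = _
    rw [op_comp, Functor.map_comp]
    rfl
  have hs0 : ∀ T : Over X, s (1 : T ⟶ G) = 0 := fun T => by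
    show I.obj.map (1 : T ⟶ G).op (e₀ - I.obj.map (1 : G ⟶ G).op e₀) = 0
    refine (map_sub (I.obj.map (1 : T ⟶ G).op).hom e₀ _).trans (sub_eq_zero.2 ?_)
    have hone : (1 : T ⟶ G) ≫ (1 : G ⟶ G) = 1 := MonObj.comp_one _
    refine Eq.trans (congrArg (fun t : T ⟶ G => I.obj.map t.op e₀) hone.symm) ?_
    show I.obj.map ((1 : G ⟶ G).op ≫ (1 : T ⟶ G).op) e₀ = _
    rw [Functor.map_comp]
    rfl
  obtain ⟨c, hc⟩ := AdeqA.exists_app_f hS (op (G ⊗ G))
    (s (fst G G * snd G G) - s (fst G G) - s (snd G G)) (by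
      rw [map_sub, map_sub]
      show π.hom.app _ _ - π.hom.app _ _ - π.hom.app _ _ = 0
      rw [hps, hps, hps, hpt, map_add]
      abel)
  change i.hom.app _ c = _ at hc
  let cc : G ⊗ G ⟶ Red.Gm X := c.down.toMul
  let ι' : ∀ {T : Over X}, (T ⟶ Red.Gm X) → I.obj.obj (op T) := fun k => i.hom.app _ (ULift.up (Additive.ofMul k))
  have ιmul : ∀ {T : Over X} (k k' : T ⟶ Red.Gm X), ι' (k * k') = ι' k + ι' k' := fun k k' => by
    rw [← map_add]; rfl
  have ιinj : ∀ {T : Over X} (k k' : T ⟶ Red.Gm X), ι' k = ι' k' → k = k' := fun {T} k k' h =>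
    congrArg (fun z => z.down.toMul) (AdeqA.injective_app_f hS (op T) h)
  let K : ∀ {T : Over X}, (T ⟶ G) → (T ⟶ G) → (T ⟶ Red.Gm X) := fun a b => lift a b ≫ cc
  have hadd : ∀ {T : Over X} (a b : T ⟶ G), ι' (K a b) = s (a * b) - s a - s b := fun a b => by
    refine (congrArg (i.hom.app _) (rfl : (ULift.up (Additive.ofMul (lift a b ≫ cc)) :
      (CGrpSh.pts Scheme.fppfPrecoverage (Red.Gm X)).obj.obj (op _)) =
        (CGrpSh.pts Scheme.fppfPrecoverage (Red.Gm X)).obj.map (lift a b).op c)).trans ?_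
    refine (NatTrans.naturality_apply i.hom (lift a b).op c).trans ((congrArg _ hc).trans ?_)
    rw [map_sub, map_sub, ← hs, ← hs, ← hs, MonObj.comp_mul, lift_fst, lift_snd]
  have ι1 : ∀ T : Over X, ι' (1 : T ⟶ Red.Gm X) = 0 := fun T => map_zero (i.hom.app (op T)).hom
  have K0 : ∀ {T : Over X} (a : T ⟶ G), K a 1 = 1 := fun a => ιinj _ _ (by
    rw [hadd, hs0, ι1]
    show s (a * (1 : _ ⟶ G)) - s a - 0 = 0
    rw [show a * (1 : _ ⟶ G) = a from MulOneClass.mul_one a, sub_self, sub_zero])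
  have Ksymm : ∀ {T : Over X} (a b : T ⟶ G), K b a = K a b := fun a b => ιinj _ _ (by
    rw [hadd, hadd, _root_.mul_comm b a]; abel)
  have Kcoc : ∀ {T : Over X} (a b d : T ⟶ G), K b d * K a (b * d) = K (a * b) d * K a b := fun a b d => ιinj _ _ (by
    rw [ιmul, ιmul, hadd, hadd, hadd, hadd, _root_.mul_assoc a b d]; abel)
  obtain ⟨fPt, hFK⟩ := exists_splitting p R hF cc K0 Ksymm Kcoc
  let h : ∀ T : Over X, (CGrpSh.pts Scheme.fppfPrecoverage (Red.Ga X)).obj.obj (op T) →+ I.obj.obj (op T) := fun T =>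
    AddMonoidHom.mk' (fun z => s z.down.toMul - ι' (z.down.toMul ≫ fPt)) fun a b => by
      show s (a.down.toMul * b.down.toMul) - ι' ((a.down.toMul * b.down.toMul) ≫ fPt) = _
      rw [hFK, ιmul, ιmul, hadd]
      abel
  refine ⟨⟨{ app := fun T => AddCommGrpCat.ofHom (h T.unop)
             naturality := fun T T' u => AddCommGrpCat.ext fun z => ?_ }⟩, Sheaf.hom_ext (NatTrans.ext (funext fun T =>
    AddCommGrpCat.ext fun z => ?_))⟩
  · show s (u.unop ≫ z.down.toMul) - ι' ((u.unop ≫ z.down.toMul) ≫ fPt) =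
      I.obj.map u (s z.down.toMul - ι' (z.down.toMul ≫ fPt))
    rw [map_sub, hs, Category.assoc]
    refine congrArg₂ (· - ·) rfl ?_
    exact NatTrans.naturality_apply i.hom u _
  · show π.hom.app T (s z.down.toMul - ι' (z.down.toMul ≫ fPt)) = g.hom.app T z
    rw [map_sub, hps]
    have hz : π.hom.app T (ι' (z.down.toMul ≫ fPt)) = 0 :=
      ConcreteCategory.congr_hom (congrArg (fun q : CGrpSh.pts Scheme.fppfPrecoverage (Red.Gm X) ⟶ Q => q.hom.app T) w) _
    rw [hz, sub_zero]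
    rfl

end Groth.Agent.GaExt23
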