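import Groth.Agent.Lib.BigSite16.Res
import Groth.Agent.Lib.SiteCoh.Shift
import Groth.Agent.Lib.AdeqA.Cartan
import Groth.Prelude.Def_CGrpSh2

/-!
# `H¹(X, Ĝ)` injects into `Ext¹(G, Gm)`
-/

set_option autoImplicit false
set_option linter.style.haveILetI false
set_option maxHeartbeats 1600000
set_option backward.isDefEq.respectTransparency false
set_option backward.isDefEq.respectTransparency.types false
universe u

open CategoryTheory CategoryTheory.Limits MonoidalCategory CartesianMonoidalCategory MonObj AlgebraicGeometry Opposite Abelian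

noncomputable section

namespace Groth.Agent.GaExt23.HX

variable {X : Scheme.{u}}

section Site

variable {C : Type (u + 1)} [Category.{u} C] {J : GrothendieckTopology C} {F M : Sheaf J AddCommGrpCat.{u + 1}}

theorem homSh_map_app {U U' : C} (f : U' ⟶ U) (φ : (HomSh.homSh J F M).obj.obj (op U)) {T : C} (r : T ⟶ U')
    (x : F.obj.obj (op T)) :
    ((HomSh.homSh J F M).obj.map f.op φ).hom.app (op (Over.mk r)) x = φ.hom.app (op (Over.mk (r ≫ f))) x := rfl

theorem app_natural {U : C} (φ : (HomSh.homSh J F M).obj.obj (op U)) {T T' : C} (r : T ⟶ U) (r' : T' ⟶ U) (s : T' ⟶ T)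
    (h : s ≫ r = r') (x : F.obj.obj (op T)) :
    φ.hom.app (op (Over.mk r')) (F.obj.map s.op x) = M.obj.map s.op (φ.hom.app (op (Over.mk r)) x) :=
  NatTrans.naturality_apply φ.hom (Over.homMk s h : Over.mk r' ⟶ Over.mk r).op x

theorem map_map (F : Sheaf J AddCommGrpCat.{u + 1}) {T T' T'' : C} (f : T' ⟶ T) (g : T'' ⟶ T')
    (x : F.obj.obj (op T)) : F.obj.map g.op (F.obj.map f.op x) = F.obj.map (g ≫ f).op x := by
  rw [op_comp, Functor.map_comp]; rfl

theorem map_id_apply (F : Sheaf J AddCommGrpCat.{u + 1}) {T : C} (x : F.obj.obj (op T)) :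
    F.obj.map (𝟙 T).op x = x := by
  rw [op_id, CategoryTheory.Functor.map_id]; rfl

/-- Two sections are equal when they agree on a covering. -/
theorem eq_of_cover (F : Sheaf J AddCommGrpCat.{u + 1}) {T : C} {S : Sieve T} (hS : S ∈ J T)
    {x y : F.obj.obj (op T)} (h : ∀ (V : C) (r : V ⟶ T), S r → F.obj.map r.op x = F.obj.map r.op y) : x = y :=
  (((isSheaf_iff_isSheaf_of_type _ _).1
    ((Presheaf.isSheaf_iff_isSheaf_forget _ F.obj (forget AddCommGrpCat.{u + 1})).1 F.property)) S hS).isSeparatedFor.ext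
      fun V r hr => h V r hr

theorem subsingleton_H1_kernel [HasSheafify J AddCommGrpCat.{u + 1}] [HasExt.{u + 1} (Sheaf J AddCommGrpCat.{u + 1})]
    {E : ShortComplex (Sheaf J AddCommGrpCat.{u + 1})} (hE : E.ShortExact) {T : C} (hT : IsTerminal T)
    (h2 : Subsingleton (Sheaf.H E.X₂ 1)) (hs : Function.Surjective (E.g.hom.app (op T))) :
    Subsingleton (Sheaf.H E.X₁ 1) := by
  refine subsingleton_of_forall_eq 0 fun z => ?_
  obtain ⟨y, rfl⟩ := Ext.covariant_sequence_exact₁ _ hE z (h2.elim _ _) (n₀ := 0) rfl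
  obtain ⟨t, ht⟩ := hs (Sheaf.H.equiv₀ _ hT y)
  have hy : y = Ext.comp ((Sheaf.H.equiv₀ _ hT).symm t) (Ext.mk₀ E.g) (add_zero 0) := by
    apply (Sheaf.H.equiv₀ E.X₃ hT).injective
    rw [← Sheaf.H.map_apply, ← Sheaf.H.equiv₀_naturality, AddEquiv.apply_symm_apply, ht]
  rw [hy, Ext.comp_assoc_of_second_deg_zero, hE.comp_extClass, Ext.comp_zero]

end Site

variable (G : Over X)

/-- The object of pairs of a point of the variable scheme and a point of `G`. -/
abbrev W (U : Over X) : Over X := (Over.map G.hom).obj ((Over.pullback G.hom).obj U)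

/-- The first projection. -/
def pr {U : Over X} : W G U ⟶ U := Over.homMk (pullback.fst U.hom G.hom) pullback.condition

/-- The second projection. -/
def τ {U : Over X} : W G U ⟶ G := Over.homMk (pullback.snd U.hom G.hom) rfl

variable {G}

/-- A pair of points. -/
def wl {T U : Over X} (r : T ⟶ U) (a : T ⟶ G) : T ⟶ W G U :=
  Over.homMk (pullback.lift r.left a.left ((Over.w r).trans (Over.w a).symm))
    (by
      show pullback.lift _ _ _ ≫ pullback.snd U.hom G.hom ≫ G.hom = T.hom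
      rw [pullback.lift_snd_assoc]
      exact Over.w a)

@[simp] theorem wl_pr {T U : Over X} (r : T ⟶ U) (a : T ⟶ G) : wl r a ≫ pr G = r :=
  Over.OverMorphism.ext (pullback.lift_fst _ _ _)

@[simp] theorem wl_τ {T U : Over X} (r : T ⟶ U) (a : T ⟶ G) : wl r a ≫ τ G = a :=
  Over.OverMorphism.ext (pullback.lift_snd _ _ _)

theorem wl_ext {T U : Over X} {x y : T ⟶ W G U} (h1 : x ≫ pr G = y ≫ pr G) (h2 : x ≫ τ G = y ≫ τ G) : x = y :=
  Over.OverMorphism.ext (pullback.hom_ext (congrArg CommaMorphism.left h1) (congrArg CommaMorphism.left h2))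

theorem comp_wl {T' T U : Over X} (s : T' ⟶ T) (r : T ⟶ U) (a : T ⟶ G) : s ≫ wl r a = wl (s ≫ r) (s ≫ a) :=
  wl_ext (by simp) (by simp)

theorem wl_eta {U : Over X} : wl (pr G) (τ G) = 𝟙 (W G U) := wl_ext (by simp) (by simp)

/-- Functoriality in the variable scheme. -/
abbrev Wf {U U' : Over X} (f : U' ⟶ U) : W G U' ⟶ W G U := (Over.map G.hom).map ((Over.pullback G.hom).map f)

theorem Wf_eq {U U' : Over X} (f : U' ⟶ U) : (Wf f : W G U' ⟶ W G U) = wl (pr G ≫ f) (τ G) :=
  wl_ext (Over.OverMorphism.ext (by simp [Wf, pr, wl, τ]))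
    (Over.OverMorphism.ext (by simp [Wf, pr, wl, τ]))

theorem wl_Wf {T U U' : Over X} (r : T ⟶ U') (a : T ⟶ G) (f : U' ⟶ U) : wl r a ≫ Wf f = wl (r ≫ f) a := by
  rw [Wf_eq, comp_wl, ← Category.assoc, wl_pr, wl_τ]

variable (F : BigSite.Ab Scheme.fppfPrecoverage X)

variable (G) in
/-- Functions on `G` with values in a sheaf. -/
abbrev Fn : BigSite.Ab Scheme.fppfPrecoverage X :=
  (BigSite.pushBig Scheme.fppfPrecoverage G.hom AddCommGrpCat.{u + 1}).obj
    ((BigSite.pullBig Scheme.fppfPrecoverage G.hom AddCommGrpCat.{u + 1}).obj F)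

variable {F}

/-- The value of a function at a point. -/
def val {U T : Over X} (f : (Fn G F).obj.obj (op U)) (r : T ⟶ U) (a : T ⟶ G) : F.obj.obj (op T) :=
  F.obj.map (wl r a).op f

theorem val_map {U U' T : Over X} (g : U' ⟶ U) (f : (Fn G F).obj.obj (op U)) (r : T ⟶ U') (a : T ⟶ G) :
    val ((Fn G F).obj.map g.op f) r a = val f (r ≫ g) a := by
  show F.obj.map (wl r a).op (F.obj.map (Wf g).op f) = _
  rw [map_map, wl_Wf]
  rfl

theorem val_add {U T : Over X} (f f' : (Fn G F).obj.obj (op U)) (r : T ⟶ U) (a : T ⟶ G) :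
    val (f + f') r a = val f r a + val f' r a := map_add (F.obj.map (wl r a).op).hom f f'

theorem val_sub {U T : Over X} (f f' : (Fn G F).obj.obj (op U)) (r : T ⟶ U) (a : T ⟶ G) :
    val (f - f') r a = val f r a - val f' r a := map_sub (F.obj.map (wl r a).op).hom f f'

theorem val_comp {U T T' : Over X} (f : (Fn G F).obj.obj (op U)) (r : T ⟶ U) (a : T ⟶ G) (s : T' ⟶ T) :
    F.obj.map s.op (val f r a) = val f (s ≫ r) (s ≫ a) := by
  rw [val, map_map, comp_wl]
  rfl

theorem val_eta {U : Over X} (f : (Fn G F).obj.obj (op U)) : val f (pr G) (τ G) = f := by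
  rw [val, wl_eta, map_id_apply]

/-- Precomposition. -/
def fnMap {G' : Over X} (h : G' ⟶ G) : Fn G F ⟶ Fn G' F :=
  ⟨{ app := fun U => F.obj.map (wl (pr G') (τ G' ≫ h) : W G' U.unop ⟶ W G U.unop).op
     naturality := fun U U' f => AddCommGrpCat.ext fun x => by
       show F.obj.map _ (F.obj.map (Wf f.unop).op x) = F.obj.map (Wf f.unop).op (F.obj.map _ x)
       refine (map_map F _ _ x).trans (Eq.trans ?_ (map_map F _ _ x).symm)
       refine congrArg (fun t : W G' U'.unop ⟶ W G U.unop => F.obj.map t.op x) ?_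
       rw [Wf_eq, Wf_eq, comp_wl, comp_wl]
       refine wl_ext ?_ ?_
       · rw [wl_pr, wl_pr, ← Category.assoc, wl_pr, wl_pr]
       · rw [wl_τ, wl_τ, wl_τ, ← Category.assoc, wl_τ] }⟩

theorem val_fnMap {G' : Over X} (h : G' ⟶ G) {U T : Over X} (f : (Fn G F).obj.obj (op U)) (r : T ⟶ U) (a : T ⟶ G') :
    val ((fnMap h).hom.app (op U) f) r a = val f r (a ≫ h) := by
  show F.obj.map (wl r a).op (F.obj.map (wl (pr G') (τ G' ≫ h)).op f) = _
  rw [map_map, comp_wl, wl_pr, ← Category.assoc, wl_τ]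
  rfl

variable (G) in
/-- Functoriality in the sheaf. -/
abbrev coef {F' : BigSite.Ab Scheme.fppfPrecoverage X} (φ : F ⟶ F') : Fn G F ⟶ Fn G F' :=
  (BigSite.pushBig Scheme.fppfPrecoverage G.hom AddCommGrpCat.{u + 1}).map
    ((BigSite.pullBig Scheme.fppfPrecoverage G.hom AddCommGrpCat.{u + 1}).map φ)

theorem val_coef {F' : BigSite.Ab Scheme.fppfPrecoverage X} (φ : F ⟶ F') {U T : Over X}
    (f : (Fn G F).obj.obj (op U)) (r : T ⟶ U) (a : T ⟶ G) :
    val ((coef G φ).hom.app (op U) f) r a = φ.hom.app (op T) (val f r a) :=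
  (NatTrans.naturality_apply φ.hom (wl r a).op f).symm

variable [GrpObj G] [IsCommMonObj G]

variable (G F) in
/-- The failure of additivity. -/
def dlt : Fn G F ⟶ Fn (G ⊗ G) F := fnMap (fst G G * snd G G) - fnMap (fst G G) - fnMap (snd G G)

theorem val_dlt {U T : Over X} (f : (Fn G F).obj.obj (op U)) (r : T ⟶ U) (a b : T ⟶ G) :
    val ((dlt G F).hom.app (op U) f) r (lift a b) = val f r (a * b) - val f r a - val f r b := by
  show val ((fnMap (fst G G * snd G G)).hom.app (op U) f - (fnMap (fst G G)).hom.app (op U) f -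
    (fnMap (snd G G)).hom.app (op U) f) r (lift a b) = _
  rw [val_sub, val_sub, val_fnMap, val_fnMap, val_fnMap, MonObj.comp_mul, lift_fst, lift_snd]

theorem val_dlt' {U T : Over X} (f : (Fn G F).obj.obj (op U)) (r : T ⟶ U) (c : T ⟶ G ⊗ G) :
    val ((dlt G F).hom.app (op U) f) r c =
      val f r ((c ≫ fst G G) * (c ≫ snd G G)) - val f r (c ≫ fst G G) - val f r (c ≫ snd G G) := by
  rw [← val_dlt, ← comp_lift, lift_fst_snd, Category.comp_id]

local notation "D" => CGrpSh2.dualSh Scheme.fppfPrecoverage (CGrpSh.pts Scheme.fppfPrecoverage G)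

variable (G) in
/-- A character as a function. -/
def evF : D ⟶ Fn G (CGrpSh2.Gm Scheme.fppfPrecoverage X) :=
  ⟨{ app := fun U => AddCommGrpCat.ofHom
      { toFun := fun φ => φ.hom.app (op (Over.mk (pr G (U := U.unop)))) (ULift.up (Additive.ofMul (τ G)))
        map_zero' := rfl
        map_add' := fun φ ψ => rfl }
     naturality := fun U U' f => AddCommGrpCat.ext fun φ => by
       refine (homSh_map_app f.unop φ (pr G) (ULift.up (Additive.ofMul (τ G)))).trans ?_
       refine Eq.trans ?_ (app_natural φ (pr G) (pr G (U := U'.unop) ≫ f.unop) (Wf f.unop)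
         (by rw [Wf_eq]; exact wl_pr _ _) (ULift.up (Additive.ofMul (τ G))))
       refine congrArg (φ.hom.app _) (ULift.ext _ _ (congrArg Additive.ofMul ?_))
       show τ G = Wf f.unop ≫ τ G
       rw [Wf_eq, wl_τ] }⟩

theorem pts_up_mul {T : Over X} (a b : T ⟶ G) :
    (ULift.up (Additive.ofMul (a * b)) : (CGrpSh.pts Scheme.fppfPrecoverage G).obj.obj (op T)) =
      ULift.up (Additive.ofMul a) + ULift.up (Additive.ofMul b) := rfl

theorem val_evF {U : Over X} (φ : (D).obj.obj (op U)) {T : Over X} (r : T ⟶ U) (a : T ⟶ G) :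
    val ((evF G).hom.app (op U) φ) r a = φ.hom.app (op (Over.mk r)) (ULift.up (Additive.ofMul a)) := by
  refine (app_natural φ (pr G (U := U)) r (wl r a) (wl_pr r a) (ULift.up (Additive.ofMul (τ G)))).symm.trans ?_
  refine congrArg (φ.hom.app _) (ULift.ext _ _ (congrArg Additive.ofMul ?_))
  exact wl_τ r a

theorem val_evF_mul {U : Over X} (φ : (D).obj.obj (op U)) {T : Over X} (r : T ⟶ U) (a b : T ⟶ G) :
    val ((evF G).hom.app (op U) φ) r (a * b) =
      val ((evF G).hom.app (op U) φ) r a + val ((evF G).hom.app (op U) φ) r b := by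
  rw [val_evF, val_evF, val_evF]
  exact (congrArg (φ.hom.app (op (Over.mk r))) (pts_up_mul a b)).trans (map_add (φ.hom.app (op (Over.mk r))).hom _ _)

theorem exists_evF_eq {U : Over X} (f : (Fn G (CGrpSh2.Gm Scheme.fppfPrecoverage X)).obj.obj (op U))
    (hf : ∀ {T : Over X} (r : T ⟶ U) (a b : T ⟶ G), val f r (a * b) = val f r a + val f r b) :
    ∃ φ, (evF G).hom.app (op U) φ = f := by
  let app : ∀ r : Over U, (CGrpSh.pts Scheme.fppfPrecoverage G).obj.obj (op r.left) →+
      (CGrpSh2.Gm Scheme.fppfPrecoverage X).obj.obj (op r.left) := fun r =>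
    AddMonoidHom.mk' (fun a => val f r.hom a.down.toMul) fun a b => hf r.hom a.down.toMul b.down.toMul
  refine ⟨⟨{ app := fun r => AddCommGrpCat.ofHom (app r.unop)
             naturality := fun r r' g => AddCommGrpCat.ext fun a => ?_ }⟩, ?_⟩
  · show val f r'.unop.hom (g.unop.left ≫ a.down.toMul) =
      (CGrpSh2.Gm Scheme.fppfPrecoverage X).obj.map g.unop.left.op (val f r.unop.hom a.down.toMul)
    rw [val_comp, Over.w g.unop]
  · show val f (pr G) (τ G) = f
    exact val_eta f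

/-- An `I`-valued symmetric cocycle on `G`. -/
structure Cocycle (I : BigSite.Ab Scheme.fppfPrecoverage X) (G : Over X) [GrpObj G] where
  K : ∀ T : Over X, (T ⟶ G) → (T ⟶ G) → I.obj.obj (op T)
  nat : ∀ {T T' : Over X} (s : T' ⟶ T) (a b : T ⟶ G), I.obj.map s.op (K T a b) = K T' (s ≫ a) (s ≫ b)
  symm : ∀ {T : Over X} (a b : T ⟶ G), K T a b = K T b a
  coc : ∀ {T : Over X} (a b d : T ⟶ G), K T b d + K T a (b * d) = K T (a * b) d + K T a b

variable {I : BigSite.Ab Scheme.fppfPrecoverage X} (κ : Cocycle I G)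

theorem Cocycle.one {T : Over X} (a : T ⟶ G) : κ.K T a 1 = κ.K T 1 1 := by
  have h := κ.coc a 1 1
  rw [_root_.one_mul, _root_.mul_one] at h
  exact (add_right_cancel h).symm

/-- The twisted product. -/
@[ext]
structure Ext₁ (κ : Cocycle I G) (T : Over X) : Type (u + 1) where
  x : I.obj.obj (op T)
  a : T ⟶ G

namespace Ext₁

variable {κ} {T : Over X}

instance : Add (Ext₁ κ T) := ⟨fun p q => ⟨p.x + q.x + κ.K T p.a q.a, p.a * q.a⟩⟩
instance : Zero (Ext₁ κ T) := ⟨⟨- κ.K T 1 1, 1⟩⟩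
instance : Neg (Ext₁ κ T) := ⟨fun p => ⟨- p.x - κ.K T p.a p.a⁻¹ - κ.K T 1 1, p.a⁻¹⟩⟩

@[simp] theorem add_x (p q : Ext₁ κ T) : (p + q).x = p.x + q.x + κ.K T p.a q.a := rfl
@[simp] theorem add_a (p q : Ext₁ κ T) : (p + q).a = p.a * q.a := rfl
@[simp] theorem zero_x : (0 : Ext₁ κ T).x = - κ.K T 1 1 := rfl
@[simp] theorem zero_a : (0 : Ext₁ κ T).a = 1 := rfl
@[simp] theorem neg_x (p : Ext₁ κ T) : (-p).x = - p.x - κ.K T p.a p.a⁻¹ - κ.K T 1 1 := rfl
@[simp] theorem neg_a (p : Ext₁ κ T) : (-p).a = p.a⁻¹ := rfl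

theorem assoc (p q r : Ext₁ κ T) : p + q + r = p + (q + r) := by
  ext1
  · simp only [add_x, add_a]
    calc p.x + q.x + κ.K T p.a q.a + r.x + κ.K T (p.a * q.a) r.a
        = p.x + q.x + r.x + (κ.K T (p.a * q.a) r.a + κ.K T p.a q.a) := by abel
      _ = p.x + q.x + r.x + (κ.K T q.a r.a + κ.K T p.a (q.a * r.a)) := by rw [κ.coc]
      _ = _ := by abel
  · exact _root_.mul_assoc _ _ _

theorem comm (p q : Ext₁ κ T) : p + q = q + p := by
  ext1
  · simp only [add_x]; rw [κ.symm q.a p.a]; abel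
  · exact _root_.mul_comm _ _

theorem zero_add' (p : Ext₁ κ T) : 0 + p = p := by
  ext1
  · simp only [add_x, zero_x, zero_a]; rw [κ.symm 1 p.a, κ.one p.a]; abel
  · exact _root_.one_mul _

theorem neg_add' (p : Ext₁ κ T) : -p + p = 0 := by
  ext1
  · simp only [add_x, neg_x, neg_a, zero_x]; rw [κ.symm p.a⁻¹ p.a]; abel
  · simp only [add_a, neg_a, zero_a]; exact _root_.inv_mul_cancel _

instance : AddCommGroup (Ext₁ κ T) :=
  { add_assoc := assoc
    zero_add := zero_add'
    add_zero := fun p => (comm p 0).trans (zero_add' p)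
    nsmul := nsmulRec
    zsmul := zsmulRec
    neg_add_cancel := neg_add'
    add_comm := comm }

/-- Restriction. -/
def res {T' : Over X} (s : T' ⟶ T) : Ext₁ κ T →+ Ext₁ κ T' :=
  AddMonoidHom.mk' (fun p => ⟨I.obj.map s.op p.x, s ≫ p.a⟩) fun p q => by
    ext1
    · simp only [add_x]
      rw [map_add, map_add, κ.nat]
    · exact MonObj.comp_mul _ _ _

@[simp] theorem res_x {T' : Over X} (s : T' ⟶ T) (p : Ext₁ κ T) : (res s p).x = I.obj.map s.op p.x := rfl
@[simp] theorem res_a {T' : Over X} (s : T' ⟶ T) (p : Ext₁ κ T) : (res s p).a = s ≫ p.a := rfl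

end Ext₁

/-- The twisted product presheaf. -/
def extPre : (Over X)ᵒᵖ ⥤ AddCommGrpCat.{u + 1} where
  obj T := AddCommGrpCat.of (Ext₁ κ T.unop)
  map s := AddCommGrpCat.ofHom (Ext₁.res s.unop)
  map_id T := AddCommGrpCat.ext fun p => by
    refine Ext₁.ext ?_ ?_
    · exact map_id_apply I p.x
    · exact Category.id_comp _
  map_comp s t := AddCommGrpCat.ext fun p => by
    refine Ext₁.ext ?_ ?_
    · exact (map_map I s.unop t.unop p.x).symm
    · exact Category.assoc _ _ _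

theorem isSheaf_extPre : Presheaf.IsSheaf (QuotSh.J Scheme.fppfPrecoverage X) (extPre κ) := by
  rw [Presheaf.isSheaf_iff_isSheaf_forget _ _ (forget AddCommGrpCat.{u + 1}), isSheaf_iff_isSheaf_of_type]
  intro T S hS x hx
  have hI := ((isSheaf_iff_isSheaf_of_type _ _).1
    ((Presheaf.isSheaf_iff_isSheaf_forget _ I.obj (forget AddCommGrpCat.{u + 1})).1 I.property)) S hS
  have hP := ((isSheaf_iff_isSheaf_of_type _ _).1
    ((Presheaf.isSheaf_iff_isSheaf_forget _ (CGrpSh.pts Scheme.fppfPrecoverage G).obj (forget AddCommGrpCat.{u + 1})).1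
      (CGrpSh.pts Scheme.fppfPrecoverage G).property)) S hS
  let x1 : Presieve.FamilyOfElements (I.obj ⋙ forget AddCommGrpCat.{u + 1}) S.arrows := fun V r hr => (x r hr).x
  let x2 : Presieve.FamilyOfElements ((CGrpSh.pts Scheme.fppfPrecoverage G).obj ⋙ forget AddCommGrpCat.{u + 1}) S.arrows :=
    fun V r hr => ULift.up (Additive.ofMul (x r hr).a)
  have h1 : x1.Compatible := fun V₁ V₂ Z g₁ g₂ r₁ r₂ hr₁ hr₂ e => congrArg Ext₁.x (hx g₁ g₂ hr₁ hr₂ e)
  have h2 : x2.Compatible := fun V₁ V₂ Z g₁ g₂ r₁ r₂ hr₁ hr₂ e =>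
    congrArg (fun p : Ext₁ κ Z => (ULift.up (Additive.ofMul p.a) : (CGrpSh.pts Scheme.fppfPrecoverage G).obj.obj (op Z)))
      (hx g₁ g₂ hr₁ hr₂ e)
  obtain ⟨t1, ht1, hu1⟩ := hI x1 h1
  obtain ⟨t2, ht2, hu2⟩ := hP x2 h2
  refine ⟨(⟨t1, (ULift.down t2).toMul⟩ : Ext₁ κ T), fun V r hr => ?_, fun y hy => ?_⟩
  · exact Ext₁.ext (ht1 r hr) (congrArg (fun z : (CGrpSh.pts Scheme.fppfPrecoverage G).obj.obj (op V) => z.down.toMul) (ht2 r hr))
  · refine Ext₁.ext (hu1 _ fun V r hr => congrArg Ext₁.x (hy r hr)) ?_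
    exact congrArg (fun z : (CGrpSh.pts Scheme.fppfPrecoverage G).obj.obj (op T) => z.down.toMul)
      (hu2 (ULift.up (Additive.ofMul (show Ext₁ κ T from y).a)) fun V r hr =>
        congrArg (fun p : Ext₁ κ V => (ULift.up (Additive.ofMul p.a) : (CGrpSh.pts Scheme.fppfPrecoverage G).obj.obj (op V)))
          (hy r hr))

/-- An injective sheaf splits symmetric cocycles. -/
theorem exists_splitting [Injective I] :
    ∃ f : ∀ T : Over X, (T ⟶ G) → I.obj.obj (op T),
      (∀ {T T' : Over X} (s : T' ⟶ T) (a : T ⟶ G), I.obj.map s.op (f T a) = f T' (s ≫ a)) ∧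
        ∀ {T : Over X} (a b : T ⟶ G), κ.K T a b = f T (a * b) - f T a - f T b := by
  let E : BigSite.Ab Scheme.fppfPrecoverage X := ⟨extPre κ, isSheaf_extPre κ⟩
  let j : I ⟶ E := ⟨{
    app := fun T => AddCommGrpCat.ofHom (AddMonoidHom.mk'
      (fun x => (⟨x - κ.K T.unop 1 1, 1⟩ : Ext₁ κ T.unop)) fun x y => by
        ext1
        · simp only [Ext₁.add_x]; abel
        · exact (_root_.one_mul _).symm)
    naturality := fun T T' s => AddCommGrpCat.ext fun x => by
      refine Ext₁.ext ?_ ?_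
      · show I.obj.map s x - κ.K T'.unop 1 1 = I.obj.map s (x - κ.K T.unop 1 1)
        rw [map_sub]
        have h := κ.nat s.unop (1 : T.unop ⟶ G) 1
        rw [MonObj.comp_one] at h
        exact congrArg _ h.symm
      · exact (MonObj.comp_one _).symm }⟩
  haveI : ∀ T, Mono (j.hom.app T) := fun T => (AddCommGrpCat.mono_iff_injective _).2 fun x y h => by
    have h' : x - κ.K T.unop 1 1 = y - κ.K T.unop 1 1 := congrArg Ext₁.x h
    exact sub_left_inj.1 h'
  haveI : Mono j.hom := NatTrans.mono_of_mono_app _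
  haveI : Mono j := (sheafToPresheaf _ _).mono_of_mono_map this
  let σ : E ⟶ I := Injective.factorThru (𝟙 I) j
  have hσ : ∀ (T : Over X) (x : I.obj.obj (op T)),
      σ.hom.app (op T) (⟨x - κ.K T 1 1, 1⟩ : Ext₁ κ T) = x := fun T x =>
    ConcreteCategory.congr_hom (congrArg (fun q : I ⟶ I => q.hom.app (op T)) (Injective.comp_factorThru (𝟙 I) j)) x
  refine ⟨fun T a => - σ.hom.app (op T) (⟨0, a⟩ : Ext₁ κ T), fun {T T'} s a => ?_, fun {T} a b => ?_⟩
  · rw [map_neg]
    refine congrArg Neg.neg ((NatTrans.naturality_apply σ.hom s.op _).symm.trans (congrArg _ ?_))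
    exact Ext₁.ext (map_zero (I.obj.map s.op).hom) rfl
  · have e : (⟨0, a⟩ : Ext₁ κ T) + ⟨0, b⟩ = ⟨0, a * b⟩ + ⟨κ.K T a b - κ.K T 1 1, 1⟩ := by
      ext1
      · simp only [Ext₁.add_x]; rw [κ.one (a * b)]; abel
      · exact (_root_.mul_one _).symm
    let p : E.obj.obj (op T) := (⟨0, a⟩ : Ext₁ κ T)
    let q : E.obj.obj (op T) := (⟨0, b⟩ : Ext₁ κ T)
    let p' : E.obj.obj (op T) := (⟨0, a * b⟩ : Ext₁ κ T)
    let q' : E.obj.obj (op T) := (⟨κ.K T a b - κ.K T 1 1, 1⟩ : Ext₁ κ T)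
    have h : σ.hom.app (op T) (p + q) = σ.hom.app (op T) (p' + q') := congrArg (σ.hom.app (op T)) e
    have h' : σ.hom.app (op T) p + σ.hom.app (op T) q = σ.hom.app (op T) p' + κ.K T a b :=
      ((map_add (σ.hom.app (op T)).hom p q).symm.trans h).trans
        ((map_add (σ.hom.app (op T)).hom p' q').trans (congrArg (fun t => σ.hom.app (op T) p' + t) (hσ T (κ.K T a b))))
    show κ.K T a b = - σ.hom.app (op T) p' - - σ.hom.app (op T) p - - σ.hom.app (op T) q
    rw [sub_neg_eq_add, sub_neg_eq_add, add_assoc, h', ← add_assoc, neg_add_cancel, zero_add]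

end Groth.Agent.GaExt23.HX
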