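import Groth.Agent.Lib.GaExt23.HExt

/-!
# `H¹(X, Ĝ) = 0` when `Ext¹(G, Gm) = 0`
-/

set_option autoImplicit false
set_option linter.style.haveILetI false
set_option maxHeartbeats 1600000
set_option backward.isDefEq.respectTransparency false
set_option backward.isDefEq.respectTransparency.types false
universe u

open CategoryTheory CategoryTheory.Limits MonoidalCategory CartesianMonoidalCategory MonObj AlgebraicGeometry Opposite Abelian

noncomputable section

namespace Groth.Agent.GaExt23.HX

variable {X : Scheme.{u}} (G : Over X) [GrpObj G] [IsCommMonObj G]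

theorem mono_evF_coef {I : BigSite.Ab Scheme.fppfPrecoverage X} (i : CGrpSh2.Gm Scheme.fppfPrecoverage X ⟶ I) [Mono i] :
    Mono (evF G ≫ coef G i) := by
  haveI : ∀ V, Mono ((evF G ≫ coef G i).hom.app V) := fun V => (AddCommGrpCat.mono_iff_injective _).2 fun φ ψ h => by
    obtain ⟨U⟩ := V
    refine Sheaf.hom_ext (NatTrans.ext (funext fun r => AddCommGrpCat.ext fun a => ?_))
    refine (val_evF φ r.unop.hom a.down.toMul).symm.trans (Eq.trans ?_ (val_evF ψ r.unop.hom a.down.toMul))
    haveI : Mono (((sheafToPresheaf _ _) ⋙ (evaluation _ _).obj (op r.unop.left)).map i) := inferInstance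
    refine (AddCommGrpCat.mono_iff_injective _).1 this ?_
    show i.hom.app _ _ = i.hom.app _ _
    rw [← val_coef, ← val_coef]
    exact congrArg (fun t => val t r.unop.hom a.down.toMul) h
  haveI : Mono (evF G ≫ coef G i).hom := NatTrans.mono_of_mono_app _
  exact (sheafToPresheaf _ _).mono_of_mono_map this

theorem subsingleton_H1_dualSh_of_ext
    (hExt : Subsingleton (Ext (CGrpSh.pts Scheme.fppfPrecoverage G) (CGrpSh2.Gm Scheme.fppfPrecoverage X) 1)) :
    Subsingleton (BigSite.H Scheme.fppfPrecoverage X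
      (CGrpSh2.dualSh Scheme.fppfPrecoverage (CGrpSh.pts Scheme.fppfPrecoverage G)) 1) := by
  obtain ⟨I, Q, i, π, w, hI, hS⟩ := SiteCoh.exists_inj_seq (CGrpSh2.Gm Scheme.fppfPrecoverage X)
  haveI := hI
  haveI := hS.mono_f
  haveI : Mono i := hS.mono_f
  haveI := mono_evF_coef G i
  let em := evF G ≫ coef G i
  let E := ShortComplex.mk em (cokernel.π em) (cokernel.condition _)
  have hE : E.ShortExact := ShortComplex.ShortExact.mk' (ShortComplex.exact_cokernel _) inferInstance inferInstance
  haveI : Injective ((BigSite.pullBig Scheme.fppfPrecoverage G.hom AddCommGrpCat.{u + 1}).obj I) :=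
    BigSite16.injective_pullBig G.hom Scheme.fppfPrecoverage I
  haveI : Injective (Fn G I) := Injective.injective_of_adjoint (BigSite.bigAdj Scheme.fppfPrecoverage G.hom AddCommGrpCat.{u + 1}) _
  refine subsingleton_H1_kernel (E := E) hE (Over.mkIdTerminal) inferInstance fun k => ?_
  let pX : Over X := Over.mk (𝟙 X)
  let toX : ∀ T : Over X, T ⟶ pX := fun T => Over.mkIdTerminal.from T
  have hem : ∀ {U : Over X} (φ) {T : Over X} (r : T ⟶ U) (a : T ⟶ G),
      val (em.hom.app (op U) φ) r a = i.hom.app (op T) (val ((evF G).hom.app (op U) φ) r a) := fun φ _ r a =>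
    val_coef i _ r a
  have hdem : em ≫ dlt G I = 0 := by
    refine Sheaf.hom_ext (NatTrans.ext (funext fun V => AddCommGrpCat.ext fun φ => ?_))
    obtain ⟨U⟩ := V
    show (dlt G I).hom.app (op U) (em.hom.app (op U) φ) = 0
    rw [← val_eta ((dlt G I).hom.app (op U) (em.hom.app (op U) φ)), val_dlt', hem, hem, hem, val_evF_mul, map_add]
    abel
  have hqem : em ≫ coef G π = 0 := by
    have hc : coef G i ≫ coef G π = 0 := by
      rw [← Functor.map_comp, ← Functor.map_comp, w, Functor.map_zero, Functor.map_zero]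
    rw [show em = evF G ≫ coef G i from rfl, Category.assoc, hc, comp_zero]
  let db : cokernel em ⟶ Fn (G ⊗ G) I := cokernel.desc em (dlt G I) hdem
  let qb : cokernel em ⟶ Fn G Q := cokernel.desc em (coef G π) hqem
  have hdb : ∀ (V : Over X) (f : (Fn G I).obj.obj (op V)),
      db.hom.app (op V) ((cokernel.π em).hom.app (op V) f) = (dlt G I).hom.app (op V) f := fun V f => by
    rw [← ConcreteCategory.comp_apply, ← NatTrans.comp_app, ← ObjectProperty.FullSubcategory.comp_hom, cokernel.π_desc]
  have hqb : ∀ (V : Over X) (f : (Fn G I).obj.obj (op V)),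
      qb.hom.app (op V) ((cokernel.π em).hom.app (op V) f) = (coef G π).hom.app (op V) f := fun V f => by
    rw [← ConcreteCategory.comp_apply, ← NatTrans.comp_app, ← ObjectProperty.FullSubcategory.comp_hom, cokernel.π_desc]
  haveI : Sheaf.IsLocallySurjective (cokernel.π em) := (Sheaf.isLocallySurjective_iff_epi' _ _).2 inferInstance
  have cover : ∀ (l : (cokernel em).obj.obj (op pX)) (T : Over X), ∃ S ∈ QuotSh.J Scheme.fppfPrecoverage X T,
      ∀ (V : Over X) (s : V ⟶ T), S.arrows s → ∃ f : (Fn G I).obj.obj (op V),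
        (cokernel.π em).hom.app (op V) f = (cokernel em).obj.map (toX V).op l := fun l T =>
    ⟨_, Presheaf.imageSieve_mem _ (cokernel.π em).hom (U := op T) ((cokernel em).obj.map (toX T).op l), fun V s hs => by
      obtain ⟨f, hf⟩ := hs
      refine ⟨f, hf.trans ?_⟩
      rw [map_map]
      exact congrArg (fun t : V ⟶ pX => (cokernel em).obj.map t.op l) (Over.mkIdTerminal.hom_ext _ _)⟩
  have nat_db : ∀ (l : (cokernel em).obj.obj (op pX)) {V : Over X} (f : (Fn G I).obj.obj (op V)),
      (cokernel.π em).hom.app (op V) f = (cokernel em).obj.map (toX V).op l →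
      ∀ (a b : V ⟶ G), val (db.hom.app (op pX) l) (toX V) (lift a b) =
        val f (𝟙 V) (a * b) - val f (𝟙 V) a - val f (𝟙 V) b := fun l V f hf a b => by
    rw [← val_dlt, ← hdb, hf, NatTrans.naturality_apply db.hom, val_map, Category.id_comp]
  -- the cocycle
  let κ : Cocycle I G :=
    { K := fun T a b => val (db.hom.app (op pX) k) (toX T) (lift a b)
      nat := fun {T T'} s a b => by
        rw [val_comp, comp_lift, show s ≫ toX T = toX T' from Over.mkIdTerminal.hom_ext _ _]
      symm := fun {T} a b => by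
        obtain ⟨S, hS', hf⟩ := cover k T
        refine eq_of_cover I hS' fun V s hs => ?_
        obtain ⟨f, hf⟩ := hf V s hs
        rw [val_comp, val_comp, comp_lift, comp_lift, show s ≫ toX T = toX V from Over.mkIdTerminal.hom_ext _ _,
          nat_db k f hf, nat_db k f hf, _root_.mul_comm (s ≫ b)]
        abel
      coc := fun {T} a b d => by
        obtain ⟨S, hS', hf⟩ := cover k T
        refine eq_of_cover I hS' fun V s hs => ?_
        obtain ⟨f, hf⟩ := hf V s hs
        rw [map_add, map_add, val_comp, val_comp, val_comp, val_comp, comp_lift, comp_lift, comp_lift, comp_lift,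
          show s ≫ toX T = toX V from Over.mkIdTerminal.hom_ext _ _,
          nat_db k f hf, nat_db k f hf, nat_db k f hf, nat_db k f hf, MonObj.comp_mul, MonObj.comp_mul,
          _root_.mul_assoc (s ≫ a)]
        abel }
  obtain ⟨f₀, hf₀n, hf₀⟩ := exists_splitting κ
  let F₀ : (Fn G I).obj.obj (op pX) := f₀ (W G pX) (τ G)
  have hF₀ : ∀ {T : Over X} (r : T ⟶ pX) (a : T ⟶ G), val F₀ r a = f₀ T a := fun r a => by
    show I.obj.map (wl r a).op (f₀ _ (τ G)) = _
    rw [hf₀n, wl_τ]
  let k' := k - (cokernel.π em).hom.app (op pX) F₀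
  have hdk : db.hom.app (op pX) k' = 0 := by
    rw [map_sub, hdb, sub_eq_zero, ← val_eta ((dlt G I).hom.app (op pX) F₀), val_dlt', hF₀, hF₀, hF₀, ← hf₀]
    show _ = val (db.hom.app (op pX) k) (toX (W (G ⊗ G) pX)) (lift (τ (G ⊗ G) ≫ fst G G) (τ (G ⊗ G) ≫ snd G G))
    rw [← comp_lift, lift_fst_snd, Category.comp_id,
      show toX _ = pr (G ⊗ G) from Over.mkIdTerminal.hom_ext _ _, val_eta]
  let gval : ∀ T : Over X, (T ⟶ G) → Q.obj.obj (op T) := fun T a => val (qb.hom.app (op pX) k') (toX T) a
  have gnat : ∀ {T T' : Over X} (s : T' ⟶ T) (a : T ⟶ G), Q.obj.map s.op (gval T a) = gval T' (s ≫ a) := fun {T T'} s a => by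
    show Q.obj.map _ (val _ _ _) = val _ _ _
    rw [val_comp, show s ≫ toX T = toX T' from Over.mkIdTerminal.hom_ext _ _]
  have nat_qb : ∀ (l : (cokernel em).obj.obj (op pX)) {V : Over X} (f : (Fn G I).obj.obj (op V)),
      (cokernel.π em).hom.app (op V) f = (cokernel em).obj.map (toX V).op l →
      ∀ (a : V ⟶ G), val (qb.hom.app (op pX) l) (toX V) a = π.hom.app (op V) (val f (𝟙 V) a) := fun l V f hf a => by
    rw [← val_coef, ← hqb, hf, NatTrans.naturality_apply qb.hom, val_map, Category.id_comp]
  have loc0 : ∀ (l : (cokernel em).obj.obj (op pX)), db.hom.app (op pX) l = 0 → ∀ {V : Over X}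
      (f : (Fn G I).obj.obj (op V)), (cokernel.π em).hom.app (op V) f = (cokernel em).obj.map (toX V).op l →
      ∀ {T : Over X} (r : T ⟶ V) (a b : T ⟶ G), val f r (a * b) = val f r a + val f r b := fun l hl {V} f hf {T} r a b => by
    have h0 : (dlt G I).hom.app (op V) f = 0 := by
      rw [← hdb, hf, NatTrans.naturality_apply db.hom, hl, map_zero]
    have h := congrArg (fun t => val t r (lift a b)) h0
    simp only [val_dlt] at h
    rw [show val (0 : (Fn (G ⊗ G) I).obj.obj (op V)) r (lift a b) = 0 from map_zero (I.obj.map (wl r (lift a b)).op).hom,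
      sub_sub, sub_eq_zero] at h
    exact h
  have gadd : ∀ {T : Over X} (a b : T ⟶ G), gval T (a * b) = gval T a + gval T b := fun {T} a b => by
    obtain ⟨S, hS', hf⟩ := cover k' T
    refine eq_of_cover Q hS' fun V s hs => ?_
    obtain ⟨f, hf⟩ := hf V s hs
    rw [map_add, gnat, gnat, gnat, MonObj.comp_mul]
    show val _ _ _ = val _ _ _ + val _ _ _
    rw [nat_qb k' f hf, nat_qb k' f hf, nat_qb k' f hf, ← map_add, loc0 k' hdk f hf]
  let g : CGrpSh.pts Scheme.fppfPrecoverage G ⟶ Q :=
    ⟨{ app := fun T => AddCommGrpCat.ofHom (AddMonoidHom.mk' (fun z => gval T.unop z.down.toMul)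
         fun a b => gadd a.down.toMul b.down.toMul)
       naturality := fun T T' s => AddCommGrpCat.ext fun z => (gnat s.unop z.down.toMul).symm }⟩
  obtain ⟨l, hl⟩ := SiteCoh.exists_lift_of_ext _ hS hExt g
  let F₁ : (Fn G I).obj.obj (op pX) := l.hom.app (op (W G pX)) (ULift.up (Additive.ofMul (τ G)))
  have hF₁ : ∀ {T : Over X} (r : T ⟶ pX) (a : T ⟶ G), val F₁ r a = l.hom.app (op T) (ULift.up (Additive.ofMul a)) :=
    fun r a => by
      refine (NatTrans.naturality_apply l.hom (wl r a).op _).symm.trans (congrArg _ (ULift.ext _ _ ?_))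
      exact congrArg Additive.ofMul (wl_τ r a)
  let k'' := k' - (cokernel.π em).hom.app (op pX) F₁
  have hdk'' : db.hom.app (op pX) k'' = 0 := by
    rw [map_sub, hdk, hdb, zero_sub, neg_eq_zero, ← val_eta ((dlt G I).hom.app (op pX) F₁), val_dlt', hF₁, hF₁, hF₁,
      pts_up_mul, map_add]
    abel
  have hqk'' : qb.hom.app (op pX) k'' = 0 := by
    rw [map_sub, hqb, sub_eq_zero, ← val_eta (qb.hom.app (op pX) k'), ← val_eta ((coef G π).hom.app (op pX) F₁),
      val_coef, hF₁, show π.hom.app (op (W G pX)) (l.hom.app _ _) = g.hom.app (op (W G pX)) (ULift.up (Additive.ofMul (τ G))) from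
        ConcreteCategory.congr_hom (congrArg (fun q : _ ⟶ Q => q.hom.app (op (W G pX))) hl) _]
    show _ = val _ (toX _) (τ G)
    rw [show toX (W G pX) = pr G from Over.mkIdTerminal.hom_ext _ _]
  refine ⟨F₀ + F₁, ?_⟩
  show (cokernel.π em).hom.app (op pX) (F₀ + F₁) = k
  suffices hk : k'' = 0 by
    rw [map_add]
    have := hk
    simp only [k'', k'] at this
    linear_combination (norm := abel) -this
  obtain ⟨S, hS', hf⟩ := cover k'' pX
  refine eq_of_cover (cokernel em) hS' fun V s hs => ?_
  obtain ⟨f, hf⟩ := hf V s hs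
  rw [show s = toX V from Over.mkIdTerminal.hom_ext _ _, map_zero, ← hf]
  obtain ⟨m, hm⟩ := AdeqA.exists_app_f hS (op (W G V)) f (by
    exact (hqb V f).symm.trans ((congrArg (qb.hom.app (op V)) hf).trans
      ((NatTrans.naturality_apply qb.hom (toX V).op k'').trans
        ((congrArg ((Fn G Q).obj.map (toX V).op) hqk'').trans (map_zero ((Fn G Q).obj.map (toX V).op).hom)))))
  change i.hom.app _ m = f at hm
  let M : (Fn G (CGrpSh2.Gm Scheme.fppfPrecoverage X)).obj.obj (op V) := m
  have hM : (coef G i).hom.app (op V) M = f := hm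
  obtain ⟨φ, hφ⟩ := exists_evF_eq M fun {T} r a b => AdeqA.injective_app_f hS (op T) (by
    show i.hom.app _ _ = i.hom.app _ _
    rw [map_add, ← val_coef, ← val_coef, ← val_coef, hM]
    exact loc0 k'' hdk'' f hf r a b)
  have he : f = em.hom.app (op V) φ := hM.symm.trans (congrArg ((coef G i).hom.app (op V)) hφ.symm)
  rw [he]
  exact ConcreteCategory.congr_hom (congrArg (fun t : _ ⟶ cokernel em => t.hom.app (op V)) (cokernel.condition em)) φ

end Groth.Agent.GaExt23.HX
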