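import Groth.Agent.Lib.GaExt23.Const
import Groth.Agent.Lib.SmoothDesc24.Gm
import Groth.Agent.Lib.SmoothDesc24.Main
import Groth.Agent.Lib.BigSite16.Res
import Groth.Agent.Lib.SiteCoh.Shift
import Groth.Agent.Lib.AdeqA.Cartan
import Groth.Agent.S0236
import Groth.Prelude.Def_CGrpSh2
import Groth.Prelude.Def_GmPts2

/-!
# Lifting along epimorphisms with kernel the multiplicative group; `Ext¹(Ga, Gm) = 0`
-/

set_option autoImplicit false
set_option linter.style.haveILetI false
set_option maxHeartbeats 800000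
set_option backward.isDefEq.respectTransparency false
set_option backward.isDefEq.respectTransparency.types false
universe u

open CategoryTheory CategoryTheory.Limits MonoidalCategory CartesianMonoidalCategory MonObj AlgebraicGeometry Opposite Abelian

noncomputable section

namespace Groth.Agent.GaExt23

theorem coverPreserving_a (X : Scheme.{u}) :
    CoverPreserving X.smallEtaleTopology (EtFppf.J X) (EtFppf.a X) := by
  constructor
  intro U S hS
  have eX : X.smallEtaleTopology =
      (X.smallPretopology (P := EtCoh.etaleMP) (Q := EtCoh.etaleMP)).toGrothendieck :=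
    Scheme.smallGrothendieckTopology_eq_toGrothendieck_smallPretopology X le_rfl
  rw [eX] at hS
  choose V g v hg he hv using (Scheme.mem_toGrothendieck_smallPretopology U S).1 hS
  refine GrothendieckTopology.superset_covering _ (S := Sieve.ofArrows (fun x => (EtFppf.a X).obj (V x))
    (fun x => (EtFppf.a X).map (g x))) ?_ ?_
  · rw [Sieve.generate_le_iff, Presieve.ofArrows_le_iff]
    exact fun x ↦ Sieve.image_mem_functorPushforward _ _ (hg x)
  · rw [GrothendieckTopology.mem_over_iff, Sieve.overEquiv_ofArrows]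
    refine Precoverage.generate_mem_toGrothendieck ((Scheme.ofArrows_mem_precoverage_iff _).2
      ⟨fun x => ⟨x, v x, hv x⟩, fun x => ?_⟩)
    haveI : Etale (g x).left := he x
    exact ⟨show Flat (g x).left from inferInstance, show LocallyOfFinitePresentation (g x).left from inferInstance⟩

theorem aCont (X : Scheme.{u}) : EtFppf.ACont X := by
  haveI : RepresentablyFlat (EtFppf.a X) := flat_of_preservesFiniteLimits _
  exact Functor.isContinuous_of_coverPreserving (compatiblePreservingOfFlat _ _) (coverPreserving_a X)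

variable {X : Scheme.{u}}

/-- Sections lift over a final object when `H¹` of the kernel vanishes. -/
theorem surjective_terminal {C : Type*} [Category C] {J : GrothendieckTopology C}
    [HasSheafify J AddCommGrpCat.{u + 1}] [HasExt.{u + 1} (Sheaf J AddCommGrpCat.{u + 1})]
    {E : ShortComplex (Sheaf J AddCommGrpCat.{u + 1})} (hE : E.ShortExact) {T : C} (hT : IsTerminal T)
    (h1 : Subsingleton (Sheaf.H E.X₁ 1)) : Function.Surjective (E.g.hom.app (op T)) := fun s => by
  obtain ⟨y, hy⟩ := Ext.covariant_sequence_exact₃ _ hE ((Sheaf.H.equiv₀ _ hT).symm s) (n₁ := 1) rfl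
    (h1.elim _ _)
  refine ⟨Sheaf.H.equiv₀ E.X₂ hT y, ?_⟩
  rw [Sheaf.H.equiv₀_naturality (hT := hT) (f := E.g), Sheaf.H.map_apply, hy]
  exact AddEquiv.apply_symm_apply _ _

/-- The restriction of the multiplicative group is the multiplicative group. -/
def resGmIso {T : Scheme.{u}} (f : T ⟶ X) :
    (BigSite.pullBig Scheme.fppfPrecoverage f AddCommGrpCat.{u + 1}).obj (CGrpSh2.Gm Scheme.fppfPrecoverage X) ≅
      EtDl.GmF T :=
  (sheafToPresheaf _ _).preimageIso (Functor.isoWhiskerLeft (Over.map f).op (GmPts.ptsUnitsPreIso X))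

/-- Sections lift along epimorphisms with kernel `Gm` over schemes with trivial Picard group. -/
theorem surjective_sections_of_pic {C : ShortComplex (BigSite.Ab Scheme.fppfPrecoverage X)} (hC : C.ShortExact)
    (e : C.X₁ ≅ CGrpSh2.Gm Scheme.fppfPrecoverage X) (V : Over X)
    (hPic : ∀ L : V.left.Modules, PicF.IsInvertible L → Nonempty (L ≅ Coh.structureModule V.left)) :
    Function.Surjective (C.g.hom.app (op V)) := by
  let T := V.left
  haveI := aCont T
  let P := BigSite.pullBig Scheme.fppfPrecoverage V.hom AddCommGrpCat.{u + 1}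
  have hC' : (C.map P).ShortExact := hC.map_of_exact P
  obtain ⟨h⟩ := SmoothDesc24.nonempty_H_equiv _ (SmoothDesc24.acyc_GmF T) 1
  haveI : Subsingleton (EtCoh.H T ((EtFppf.aPush T).obj (EtDl.GmF T)) 1) := (S0236.result T).2 hPic
  haveI : Subsingleton (Sheaf.H (EtDl.GmF T) 1) := h.symm.toEquiv.subsingleton
  haveI : Subsingleton (Sheaf.H (C.map P).X₁ 1) := by
    refine subsingleton_of_forall_eq 0 fun z => ?_
    let i : (C.map P).X₁ ≅ EtDl.GmF T := P.mapIso e ≪≫ resGmIso V.hom
    have key : (z.comp (Ext.mk₀ i.hom) (add_zero _)).comp (Ext.mk₀ i.inv) (add_zero _) = z := by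
      rw [Ext.comp_assoc_of_third_deg_zero, Ext.mk₀_comp_mk₀, i.hom_inv_id, Ext.comp_mk₀_id]
    rw [← key, Subsingleton.elim (α := Sheaf.H (EtDl.GmF T) 1) (Ext.comp z (Ext.mk₀ i.hom) (add_zero _)) 0, Ext.zero_comp]
  have hT : IsTerminal (Over.mk (𝟙 T)) := Over.mkIdTerminal
  intro s
  let j : (Over.map V.hom).obj (Over.mk (𝟙 T)) ≅ V := Over.isoMk (Iso.refl _)
  obtain ⟨t, ht⟩ := surjective_terminal hC' hT inferInstance (C.X₃.obj.map j.hom.op s)
  change C.g.hom.app (op ((Over.map V.hom).obj (Over.mk (𝟙 T)))) t = _ at ht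
  refine ⟨C.X₂.obj.map j.inv.op t, ?_⟩
  rw [NatTrans.naturality_apply C.g.hom, ht, ← ConcreteCategory.comp_apply, ← Functor.map_comp, ← op_comp,
    j.inv_hom_id, op_id, CategoryTheory.Functor.map_id]
  rfl

/-- `Ext¹(Ga, Gm) = 0` over a reduced scheme when sections over the line lift along quotients by `Gm`. -/
theorem subsingleton_ext_one_of_lift [IsReduced X]
    (hlift : ∀ {C : ShortComplex (BigSite.Ab Scheme.fppfPrecoverage X)}, C.ShortExact →
      (C.X₁ ≅ CGrpSh2.Gm Scheme.fppfPrecoverage X) → Function.Surjective (C.g.hom.app (op (Red.Ga X)))) :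
    Subsingleton (Ext (CGrpSh.pts Scheme.fppfPrecoverage (Red.Ga X))
      (CGrpSh.pts Scheme.fppfPrecoverage (Red.Gm X)) 1) := by
  obtain ⟨I, Q, i, p, w, _, hS⟩ := SiteCoh.exists_inj_seq (CGrpSh.pts Scheme.fppfPrecoverage (Red.Gm X))
  refine SiteCoh.ext_one_eq_zero _ hS (fun g => ?_) (SiteCoh.subsingleton_ext_injective _ _ 0)
  let G : Over X := Red.Ga X
  let pt : ∀ {T : Over X}, (T ⟶ G) → (CGrpSh.pts Scheme.fppfPrecoverage (Red.Ga X)).obj.obj (op T) :=
    fun t => ULift.up (Additive.ofMul t)
  obtain ⟨e, he⟩ := hlift hS (Iso.refl _) (g.hom.app (op G) (pt (𝟙 G)))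
  let s : ∀ {T : Over X}, (T ⟶ G) → I.obj.obj (op T) := fun t => I.obj.map t.op e
  have hps : ∀ {T : Over X} (t : T ⟶ G), p.hom.app (op T) (s t) = g.hom.app (op T) (pt t) := fun t => by
    refine (NatTrans.naturality_apply p.hom t.op e).trans ((congrArg _ he).trans ?_)
    refine (NatTrans.naturality_apply g.hom t.op (pt (𝟙 G))).symm.trans (congrArg _ (ULift.ext _ _ ?_))
    exact congrArg Additive.ofMul (Category.comp_id t)
  have hs : ∀ {T T' : Over X} (h : T' ⟶ T) (t : T ⟶ G), s (h ≫ t) = I.obj.map h.op (s t) := fun h t => by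
    show I.obj.map (h ≫ t).op e = _
    rw [op_comp, Functor.map_comp]
    rfl
  have hpt : ∀ {T : Over X} (a b : T ⟶ G), pt (a * b) = pt a + pt b := fun a b => rfl
  obtain ⟨c, hc⟩ := AdeqA.exists_app_f hS (op (G ⊗ G))
    (s (fst G G * snd G G) - s (fst G G) - s (snd G G)) (by
      rw [map_sub, map_sub]
      show p.hom.app _ _ - p.hom.app _ _ - p.hom.app _ _ = 0
      rw [hps, hps, hps, hpt, map_add]
      abel)
  let ι' : ∀ {T : Over X}, (T ⟶ Red.Gm X) → I.obj.obj (op T) := fun k => i.hom.app _ (ULift.up (Additive.ofMul k))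
  have hc' : s (fst G G * snd G G) - s (fst G G) - s (snd G G) = ι' c.down.toMul := hc.symm
  let k : ∀ T : Over X, T ⟶ Red.Gm X := fun T => lift (1 : T ⟶ G) 1 ≫ c.down.toMul
  have hadd : ∀ {T : Over X} (a b : T ⟶ G), s (a * b) - s a - s b = ι' (k T) := fun {T} a b => by
    have h1 := congrArg (I.obj.map (lift a b).op) hc'
    rw [map_sub, map_sub, ← hs, ← hs, ← hs, MonObj.comp_mul, lift_fst, lift_snd] at h1
    refine h1.trans ?_
    refine (NatTrans.naturality_apply i.hom (lift a b).op _).symm.trans (congrArg _ (ULift.ext _ _ ?_))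
    refine congrArg Additive.ofMul ?_
    show lift a b ≫ c.down.toMul = lift 1 1 ≫ c.down.toMul
    conv_lhs => rw [eq_const c.down.toMul]
    rw [← Category.assoc, comp_lift, MonObj.comp_one]
  let h : ∀ T : Over X, (CGrpSh.pts Scheme.fppfPrecoverage (Red.Ga X)).obj.obj (op T) →+ I.obj.obj (op T) := fun T =>
    AddMonoidHom.mk' (fun z => s z.down.toMul + ι' (k T)) fun a b => by
      show s (a.down.toMul * b.down.toMul) + _ = _
      rw [show s (a.down.toMul * b.down.toMul) = s a.down.toMul + s b.down.toMul + ι' (k T) from by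
        rw [← hadd a.down.toMul b.down.toMul]; abel]
      abel
  refine ⟨⟨{ app := fun T => AddCommGrpCat.ofHom (h T.unop)
             naturality := fun T T' f => AddCommGrpCat.ext fun z => ?_ }⟩, Sheaf.hom_ext (NatTrans.ext (funext fun T =>
    AddCommGrpCat.ext fun z => ?_))⟩
  · show s (f.unop ≫ z.down.toMul) + ι' (k T'.unop) = I.obj.map f (s z.down.toMul + ι' (k T.unop))
    rw [map_add, hs]
    refine congrArg₂ (· + ·) rfl ?_
    refine (congrArg (i.hom.app _) (ULift.ext _ _ (congrArg Additive.ofMul ?_))).trans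
      (NatTrans.naturality_apply i.hom f _)
    show k T'.unop = f.unop ≫ k T.unop
    simp only [k]
    rw [← Category.assoc, comp_lift, MonObj.comp_one]
  · show p.hom.app T (s z.down.toMul + ι' (k T.unop)) = g.hom.app T z
    rw [map_add, hps]
    have hz : p.hom.app T (ι' (k T.unop)) = 0 :=
      ConcreteCategory.congr_hom (congrArg (fun q : CGrpSh.pts Scheme.fppfPrecoverage (Red.Gm X) ⟶ Q => q.hom.app T) w) _
    rw [hz, add_zero]
    rfl

/-- `Ext¹(Ga, Gm) = 0` over a reduced scheme whose line has trivial Picard group. -/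
theorem subsingleton_ext_one [IsReduced X]
    (hPic : ∀ L : (Red.Ga X).left.Modules, PicF.IsInvertible L →
      Nonempty (L ≅ Coh.structureModule (Red.Ga X).left)) :
    Subsingleton (Ext (CGrpSh.pts Scheme.fppfPrecoverage (Red.Ga X))
      (CGrpSh.pts Scheme.fppfPrecoverage (Red.Gm X)) 1) :=
  subsingleton_ext_one_of_lift fun hC e => surjective_sections_of_pic hC e (Red.Ga X) hPic

end Groth.Agent.GaExt23
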