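import Groth.Agent.Lib.GaExt23.PTors
import Groth.Agent.Lib.AdeqA.Cartan
import Groth.Prelude.Def_CGrpSh2
import Groth.Prelude.Def_GmPts2

/-!
# Lifting sections killed by `p` along epimorphisms with kernel `Gm`
-/

set_option autoImplicit false
set_option linter.style.haveILetI false
set_option maxHeartbeats 1600000
set_option backward.isDefEq.respectTransparency false
set_option backward.isDefEq.respectTransparency.types false
universe u

open CategoryTheory CategoryTheory.Limits AlgebraicGeometry Opposite TensorProduct MonObj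

noncomputable section

namespace Groth.Agent.GaExt23

open TorsTriv25 AdeqA

/-- Unit cocycles over `A` whose `p`-th power is a coboundary are coboundaries. -/
def UCo (p : ℕ) (A : Type u) [CommRing A] : Prop :=
  ∀ (B : Type u) [CommRing B] [Algebra A B] [Module.FaithfullyFlat A B] (θ : (B ⊗[A] B)ˣ),
    pair01 (θ : B ⊗[A] B) * pair12 (θ : B ⊗[A] B) = pair02 (θ : B ⊗[A] B) → diagHom (θ : B ⊗[A] B) = 1 →
      ∀ v : Bˣ, q0 (v : B) * (θ : B ⊗[A] B) ^ p = q1 (v : B) → ∃ m : Bˣ, q0 (m : B) * (θ : B ⊗[A] B) = q1 (m : B)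

theorem uCo_polynomial (p : ℕ) [Fact p.Prime] (R : Type u) [CommRing R] [CharP R p]
    (hF : Function.Surjective (frobenius R p)) : UCo p (Polynomial R) :=
  fun _ _ _ _ θ h2 h1 v hv => exists_unit_coboundary p hF θ h2 h1 v hv

variable {S : Scheme.{u}} {A : CommRingCat.{u}} (a : Spec A ⟶ S)

/-- Sections of the multiplicative group over the spectrum of an algebra as units. -/
def gU (B : Adeq.Alg A) : (CGrpSh2.Gm Scheme.fppfPrecoverage S).obj.obj (op (sOb a B)) →+ Additive (B : Type u)ˣ :=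
  AddMonoidHom.mk' (fun x => Additive.ofMul (Units.map (Scheme.ΓSpecIso (CommRingCat.of (B : Type u))).hom.hom.toMonoidHom
      (GmPts.unitOfPt (ULift.down x).toMul)))
    fun x y => by
      show Additive.ofMul (Units.map _ (GmPts.unitOfPt ((ULift.down x).toMul * (ULift.down y).toMul))) = _
      rw [GmPts.unitOfPt_mul, map_mul]
      rfl

theorem gU_injective (B : Adeq.Alg A) : Function.Injective (gU a B) := fun x y h => by
  refine ULift.ext _ _ (Additive.toMul.injective ?_)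
  rw [← GmPts.ptOfUnit_unitOfPt (ULift.down x).toMul, ← GmPts.ptOfUnit_unitOfPt (ULift.down y).toMul]
  refine congrArg GmPts.ptOfUnit (Units.ext ?_)
  exact (Scheme.ΓSpecIso (CommRingCat.of (B : Type u))).commRingCatIsoToRingEquiv.injective
    (congrArg (fun t : Additive (B : Type u)ˣ => (t.toMul : (B : Type u))) h)

theorem gU_surjective (B : Adeq.Alg A) (v : (B : Type u)ˣ) : ∃ x, gU a B x = Additive.ofMul v := by
  refine ⟨ULift.up (Additive.ofMul (GmPts.ptOfUnit
    (show Γ((sOb a B).left, ⊤)ˣ from Units.map (Scheme.ΓSpecIso (CommRingCat.of (B : Type u))).inv.hom.toMonoidHom v) : sOb a B ⟶ Red.Gm S)), ?_⟩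
  refine congrArg Additive.ofMul (Units.ext ?_)
  show (Scheme.ΓSpecIso (CommRingCat.of (B : Type u))).hom ((GmPts.unitOfPt (GmPts.ptOfUnit _ : sOb a B ⟶ Red.Gm S) : Γ((sOb a B).left, ⊤)ˣ) : Γ((sOb a B).left, ⊤)) = _
  rw [GmPts.unitOfPt_ptOfUnit]
  exact ConcreteCategory.congr_hom (Scheme.ΓSpecIso (CommRingCat.of (B : Type u))).inv_hom_id (v : (B : Type u))

theorem gU_map {B B' : Adeq.Alg A} (f : B ⟶ B') (x : (CGrpSh2.Gm Scheme.fppfPrecoverage S).obj.obj (op (sOb a B))) :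
    ((gU a B' ((CGrpSh2.Gm Scheme.fppfPrecoverage S).obj.map (sMap a f).op x)).toMul : (B' : Type u)) =
      f.hom ((gU a B x).toMul : (B : Type u)) := by
  show (Scheme.ΓSpecIso (CommRingCat.of (B' : Type u))).hom
    ((GmPts.unitOfPt (sMap a f ≫ (ULift.down x).toMul) : Γ((sOb a B').left, ⊤))) = _
  rw [GmPts.unitOfPt_comp]
  exact ConcreteCategory.congr_hom (Scheme.ΓSpecIso_naturality (CommRingCat.ofHom f.hom.toRingHom))
    ((GmPts.unitOfPt (ULift.down x).toMul : Γ((sOb a B).left, ⊤)))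

/-- A section killed by `p` lifts. -/
theorem exists_lift_of_nsmul_eq_zero (p : ℕ) (hA : UCo p A)
    {I Q : BigSite.Ab Scheme.fppfPrecoverage S} {i : CGrpSh2.Gm Scheme.fppfPrecoverage S ⟶ I} {π : I ⟶ Q} {w : i ≫ π = 0} (hC : (ShortComplex.mk i π w).ShortExact)
    (s : Q.obj.obj (op (sOb a (Adeq.algOf A A)))) (hs : p • s = 0) :
    ∃ t, π.hom.app _ t = s := by
  haveI := hC.epi_g
  haveI : Sheaf.IsLocallySurjective π := (Sheaf.isLocallySurjective_iff_epi' _ π).2 inferInstance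
  obtain ⟨J, _, _, A', _, _, hff, hcov, hT⟩ :=
    mem_fam_fppf a _ (Presheaf.imageSieve_mem _ π.hom (U := op (sOb a (Adeq.algOf A A))) s)
  choose y hy using hT
  obtain ⟨z, hz⟩ := exists_prod_glue a I A' y
  let B : Type u := ∀ j, A' j
  haveI := hff
  let B1 : Adeq.Alg A := Adeq.algOf A B
  let B2 : Adeq.Alg A := Adeq.algOf A (B ⊗[A] B)
  let B3 : Adeq.Alg A := Adeq.algOf A (B ⊗[A] (B ⊗[A] B))
  let e : sOb a B1 ⟶ sOb a (Adeq.algOf A A) :=
    sMap a (CommAlgCat.ofHom (Algebra.ofId A B) : Adeq.algOf A A ⟶ B1)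
  have hS₃ := (isSheaf_iff_isSheaf_of_type _ _).1
    ((Presheaf.isSheaf_iff_isSheaf_forget _ Q.obj (forget AddCommGrpCat.{u + 1})).1 Q.property)
  have hS₂ := (isSheaf_iff_isSheaf_of_type _ _).1
    ((Presheaf.isSheaf_iff_isSheaf_forget _ I.obj (forget AddCommGrpCat.{u + 1})).1 I.property)
  have hcB : Sieve.ofArrows (fun _ : PUnit.{1} => sOb a B1) (fun _ => e) ∈
      QuotSh.J Scheme.fppfPrecoverage S (sOb a (Adeq.algOf A A)) := by
    refine GrothendieckTopology.superset_covering _ ?_ hcov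
    rw [Sieve.generate_le_iff]
    rintro _ _ ⟨j⟩
    exact ⟨_, sMap a (CommAlgCat.ofHom (Pi.evalAlgHom A A' j) : B1 ⟶ Adeq.algOf A (A' j)), e,
      Presieve.ofArrows.mk PUnit.unit, by
        rw [← (Adeq.specOver a).map_comp]
        exact congrArg (sMap a) (CommAlgCat.hom_ext (Subsingleton.elim _ _))⟩
  have hzs : π.hom.app (op (sOb a B1)) z = Q.obj.map e.op s := by
    have hc : Sieve.ofArrows (fun j => sOb a (Adeq.algOf A (A' j))) (fun j => sMap a
        (CommAlgCat.ofHom (Pi.evalAlgHom A A' j) : B1 ⟶ Adeq.algOf A (A' j))) ∈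
        QuotSh.J Scheme.fppfPrecoverage S (sOb a B1) := cover_prod a A'
    refine (hS₃ _ hc).isSeparatedFor.ext fun Z g hg => ?_
    obtain ⟨_, c, _, ⟨j⟩, rfl⟩ := hg
    rw [op_comp, Functor.map_comp]
    refine congrArg (fun w => ((Q.obj ⋙ forget AddCommGrpCat.{u + 1}).map c.op) w) ?_
    refine (NatTrans.naturality_apply π.hom _ z).symm.trans ((congrArg _ (hz j)).trans ((hy j).trans ?_))
    have he : sMap a (CommAlgCat.ofHom (Pi.evalAlgHom A A' j) : B1 ⟶ Adeq.algOf A (A' j)) ≫ e =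
        sMap a (CommAlgCat.ofHom (Algebra.ofId A (A' j))) := by
      rw [← (Adeq.specOver a).map_comp]
      exact congrArg (sMap a) (CommAlgCat.hom_ext (Subsingleton.elim _ _))
    exact ConcreteCategory.congr_hom
      ((congrArg (fun t => Q.obj.map (Quiver.Hom.op t)) he.symm).trans (Q.obj.map_comp e.op _)) s
  -- restrictions
  let r : ∀ {C C' : Adeq.Alg A} (f : C ⟶ C'), I.obj.obj (op (sOb a C)) → I.obj.obj (op (sOb a C')) :=
    fun f t => I.obj.map (sMap a f).op t
  have r_comp : ∀ {C C' C'' : Adeq.Alg A} (f : C ⟶ C') (g : C' ⟶ C'') t, r g (r f t) = r (f ≫ g) t := fun f g t => by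
    show I.obj.map _ (I.obj.map _ t) = I.obj.map _ t
    rw [← ConcreteCategory.comp_apply, ← Functor.map_comp, ← op_comp, ← (Adeq.specOver a).map_comp]
    rfl
  have hri : ∀ {C C' : Adeq.Alg A} (f : C ⟶ C') (x), r f (i.hom.app (op (sOb a C)) x) =
      i.hom.app (op (sOb a C')) ((CGrpSh2.Gm Scheme.fppfPrecoverage S).obj.map (sMap a f).op x) :=
    fun f x => (NatTrans.naturality_apply i.hom _ x).symm
  let Q0 : B1 ⟶ B2 := CommAlgCat.ofHom q0
  let Q1 : B1 ⟶ B2 := CommAlgCat.ofHom q1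
  let D : B2 ⟶ B1 := CommAlgCat.ofHom diagHom
  let P01 : B2 ⟶ B3 := CommAlgCat.ofHom pair01
  let P12 : B2 ⟶ B3 := CommAlgCat.ofHom pair12
  let P02 : B2 ⟶ B3 := CommAlgCat.ofHom pair02
  have hπr : ∀ {C' : Adeq.Alg A} (f : B1 ⟶ C'), π.hom.app (op (sOb a C')) (r f z) =
      Q.obj.map (sMap a (CommAlgCat.ofHom (Algebra.ofId A C') : Adeq.algOf A A ⟶ C')).op s := fun {C'} f => by
    show π.hom.app _ (I.obj.map _ z) = _
    rw [NatTrans.naturality_apply π.hom, hzs, ← ConcreteCategory.comp_apply, ← Functor.map_comp, ← op_comp,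
      ← (Adeq.specOver a).map_comp, ← op_comp]
    exact congrArg (fun t => Q.obj.map (sMap a t).op s) (CommAlgCat.hom_ext (Subsingleton.elim _ _))
  obtain ⟨d, hd⟩ := exists_app_f hC (op (sOb a B2)) (r Q1 z - r Q0 z) (by
    show π.hom.app _ _ = 0
    rw [map_sub, hπr, hπr, sub_self])
  obtain ⟨v₀, hv₀⟩ := exists_app_f hC (op (sOb a B1)) (p • z) (by
    show π.hom.app _ _ = 0
    rw [map_nsmul, hzs, ← map_nsmul, hs, map_zero])
  change i.hom.app _ d = _ at hd
  change i.hom.app _ v₀ = _ at hv₀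
  let θ : (B ⊗[A] B)ˣ := (gU a B2 d).toMul
  let Gmap {C C' : Adeq.Alg A} (f : C ⟶ C') (x : (CGrpSh2.Gm Scheme.fppfPrecoverage S).obj.obj (op (sOb a C))) :=
    (CGrpSh2.Gm Scheme.fppfPrecoverage S).obj.map (sMap a f).op x
  have iinj : ∀ (C : Adeq.Alg A), Function.Injective (i.hom.app (op (sOb a C))) := fun C =>
    injective_app_f hC (op (sOb a C))
  have hcomb : Gmap P01 d + Gmap P12 d = Gmap P02 d := iinj B3 (by
    rw [map_add, ← hri, ← hri, ← hri, hd]
    show I.obj.map _ _ + I.obj.map _ _ = I.obj.map _ _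
    rw [map_sub, map_sub, map_sub]
    show r P01 (r Q1 z) - r P01 (r Q0 z) + (r P12 (r Q1 z) - r P12 (r Q0 z)) = r P02 (r Q1 z) - r P02 (r Q0 z)
    rw [r_comp, r_comp, r_comp, r_comp, r_comp, r_comp]
    have e1 : Q1 ≫ P01 = Q0 ≫ P12 := CommAlgCat.hom_ext (pair01_q1)
    have e2 : Q0 ≫ P01 = Q0 ≫ P02 := CommAlgCat.hom_ext (pair01_q0.trans pair02_q0.symm)
    have e3 : Q1 ≫ P12 = Q1 ≫ P02 := CommAlgCat.hom_ext (pair02_q1.symm)
    rw [e1, e2, e3]
    abel)
  have h2 : pair01 (θ : B ⊗[A] B) * pair12 (θ : B ⊗[A] B) = pair02 (θ : B ⊗[A] B) := by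
    have h := congrArg (fun t => ((gU a B3 t).toMul : (B3 : Type u))) hcomb
    simp only [map_add, toMul_add, Units.val_mul] at h
    rwa [gU_map a P01, gU_map a P12, gU_map a P02] at h
  have hD : Gmap D d = 0 := iinj B1 (by
    rw [map_zero, ← hri, hd]
    show I.obj.map _ _ = 0
    rw [map_sub]
    show r D (r Q1 z) - r D (r Q0 z) = 0
    rw [r_comp, r_comp]
    have e : Q1 ≫ D = Q0 ≫ D := CommAlgCat.hom_ext (AlgHom.ext fun (x : B) => by
      show Algebra.TensorProduct.lmul' A ((1 : B) ⊗ₜ[A] x) = Algebra.TensorProduct.lmul' A (x ⊗ₜ[A] (1 : B))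
      rw [Algebra.TensorProduct.lmul'_apply_tmul, Algebra.TensorProduct.lmul'_apply_tmul, mul_comm])
    rw [e, sub_self])
  have h1 : diagHom (θ : B ⊗[A] B) = 1 := by
    have h := congrArg (fun t => ((gU a B1 t).toMul : (B1 : Type u))) hD
    simp only [map_zero, toMul_zero, Units.val_one] at h
    rwa [gU_map a D] at h
  let v : Bˣ := (gU a B1 v₀).toMul
  have hvd : Gmap Q0 v₀ + p • d = Gmap Q1 v₀ := iinj B2 (by
    rw [map_add, map_nsmul, ← hri, ← hri, hd, hv₀]
    show I.obj.map _ _ + _ = I.obj.map _ _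
    rw [map_nsmul, map_nsmul, smul_sub]
    show p • r Q0 z + (p • r Q1 z - p • r Q0 z) = p • r Q1 z
    abel)
  have hv : q0 (v : B) * (θ : B ⊗[A] B) ^ p = q1 (v : B) := by
    have h := congrArg (fun t => ((gU a B2 t).toMul : (B2 : Type u))) hvd
    simp only [map_add, map_nsmul, toMul_add, toMul_nsmul, Units.val_mul, Units.val_pow_eq_pow_val] at h
    rwa [gU_map a Q0, gU_map a Q1] at h
  obtain ⟨m, hm⟩ := hA B θ h2 h1 v hv
  obtain ⟨m₀, hm₀⟩ := gU_surjective a B1 m
  have hmd : Gmap Q0 m₀ + d = Gmap Q1 m₀ := gU_injective a B2 (by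
    refine Additive.toMul.injective (Units.ext ?_)
    rw [map_add, toMul_add, Units.val_mul, gU_map a Q0, gU_map a Q1, hm₀]
    exact hm)
  let y₁ : I.obj.obj (op (sOb a B1)) := z - i.hom.app _ m₀
  have hy₁ : r Q0 y₁ = r Q1 y₁ := by
    show I.obj.map _ (z - _) = I.obj.map _ (z - _)
    rw [map_sub, map_sub]
    show r Q0 z - r Q0 (i.hom.app _ m₀) = r Q1 z - r Q1 (i.hom.app _ m₀)
    rw [hri, hri]
    have h := congrArg (fun t => i.hom.app (op (sOb a B2)) t) hmd
    simp only [map_add] at h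
    rw [hd] at h
    show r Q0 z - i.hom.app _ (Gmap Q0 m₀) = r Q1 z - i.hom.app _ (Gmap Q1 m₀)
    rw [← h]
    abel
  -- glue
  obtain ⟨t, ht, -⟩ := (Presieve.isSheafFor_arrows_iff _ _).1 (hS₂.isSheafFor _ hcB) (fun _ => y₁)
    fun _ _ W gj gk h => by
      have hb : gj.left ≫ Spec.map (CommRingCat.ofHom (algebraMap A B)) = gk.left ≫ Spec.map (CommRingCat.ofHom (algebraMap A B)) :=
        congrArg CommaMorphism.left h
      have hb' := congrArg toSec hb
      rw [toSec_comp, toSec_comp] at hb'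
      obtain ⟨φ, hφ1, hφ2⟩ := exists_ringHom_tensor (R := A) (toSec gj.left).hom (toSec gk.left).hom
        (congrArg CommRingCat.Hom.hom hb')
      let g : W ⟶ sOb a B2 := Over.homMk (W.left.toSpecΓ ≫ Spec.map (CommRingCat.ofHom φ)) (by
        rw [← Over.w gj]
        show _ ≫ Spec.map _ ≫ a = gj.left ≫ Spec.map _ ≫ a
        rw [← Category.assoc, ← Category.assoc]
        refine congrArg (· ≫ a) (toSec_injective ?_)
        rw [toSec_comp, toSec_ofSec, toSec_comp]
        exact CommRingCat.hom_ext (RingHom.ext fun x => hφ1 (algebraMap A B x)))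
      have f0 : g ≫ sMap a Q0 = gj := Over.OverMorphism.ext (toSec_injective (by
        show toSec ((_ ≫ _) ≫ Spec.map _) = _
        rw [toSec_comp, toSec_ofSec]
        exact CommRingCat.hom_ext (RingHom.ext fun x => hφ1 x)))
      have f1 : g ≫ sMap a Q1 = gk := Over.OverMorphism.ext (toSec_injective (by
        show toSec ((_ ≫ _) ≫ Spec.map _) = _
        rw [toSec_comp, toSec_ofSec]
        exact CommRingCat.hom_ext (RingHom.ext fun x => hφ2 x)))
      show I.obj.map gj.op y₁ = I.obj.map gk.op y₁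
      rw [← f0, ← f1, op_comp, op_comp, Functor.map_comp, Functor.map_comp]
      exact congrArg (fun q => I.obj.map g.op q) hy₁
  refine ⟨t, (hS₃ _ hcB).isSeparatedFor.ext fun Z g hg => ?_⟩
  obtain ⟨_, c, _, ⟨⟨⟩⟩, rfl⟩ := hg
  rw [op_comp, Functor.map_comp]
  refine congrArg (fun w => ((Q.obj ⋙ forget AddCommGrpCat.{u + 1}).map c.op) w) ?_
  refine (NatTrans.naturality_apply π.hom e.op t).symm.trans ?_
  refine (congrArg (π.hom.app _) (ht PUnit.unit)).trans ?_
  show π.hom.app _ (z - i.hom.app _ m₀) = Q.obj.map e.op s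
  rw [map_sub, hzs]
  have h0 : π.hom.app (op (sOb a B1)) (i.hom.app (op (sOb a B1)) m₀) = 0 :=
    ConcreteCategory.congr_hom (congrArg (fun k : CGrpSh2.Gm Scheme.fppfPrecoverage S ⟶ Q => k.hom.app (op (sOb a B1))) w) m₀
  rw [h0, sub_zero]

end Groth.Agent.GaExt23
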