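import Groth.Agent.Lib.GaExt23.PTors
import Groth.Agent.Lib.GaDual.Split
import Mathlib.RingTheory.AdjoinRoot
import Mathlib.RingTheory.FinitePresentation
import Mathlib.RingTheory.Flat.FaithfullyFlat.Algebra
import Mathlib.LinearAlgebra.TensorProduct.RightExactness

/-!
# Adjoining `p`-power roots and descent to finite stages
-/

set_option autoImplicit false
set_option linter.style.haveILetI false
set_option maxHeartbeats 1000000
universe u

open TensorProduct Polynomial

noncomputable section

namespace Groth.Agent.GaExt23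

open TorsTriv25

/-- A finite free extension, allowed in the descent. -/
structure Stage (p : ℕ) (R : Type u) [CommRing R] where
  carrier : Type u
  [commRing : CommRing carrier]
  [algebra : Algebra R carrier]
  [fp : Algebra.FinitePresentation R carrier]
  [ff : Module.FaithfullyFlat R carrier]
  [charP : CharP carrier p]

attribute [instance] Stage.commRing Stage.algebra Stage.fp Stage.ff Stage.charP

namespace PRoots

variable (p : ℕ) [hp : Fact p.Prime] (R : Type u) [CommRing R] [CharP R p]

theorem exists_roots (q : ℕ) (hq : 0 < q) (F : Finset R) :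
    ∃ (A : Stage p R), ∀ r ∈ F, ∃ t : A.carrier, t ^ q = algebraMap R A.carrier r := by
  classical
  induction F using Finset.induction with
  | empty =>
    haveI : Nontrivial R := CharP.nontrivial_of_char_ne_one (R := R) hp.out.ne_one
    exact ⟨⟨R⟩, fun r hr => absurd hr (Finset.notMem_empty r)⟩
  | insert a F _ ih =>
    obtain ⟨A, hA⟩ := ih
    haveI : Nontrivial A.carrier := CharP.nontrivial_of_char_ne_one (R := A.carrier) hp.out.ne_one
    let f : A.carrier[X] := Polynomial.X ^ q - Polynomial.C (algebraMap R A.carrier a)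
    have hm : f.Monic := monic_X_pow_sub_C _ hq.ne'
    have hd : f.degree ≠ 0 := by
      rw [degree_X_pow_sub_C hq]
      exact_mod_cast hq.ne'
    haveI := hm.free_adjoinRoot
    haveI := hm.finite_adjoinRoot
    haveI : Nontrivial (AdjoinRoot f) := by
      have hq' : 0 < f.natDegree := by
        rw [natDegree_X_pow_sub_C]
        exact hq
      let b := AdjoinRoot.powerBasis' hm
      exact nontrivial_of_ne (b.basis ⟨0, by simpa [b] using hq'⟩) 0 (b.basis.ne_zero _)
    haveI : Module.FaithfullyFlat A.carrier (AdjoinRoot f) := inferInstance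
    haveI : Module.FaithfullyFlat R (AdjoinRoot f) := Module.FaithfullyFlat.trans R A.carrier (AdjoinRoot f)
    haveI : Algebra.FinitePresentation A.carrier (AdjoinRoot f) :=
      Algebra.FinitePresentation.quotient (R := A.carrier) (A := A.carrier[X]) (I := Ideal.span {f})
        (Submodule.fg_span_singleton f)
    haveI : Algebra.FinitePresentation R (AdjoinRoot f) := Algebra.FinitePresentation.trans R A.carrier _
    haveI : CharP (AdjoinRoot f) p :=
      charP_of_injective_algebraMap (FaithfulSMul.algebraMap_injective R (AdjoinRoot f)) p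
    refine ⟨⟨AdjoinRoot f⟩, fun r hr => ?_⟩
    rcases Finset.mem_insert.1 hr with rfl | hr
    · refine ⟨AdjoinRoot.root f, ?_⟩
      have h := AdjoinRoot.eval₂_root f
      simp only [f, eval₂_sub, eval₂_X_pow, eval₂_C, sub_eq_zero] at h
      rw [h]
      exact (IsScalarTower.algebraMap_apply R A.carrier (AdjoinRoot _) _).symm
    · obtain ⟨t, ht⟩ := hA r hr
      exact ⟨algebraMap A.carrier (AdjoinRoot f) t, by
        rw [← map_pow, ht]; exact (IsScalarTower.algebraMap_apply R A.carrier (AdjoinRoot f) r).symm⟩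

/-- The polynomial ring on formal roots. -/
abbrev PR : Type u := MvPolynomial (R × ℕ) R

/-- The relations of formal roots. -/
def gen : R × ℕ → PR R
  | (r, 0) => MvPolynomial.X (r, 0) - MvPolynomial.C r
  | (r, n + 1) => MvPolynomial.X (r, n + 1) ^ p - MvPolynomial.X (r, n)

/-- The ideal of relations. -/
def rel : Ideal (PR R) := Ideal.span (Set.range (gen p R))

/-- All roots adjoined. -/
abbrev RInf : Type u := PR R ⧸ rel p R

theorem exists_stage (s : Finset (PR R)) (hs : ∀ x ∈ s, x ∈ rel p R) :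
    ∃ (A : Stage p R) (φ : PR R →ₐ[R] A.carrier), ∀ x ∈ s, φ x = 0 := by
  classical
  have hc : ∀ x : s, ∃ c : (R × ℕ) →₀ PR R, (c.sum fun i a => a * gen p R i) = (x : PR R) := fun x =>
    Finsupp.mem_span_range_iff_exists_finsupp.1 (hs x.1 x.2)
  choose c hc using hc
  let T : Finset (R × ℕ) := s.attach.biUnion fun x => (c x).support
  let N : ℕ := T.sup Prod.snd
  let F : Finset R := T.image Prod.fst
  obtain ⟨A, hA⟩ := exists_roots p R (p ^ N) (pow_pos hp.out.pos N) F
  let t : R → A.carrier := fun r => if h : r ∈ F then (hA r h).choose else 0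
  have ht : ∀ r ∈ F, t r ^ p ^ N = algebraMap R A.carrier r := fun r hr => by
    show (if h : r ∈ F then (hA r h).choose else 0) ^ p ^ N = _
    rw [dif_pos hr]
    exact (hA r hr).choose_spec
  let φ : PR R →ₐ[R] A.carrier := MvPolynomial.aeval fun i => t i.1 ^ p ^ (N - i.2)
  refine ⟨A, φ, fun x hx => ?_⟩
  have e : x = (c ⟨x, hx⟩).sum fun i a => a * gen p R i := (hc ⟨x, hx⟩).symm
  rw [e, Finsupp.sum, map_sum]
  refine Finset.sum_eq_zero fun i hi => ?_
  have hi' : i ∈ T := Finset.mem_biUnion.2 ⟨_, Finset.mem_attach _ _, hi⟩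
  have hN : i.2 ≤ N := Finset.le_sup (f := Prod.snd) hi'
  have hF : i.1 ∈ F := Finset.mem_image_of_mem _ hi'
  rw [map_mul]
  refine mul_eq_zero_of_right _ ?_
  obtain ⟨r, n⟩ := i
  cases n with
  | zero => simp [gen, φ, ht r hF]
  | succ n =>
    simp only [gen, φ, map_sub, map_pow, MvPolynomial.aeval_X, ← pow_mul, ← pow_succ]
    rw [show N - (n + 1) + 1 = N - n from by simp only at hN; omega, sub_self]

instance charP_rInf : CharP (RInf p R) p := by
  haveI : Nontrivial (RInf p R) := Ideal.Quotient.nontrivial_iff.2 fun h => by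
    obtain ⟨A, φ, hφ⟩ := exists_stage p R {(1 : PR R)} (fun x hx => h ▸ trivial)
    haveI : Nontrivial A.carrier := CharP.nontrivial_of_char_ne_one (R := A.carrier) hp.out.ne_one
    exact one_ne_zero ((map_one φ).symm.trans (hφ 1 (Finset.mem_singleton_self _)))
  refine (CharP.charP_iff_prime_eq_zero hp.out).2 ?_
  rw [← map_natCast (algebraMap R (RInf p R)), CharP.cast_eq_zero, map_zero]

theorem surjective_frobenius_rInf : Function.Surjective (frobenius (RInf p R) p) := by
  intro y
  obtain ⟨x, rfl⟩ := Ideal.Quotient.mk_surjective y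
  let S : Subring (RInf p R) := (frobenius (RInf p R) p).range
  have hgen : ∀ i, Ideal.Quotient.mk (rel p R) (gen p R i) = 0 := fun i =>
    Ideal.Quotient.eq_zero_iff_mem.2 (Ideal.subset_span ⟨i, rfl⟩)
  have hX : ∀ i : R × ℕ, Ideal.Quotient.mk (rel p R) (MvPolynomial.X i) ∈ S := fun i => by
    refine ⟨Ideal.Quotient.mk (rel p R) (MvPolynomial.X (i.1, i.2 + 1)), ?_⟩
    have h := hgen (i.1, i.2 + 1)
    simp only [gen, map_sub, map_pow, sub_eq_zero] at h
    rw [frobenius_def, h]
  show Ideal.Quotient.mk (rel p R) x ∈ S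
  induction x using MvPolynomial.induction_on with
  | C r =>
    have h := hgen (r, 0)
    simp only [gen, map_sub, sub_eq_zero] at h
    rw [← h]
    exact hX _
  | add a b ha hb => rw [map_add]; exact S.add_mem ha hb
  | mul_X a i ha => rw [map_mul]; exact S.mul_mem ha (hX i)

/-- Symmetric unit cocycles split over a finite stage. -/
theorem exists_splitting_stage (h : MvPolynomial (Fin 2) R) (hu : IsUnit h)
    (h0 : MvPolynomial.aeval ![(MvPolynomial.X 0 : MvPolynomial (Fin 2) R), 0] h = 1) (hs : GaDual.IsSymm2 h)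
    (hc : GaDual.IsMulCocycle h) :
    ∃ A : Stage p R, GaDual.IsMulCobdry (MvPolynomial.map (algebraMap R A.carrier) h) := by
  classical
  let π : PR R →+* RInf p R := Ideal.Quotient.mk (rel p R)
  let ι : R →+* RInf p R := algebraMap R (RInf p R)
  have h0' : MvPolynomial.aeval ![(MvPolynomial.X 0 : MvPolynomial (Fin 2) (RInf p R)), 0]
      (MvPolynomial.map ι h) = 1 := by
    have e := congrArg (MvPolynomial.map ι) h0
    rwa [GaDual.map_aeval_pair, map_one, MvPolynomial.map_X, map_zero] at e
  obtain ⟨f, hfu, hf⟩ := GaDual.exists_splitting p (surjective_frobenius_rInf p R) (MvPolynomial.map ι h)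
    (hu.map (MvPolynomial.map ι)) h0' (hs.map ι) (hc.map ι)
  obtain ⟨g, hg⟩ := hfu.exists_right_inv
  have hsj : Function.Surjective (Polynomial.map π) := Polynomial.map_surjective _ Ideal.Quotient.mk_surjective
  obtain ⟨f', rfl⟩ := hsj f
  obtain ⟨g', rfl⟩ := hsj g
  let hP : MvPolynomial (Fin 2) (PR R) := MvPolynomial.map (algebraMap R (PR R)) h
  let D : MvPolynomial (Fin 2) (PR R) :=
    Polynomial.aeval (MvPolynomial.X 0 + MvPolynomial.X 1 : MvPolynomial (Fin 2) (PR R)) f' -
      Polynomial.aeval (MvPolynomial.X 0 : MvPolynomial (Fin 2) (PR R)) f' *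
        Polynomial.aeval (MvPolynomial.X 1 : MvPolynomial (Fin 2) (PR R)) f' * hP
  have hιπ : π.comp (algebraMap R (PR R)) = ι := rfl
  have hD : MvPolynomial.map π D = 0 := by
    simp only [D, hP, map_sub, map_mul, GaDual.map_aeval_poly, map_add, MvPolynomial.map_X, MvPolynomial.map_map,
      hιπ]
    exact sub_eq_zero.2 hf
  let E : Polynomial (PR R) := f' * g' - 1
  have hE : E.map π = 0 := by
    rw [Polynomial.map_sub, Polynomial.map_mul, hg, Polynomial.map_one, sub_self]
  obtain ⟨A, φ, hφ⟩ := exists_stage p R (D.support.image (fun m => D.coeff m) ∪ E.support.image E.coeff)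
    (fun x hx => by
      rcases Finset.mem_union.1 hx with hx | hx <;> obtain ⟨m, -, rfl⟩ := Finset.mem_image.1 hx <;>
        rw [← Ideal.Quotient.eq_zero_iff_mem]
      · show π (D.coeff m) = 0
        rw [← MvPolynomial.coeff_map, hD, MvPolynomial.coeff_zero]
      · show π (E.coeff m) = 0
        rw [← Polynomial.coeff_map, hE, Polynomial.coeff_zero])
  have hD' : MvPolynomial.map φ.toRingHom D = 0 := MvPolynomial.ext _ _ fun m => by
    rw [MvPolynomial.coeff_map, MvPolynomial.coeff_zero]
    by_cases hm : m ∈ D.support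
    · exact hφ _ (Finset.mem_union_left _ (Finset.mem_image_of_mem _ hm))
    · rw [MvPolynomial.notMem_support_iff.1 hm, map_zero]
  have hE' : E.map φ.toRingHom = 0 := Polynomial.ext fun m => by
    rw [Polynomial.coeff_map, Polynomial.coeff_zero]
    by_cases hm : m ∈ E.support
    · exact hφ _ (Finset.mem_union_right _ (Finset.mem_image_of_mem _ hm))
    · rw [Polynomial.notMem_support_iff.1 hm, map_zero]
  refine ⟨A, f'.map φ.toRingHom, IsUnit.of_mul_eq_one (g'.map φ.toRingHom) ?_, ?_⟩
  · rw [Polynomial.map_sub, Polynomial.map_mul, Polynomial.map_one, sub_eq_zero] at hE'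
    exact hE'
  · have hφR : φ.toRingHom.comp (algebraMap R (PR R)) = algebraMap R A.carrier := φ.comp_algebraMap
    simp only [D, hP, map_sub, map_mul, GaDual.map_aeval_poly, map_add, MvPolynomial.map_X, MvPolynomial.map_map,
      hφR] at hD'
    exact sub_eq_zero.1 hD'

section Descent

attribute [local instance] Polynomial.algebra

variable {R}

/-- Polynomials over an algebra are an algebra over polynomials. -/
abbrev polyMap {C C' : Type u} [CommRing C] [CommRing C'] [Algebra R C] [Algebra R C'] (φ : C →ₐ[R] C') :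
    C[X] →ₐ[R[X]] C'[X] :=
  { Polynomial.mapRingHom φ.toRingHom with
    commutes' := fun r => by
      show ((r.map (algebraMap R C)).map φ.toRingHom) = r.map (algebraMap R C')
      rw [Polynomial.map_map]
      exact congrArg (fun g => r.map g) φ.comp_algebraMap }

theorem polyMap_apply {C C' : Type u} [CommRing C] [CommRing C'] [Algebra R C] [Algebra R C'] (φ : C →ₐ[R] C')
    (f : C[X]) : polyMap φ f = f.map φ.toRingHom := rfl

variable (R)

/-- An element vanishing when all roots are adjoined vanishes at every large stage. -/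
theorem exists_finset_of_map_eq_zero (D : Type u) [CommRing D] [Algebra R[X] D] (x : (PR R)[X] ⊗[R[X]] D)
    (hx : Algebra.TensorProduct.map (polyMap (Ideal.Quotient.mkₐ R (rel p R))) (AlgHom.id R[X] D) x = 0) :
    ∃ s : Finset (PR R), (∀ y ∈ s, y ∈ rel p R) ∧ ∀ (A : Type u) [CommRing A] [Algebra R A] (φ : PR R →ₐ[R] A),
      (∀ y ∈ s, φ y = 0) → Algebra.TensorProduct.map (polyMap φ) (AlgHom.id R[X] D) x = 0 := by
  classical
  let π := polyMap (Ideal.Quotient.mkₐ R (rel p R))
  have hπ : Function.Surjective π := Polynomial.map_surjective _ Ideal.Quotient.mk_surjective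
  obtain ⟨w, rfl⟩ := (rTensor_exact D (LinearMap.exact_subtype_ker_map π.toLinearMap) hπ x).1 hx
  clear hx
  induction w using TensorProduct.induction_on with
  | zero => exact ⟨∅, fun y hy => absurd hy (Finset.notMem_empty y), fun A _ _ φ _ => by rw [map_zero, map_zero]⟩
  | tmul k d =>
    refine ⟨(k : (PR R)[X]).support.image (k : (PR R)[X]).coeff, fun y hy => ?_, fun A _ _ φ hφ => ?_⟩
    · obtain ⟨n, -, rfl⟩ := Finset.mem_image.1 hy
      have h : (k : (PR R)[X]).map (Ideal.Quotient.mk (rel p R)) = 0 := k.2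
      have h' := congrArg (fun f => Polynomial.coeff f n) h
      simp only [Polynomial.coeff_map, Polynomial.coeff_zero] at h'
      exact Ideal.Quotient.eq_zero_iff_mem.1 h'
    · rw [LinearMap.rTensor_tmul]
      show polyMap φ (k : (PR R)[X]) ⊗ₜ[R[X]] d = 0
      have hk : polyMap φ (k : (PR R)[X]) = 0 := Polynomial.ext fun n => by
        rw [polyMap_apply, Polynomial.coeff_map, Polynomial.coeff_zero]
        by_cases hn : n ∈ (k : (PR R)[X]).support
        · exact hφ _ (Finset.mem_image_of_mem _ hn)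
        · rw [Polynomial.notMem_support_iff.1 hn, map_zero]
      rw [hk, TensorProduct.zero_tmul]
  | add a b ha hb =>
    obtain ⟨s, hs, hs'⟩ := ha
    obtain ⟨t, ht, ht'⟩ := hb
    refine ⟨s ∪ t, fun y hy => (Finset.mem_union.1 hy).elim (hs y) (ht y), fun A _ _ φ hφ => ?_⟩
    rw [map_add, map_add, hs' A φ fun y hy => hφ y (Finset.mem_union_left _ hy),
      ht' A φ fun y hy => hφ y (Finset.mem_union_right _ hy), add_zero]

end Descent

end PRoots

end Groth.Agent.GaExt23

namespace Groth.Agent.GaExt23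

open TorsTriv25

section Transfer

variable {A A' B B' : Type u} [CommRing A] [CommRing A'] [CommRing B] [CommRing B'] [Algebra A A'] [Algebra A B]
  [Algebra A' B'] [Algebra A B'] [IsScalarTower A A' B'] (j : B →ₐ[A] B')

/-- The map of double tensors over a change of base. -/
def t2 : B ⊗[A] B →ₐ[A] B' ⊗[A'] B' :=
  Algebra.TensorProduct.lift (((q0 (A := A') (B := B')).restrictScalars A).comp j)
    (((q1 (A := A') (B := B')).restrictScalars A).comp j) (fun _ _ => Commute.all _ _)

/-- The map of triple tensors over a change of base. -/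
def t3 : B ⊗[A] (B ⊗[A] B) →ₐ[A] B' ⊗[A'] (B' ⊗[A'] B') :=
  Algebra.TensorProduct.lift (((p0 (A := A') (B := B')).restrictScalars A).comp j)
    (((pair12 (A := A') (B := B')).restrictScalars A).comp (t2 j)) (fun _ _ => Commute.all _ _)

theorem pair01_t2 (x : B ⊗[A] B) : pair01 (t2 (A' := A') j x) = t3 j (pair01 x) := by
  induction x using TensorProduct.induction_on with
  | zero => simp
  | tmul a b => simp [t2, t3]
  | add a b ha hb => rw [map_add, map_add, map_add, map_add, ha, hb]

theorem pair02_t2 (x : B ⊗[A] B) : pair02 (t2 (A' := A') j x) = t3 j (pair02 x) := by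
  induction x using TensorProduct.induction_on with
  | zero => simp
  | tmul a b => simp [t2, t3]
  | add a b ha hb => rw [map_add, map_add, map_add, map_add, ha, hb]

theorem pair12_t2 (x : B ⊗[A] B) : pair12 (t2 (A' := A') j x) = t3 j (pair12 x) := by
  simp [t3, Algebra.TensorProduct.includeRight_apply]

theorem diagHom_t2 (x : B ⊗[A] B) : diagHom (t2 (A' := A') j x) = j (diagHom x) := by
  induction x using TensorProduct.induction_on with
  | zero => simp
  | tmul a b => simp [t2]
  | add a b ha hb => rw [map_add, map_add, map_add, map_add, ha, hb]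

theorem t2_q0 (b : B) : t2 (A' := A') j (q0 b) = q0 (j b) := by simp [t2]

theorem t2_q1 (b : B) : t2 (A' := A') j (q1 b) = q1 (j b) := by simp [t2]

end Transfer

section BC

variable {A A' B : Type u} [CommRing A] [CommRing A'] [CommRing B] [Algebra A A'] [Algebra A B]

/-- The double tensor of a base change. -/
def bcHom : (A' ⊗[A] B) ⊗[A'] (A' ⊗[A] B) →ₐ[A'] A' ⊗[A] (B ⊗[A] B) :=
  Algebra.TensorProduct.lift (Algebra.TensorProduct.map (AlgHom.id A' A') (q0 (A := A) (B := B)))
    (Algebra.TensorProduct.map (AlgHom.id A' A') (q1 (A := A) (B := B))) (fun _ _ => Commute.all _ _)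

theorem bcHom_t2 (x : B ⊗[A] B) :
    bcHom (t2 (A' := A') (Algebra.TensorProduct.includeRight : B →ₐ[A] A' ⊗[A] B) x) = (1 : A') ⊗ₜ[A] x := by
  induction x using TensorProduct.induction_on with
  | zero => simp
  | tmul a b => simp [bcHom, t2]
  | add a b ha hb => rw [map_add, map_add, ha, hb, TensorProduct.tmul_add]

theorem bcHom_q0 (m : A' ⊗[A] B) : bcHom (q0 (A := A') m) =
    Algebra.TensorProduct.map (AlgHom.id A A') (q0 (A := A) (B := B)) m := by
  induction m using TensorProduct.induction_on with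
  | zero => simp
  | tmul a b => simp [bcHom]
  | add a b ha hb => rw [map_add, map_add, ha, hb, map_add]

theorem bcHom_q1 (m : A' ⊗[A] B) : bcHom (q1 (A := A') m) =
    Algebra.TensorProduct.map (AlgHom.id A A') (q1 (A := A) (B := B)) m := by
  induction m using TensorProduct.induction_on with
  | zero => simp
  | tmul a b => simp [bcHom]
  | add a b ha hb => rw [map_add, map_add, ha, hb, map_add]

end BC

/-- Unit cocycles become coboundaries over a base with surjective Frobenius. -/
theorem exists_base_coboundary {R' A B : Type u} [CommRing R'] [CommRing A] [CommRing B] [Algebra A R'[X]]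
    [Algebra A B] [Module.FaithfullyFlat A B] (p : ℕ) [Fact p.Prime] [CharP R' p]
    (hF : Function.Surjective (frobenius R' p)) (θ : (B ⊗[A] B)ˣ)
    (h2 : pair01 (θ : B ⊗[A] B) * pair12 (θ : B ⊗[A] B) = pair02 (θ : B ⊗[A] B))
    (h1 : diagHom (θ : B ⊗[A] B) = 1) (v : Bˣ) (hv : q0 (v : B) * (θ : B ⊗[A] B) ^ p = q1 (v : B)) :
    ∃ m : (R'[X] ⊗[A] B)ˣ, q0 (A := R'[X]) (m : R'[X] ⊗[A] B) *
      t2 (A' := R'[X]) (Algebra.TensorProduct.includeRight : B →ₐ[A] R'[X] ⊗[A] B) (θ : B ⊗[A] B) =
        q1 (A := R'[X]) (m : R'[X] ⊗[A] B) := by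
  let j : B →ₐ[A] R'[X] ⊗[A] B := Algebra.TensorProduct.includeRight
  exact exists_unit_coboundary (B := R'[X] ⊗[A] B) p hF (Units.map (t2 (A' := R'[X]) j).toMonoidHom θ)
    (by
      show pair01 (t2 j (θ : B ⊗[A] B)) * pair12 (t2 j (θ : B ⊗[A] B)) = pair02 (t2 j (θ : B ⊗[A] B))
      rw [pair01_t2, pair12_t2, pair02_t2, ← map_mul, h2])
    (by
      show diagHom (t2 j (θ : B ⊗[A] B)) = 1
      rw [diagHom_t2, h1, map_one])
    (Units.map j.toMonoidHom v)
    (by
      show q0 (j (v : B)) * (t2 j (θ : B ⊗[A] B)) ^ p = q1 (j (v : B))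
      rw [← t2_q0 j, ← t2_q1 j, ← map_pow, ← map_mul, hv])

namespace PRoots

section Descent

attribute [local instance] Polynomial.algebra

variable (p : ℕ) [hp : Fact p.Prime] {R : Type u} [CommRing R] [CharP R p]

/-- A unit cocycle killed by `p` up to coboundary becomes a coboundary over a finite stage. -/
theorem exists_unit_coboundary_stage (B : Type u) [CommRing B] [Algebra R[X] B] [Module.FaithfullyFlat R[X] B]
    (θ : (B ⊗[R[X]] B)ˣ)
    (h2 : pair01 (θ : B ⊗[R[X]] B) * pair12 (θ : B ⊗[R[X]] B) = pair02 (θ : B ⊗[R[X]] B))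
    (h1 : diagHom (θ : B ⊗[R[X]] B) = 1) (v : Bˣ)
    (hv : q0 (v : B) * (θ : B ⊗[R[X]] B) ^ p = q1 (v : B)) :
    ∃ (A : Stage p R) (m : (A.carrier[X] ⊗[R[X]] B)ˣ),
      Algebra.TensorProduct.map (AlgHom.id R[X] A.carrier[X]) (q0 (A := R[X]) (B := B))
            (m : A.carrier[X] ⊗[R[X]] B) * ((1 : A.carrier[X]) ⊗ₜ[R[X]] (θ : B ⊗[R[X]] B)) =
        Algebra.TensorProduct.map (AlgHom.id R[X] A.carrier[X]) (q1 (A := R[X]) (B := B))
            (m : A.carrier[X] ⊗[R[X]] B) := by
  classical
  let AI : Type u := (RInf p R)[X]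
  obtain ⟨m, hm⟩ := exists_base_coboundary p (surjective_frobenius_rInf p R) θ h2 h1 v hv
  let B' : Type u := AI ⊗[R[X]] B
  let j : B →ₐ[R[X]] B' := Algebra.TensorProduct.includeRight
  let Φ := bcHom (A := R[X]) (A' := AI) (B := B)
  have hΦ : ∀ x : B ⊗[R[X]] B, Φ (t2 j x) = (1 : AI) ⊗ₜ[R[X]] x := bcHom_t2
  have hm' := congrArg Φ hm
  rw [map_mul, show Φ (t2 j (θ : B ⊗[R[X]] B)) = _ from hΦ θ] at hm'
  let π := polyMap (Ideal.Quotient.mkₐ R (rel p R))
  let πB : (PR R)[X] ⊗[R[X]] B →ₐ[R[X]] B' := Algebra.TensorProduct.map π (AlgHom.id R[X] B)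
  have hπB : Function.Surjective πB := LinearMap.rTensor_surjective B
    (Polynomial.map_surjective _ Ideal.Quotient.mk_surjective : Function.Surjective π)
  obtain ⟨m₁, hm₁⟩ := hπB (m : B')
  obtain ⟨m₂, hm₂⟩ := hπB ((m⁻¹ : B'ˣ) : B')
  have hE₁ : πB (m₁ * m₂ - 1) = 0 := by rw [map_sub, map_mul, hm₁, hm₂, Units.mul_inv, map_one, sub_self]
  let Q : ∀ (C : Type u) [CommRing C] [Algebra R[X] C] (e : B →ₐ[R[X]] B ⊗[R[X]] B),
      C ⊗[R[X]] B →ₐ[R[X]] C ⊗[R[X]] (B ⊗[R[X]] B) := fun C _ _ e =>
    Algebra.TensorProduct.map (AlgHom.id R[X] C) e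
  have hQ : ∀ {C C' : Type u} [CommRing C] [CommRing C'] [Algebra R[X] C] [Algebra R[X] C'] (g : C →ₐ[R[X]] C')
      (e : B →ₐ[R[X]] B ⊗[R[X]] B) (x : C ⊗[R[X]] B),
      Algebra.TensorProduct.map g (AlgHom.id R[X] _) (Q C e x) =
        Q C' e (Algebra.TensorProduct.map g (AlgHom.id R[X] B) x) := fun g e x => by
    induction x using TensorProduct.induction_on with
    | zero => simp
    | tmul a b => simp [Q]
    | add a b ha hb => simp only [map_add, ha, hb]
  let E₂ : (PR R)[X] ⊗[R[X]] (B ⊗[R[X]] B) :=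
    Q _ q0 m₁ * ((1 : (PR R)[X]) ⊗ₜ[R[X]] (θ : B ⊗[R[X]] B)) - Q _ q1 m₁
  have hE₂ : Algebra.TensorProduct.map π (AlgHom.id R[X] (B ⊗[R[X]] B)) E₂ = 0 := by
    rw [map_sub, map_mul, hQ, hQ]
    show Q AI q0 (πB m₁) * _ - Q AI q1 (πB m₁) = 0
    rw [hm₁, Algebra.TensorProduct.map_tmul, map_one]
    refine sub_eq_zero.2 (Eq.trans ?_ (hm'.trans ?_))
    · exact congrArg₂ (· * ·) (bcHom_q0 (m : B')).symm rfl
    · exact bcHom_q1 (m : B')
  obtain ⟨s, hs, hs'⟩ := exists_finset_of_map_eq_zero p R B (m₁ * m₂ - 1) hE₁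
  obtain ⟨t, ht, ht'⟩ := exists_finset_of_map_eq_zero p R (B ⊗[R[X]] B) E₂ hE₂
  obtain ⟨A, φ, hφ⟩ := exists_stage p R (s ∪ t) fun y hy => (Finset.mem_union.1 hy).elim (hs y) (ht y)
  let φB := Algebra.TensorProduct.map (polyMap φ) (AlgHom.id R[X] B)
  have h₁ := hs' A.carrier φ fun y hy => hφ y (Finset.mem_union_left _ hy)
  have h₂ := ht' A.carrier φ fun y hy => hφ y (Finset.mem_union_right _ hy)
  rw [map_sub, map_mul, map_one, sub_eq_zero] at h₁
  refine ⟨A, (IsUnit.of_mul_eq_one (φB m₂) h₁).unit, ?_⟩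
  rw [map_sub, map_mul, hQ, hQ, Algebra.TensorProduct.map_tmul, map_one, sub_eq_zero] at h₂
  exact h₂

end Descent

end PRoots

end Groth.Agent.GaExt23
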