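import Groth.Agent.Lib.GaExt23.PLift
import Groth.Agent.Lib.GaExt23.PRoots
import Groth.Agent.Lib.AdeqA.Cartan
import Groth.Prelude.Def_CGrpSh2
import Groth.Prelude.Def_GmPts2

/-!
# Lifting sections killed by `p` along epimorphisms with kernel `Gm`
-/

set_option autoImplicit false
set_option linter.style.haveILetI false
set_option maxHeartbeats 1600000
set_option backward.isDefEq.respectTransparency false
set_option backward.isDefEq.respectTransparency.types false
universe u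

open CategoryTheory CategoryTheory.Limits AlgebraicGeometry Opposite TensorProduct MonObj

noncomputable section

namespace Groth.Agent.GaExt23

open TorsTriv25 AdeqA

section UnBC

variable {P A' B : Type u} [CommRing P] [CommRing A'] [CommRing B] [Algebra P A'] [Algebra P B]

theorem q0_mul_of_map_mul {θ : B ⊗[P] B} {m : A' ⊗[P] B}
    (h : Algebra.TensorProduct.map (AlgHom.id P A') (q0 (A := P) (B := B)) m * ((1 : A') ⊗ₜ[P] θ) =
      Algebra.TensorProduct.map (AlgHom.id P A') (q1 (A := P) (B := B)) m) :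
    q0 (A := A') m * t2 (A' := A') (Algebra.TensorProduct.includeRight : B →ₐ[P] A' ⊗[P] B) θ = q1 (A := A') m := by
  let j : B →ₐ[P] A' ⊗[P] B := Algebra.TensorProduct.includeRight
  let Ψ : A' ⊗[P] (B ⊗[P] B) →ₐ[A'] (A' ⊗[P] B) ⊗[A'] (A' ⊗[P] B) :=
    Algebra.TensorProduct.lift (Algebra.ofId A' _) (t2 (A' := A') j) (fun _ _ => Commute.all _ _)
  have hΨ : ∀ (e : B →ₐ[P] B ⊗[P] B) (e' : A' ⊗[P] B →ₐ[A'] (A' ⊗[P] B) ⊗[A'] (A' ⊗[P] B))
      (_ : ∀ b, t2 (A' := A') j (e b) = e' (j b)) (x : A' ⊗[P] B),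
      Ψ (Algebra.TensorProduct.map (AlgHom.id P A') e x) = e' x := fun e e' he x => by
    induction x using TensorProduct.induction_on with
    | zero => simp
    | tmul c b =>
      rw [Algebra.TensorProduct.map_tmul, AlgHom.id_apply]
      show Ψ (c ⊗ₜ[P] e b) = e' (c ⊗ₜ[P] b)
      rw [Algebra.TensorProduct.lift_tmul, he, Algebra.ofId_apply,
        show c ⊗ₜ[P] b = algebraMap A' (A' ⊗[P] B) c * j b by simp [j, Algebra.TensorProduct.algebraMap_apply],
        map_mul, AlgHom.commutes]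
    | add x y hx hy => simp only [map_add, hx, hy]
  have h' := congrArg Ψ h
  rw [map_mul, hΨ q0 q0 (t2_q0 j), hΨ q1 q1 (t2_q1 j), Algebra.TensorProduct.lift_tmul, map_one, _root_.one_mul] at h'
  exact h'

end UnBC

variable {S : Scheme.{u}} {A : CommRingCat.{u}} (a : Spec A ⟶ S)

/-- The obstruction to lifting a section killed by `p`. -/
theorem exists_obstruction (p : ℕ)
    {I Q : BigSite.Ab Scheme.fppfPrecoverage S} {i : CGrpSh2.Gm Scheme.fppfPrecoverage S ⟶ I} {π : I ⟶ Q} {w : i ≫ π = 0} (hC : (ShortComplex.mk i π w).ShortExact)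
    (s : Q.obj.obj (op (sOb a (Adeq.algOf A A)))) (hs : p • s = 0) :
    ∃ (B : Type u) (_ : CommRing B) (_ : Algebra A B) (_ : Module.FaithfullyFlat A B)
      (z : I.obj.obj (op (sOb a (Adeq.algOf A B))))
      (d : (CGrpSh2.Gm Scheme.fppfPrecoverage S).obj.obj (op (sOb a (Adeq.algOf A (B ⊗[A] B))))) (θ : (B ⊗[A] B)ˣ) (v : Bˣ),
      Sieve.ofArrows (fun _ : PUnit.{1} => sOb a (Adeq.algOf A B))
          (fun _ => sMap a (CommAlgCat.ofHom (Algebra.ofId A B) : Adeq.algOf A A ⟶ Adeq.algOf A B)) ∈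
        QuotSh.J Scheme.fppfPrecoverage S (sOb a (Adeq.algOf A A)) ∧
      π.hom.app _ z = Q.obj.map (sMap a (CommAlgCat.ofHom (Algebra.ofId A B) : Adeq.algOf A A ⟶ Adeq.algOf A B)).op s ∧
      i.hom.app _ d = I.obj.map (sMap a (CommAlgCat.ofHom q1 : Adeq.algOf A B ⟶ Adeq.algOf A (B ⊗[A] B))).op z -
        I.obj.map (sMap a (CommAlgCat.ofHom q0 : Adeq.algOf A B ⟶ Adeq.algOf A (B ⊗[A] B))).op z ∧
      gU a (Adeq.algOf A (B ⊗[A] B)) d = Additive.ofMul θ ∧
      pair01 (θ : B ⊗[A] B) * pair12 (θ : B ⊗[A] B) = pair02 (θ : B ⊗[A] B) ∧ diagHom (θ : B ⊗[A] B) = 1 ∧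
      q0 (v : B) * (θ : B ⊗[A] B) ^ p = q1 (v : B) := by
  haveI := hC.epi_g
  haveI : Sheaf.IsLocallySurjective π := (Sheaf.isLocallySurjective_iff_epi' _ π).2 inferInstance
  obtain ⟨J, _, _, A', _, _, hff, hcov, hT⟩ :=
    mem_fam_fppf a _ (Presheaf.imageSieve_mem _ π.hom (U := op (sOb a (Adeq.algOf A A))) s)
  choose y hy using hT
  obtain ⟨z, hz⟩ := exists_prod_glue a I A' y
  let B : Type u := ∀ j, A' j
  haveI := hff
  let B1 : Adeq.Alg A := Adeq.algOf A B
  let B2 : Adeq.Alg A := Adeq.algOf A (B ⊗[A] B)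
  let B3 : Adeq.Alg A := Adeq.algOf A (B ⊗[A] (B ⊗[A] B))
  let e : sOb a B1 ⟶ sOb a (Adeq.algOf A A) :=
    sMap a (CommAlgCat.ofHom (Algebra.ofId A B) : Adeq.algOf A A ⟶ B1)
  have hS₃ := (isSheaf_iff_isSheaf_of_type _ _).1
    ((Presheaf.isSheaf_iff_isSheaf_forget _ Q.obj (forget AddCommGrpCat.{u + 1})).1 Q.property)
  have hS₂ := (isSheaf_iff_isSheaf_of_type _ _).1
    ((Presheaf.isSheaf_iff_isSheaf_forget _ I.obj (forget AddCommGrpCat.{u + 1})).1 I.property)
  have hcB : Sieve.ofArrows (fun _ : PUnit.{1} => sOb a B1) (fun _ => e) ∈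
      QuotSh.J Scheme.fppfPrecoverage S (sOb a (Adeq.algOf A A)) := by
    refine GrothendieckTopology.superset_covering _ ?_ hcov
    rw [Sieve.generate_le_iff]
    rintro _ _ ⟨j⟩
    exact ⟨_, sMap a (CommAlgCat.ofHom (Pi.evalAlgHom A A' j) : B1 ⟶ Adeq.algOf A (A' j)), e,
      Presieve.ofArrows.mk PUnit.unit, by
        rw [← (Adeq.specOver a).map_comp]
        exact congrArg (sMap a) (CommAlgCat.hom_ext (Subsingleton.elim _ _))⟩
  have hzs : π.hom.app (op (sOb a B1)) z = Q.obj.map e.op s := by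
    have hc : Sieve.ofArrows (fun j => sOb a (Adeq.algOf A (A' j))) (fun j => sMap a
        (CommAlgCat.ofHom (Pi.evalAlgHom A A' j) : B1 ⟶ Adeq.algOf A (A' j))) ∈
        QuotSh.J Scheme.fppfPrecoverage S (sOb a B1) := cover_prod a A'
    refine (hS₃ _ hc).isSeparatedFor.ext fun Z g hg => ?_
    obtain ⟨_, c, _, ⟨j⟩, rfl⟩ := hg
    rw [op_comp, Functor.map_comp]
    refine congrArg (fun w => ((Q.obj ⋙ forget AddCommGrpCat.{u + 1}).map c.op) w) ?_
    refine (NatTrans.naturality_apply π.hom _ z).symm.trans ((congrArg _ (hz j)).trans ((hy j).trans ?_))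
    have he : sMap a (CommAlgCat.ofHom (Pi.evalAlgHom A A' j) : B1 ⟶ Adeq.algOf A (A' j)) ≫ e =
        sMap a (CommAlgCat.ofHom (Algebra.ofId A (A' j))) := by
      rw [← (Adeq.specOver a).map_comp]
      exact congrArg (sMap a) (CommAlgCat.hom_ext (Subsingleton.elim _ _))
    exact ConcreteCategory.congr_hom
      ((congrArg (fun t => Q.obj.map (Quiver.Hom.op t)) he.symm).trans (Q.obj.map_comp e.op _)) s
  -- restrictions
  let r : ∀ {C C' : Adeq.Alg A} (f : C ⟶ C'), I.obj.obj (op (sOb a C)) → I.obj.obj (op (sOb a C')) :=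
    fun f t => I.obj.map (sMap a f).op t
  have r_comp : ∀ {C C' C'' : Adeq.Alg A} (f : C ⟶ C') (g : C' ⟶ C'') t, r g (r f t) = r (f ≫ g) t := fun f g t => by
    show I.obj.map _ (I.obj.map _ t) = I.obj.map _ t
    rw [← ConcreteCategory.comp_apply, ← Functor.map_comp, ← op_comp, ← (Adeq.specOver a).map_comp]
    rfl
  have hri : ∀ {C C' : Adeq.Alg A} (f : C ⟶ C') (x), r f (i.hom.app (op (sOb a C)) x) =
      i.hom.app (op (sOb a C')) ((CGrpSh2.Gm Scheme.fppfPrecoverage S).obj.map (sMap a f).op x) :=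
    fun f x => (NatTrans.naturality_apply i.hom _ x).symm
  let Q0 : B1 ⟶ B2 := CommAlgCat.ofHom q0
  let Q1 : B1 ⟶ B2 := CommAlgCat.ofHom q1
  let D : B2 ⟶ B1 := CommAlgCat.ofHom diagHom
  let P01 : B2 ⟶ B3 := CommAlgCat.ofHom pair01
  let P12 : B2 ⟶ B3 := CommAlgCat.ofHom pair12
  let P02 : B2 ⟶ B3 := CommAlgCat.ofHom pair02
  have hπr : ∀ {C' : Adeq.Alg A} (f : B1 ⟶ C'), π.hom.app (op (sOb a C')) (r f z) =
      Q.obj.map (sMap a (CommAlgCat.ofHom (Algebra.ofId A C') : Adeq.algOf A A ⟶ C')).op s := fun {C'} f => by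
    show π.hom.app _ (I.obj.map _ z) = _
    rw [NatTrans.naturality_apply π.hom, hzs, ← ConcreteCategory.comp_apply, ← Functor.map_comp, ← op_comp,
      ← (Adeq.specOver a).map_comp, ← op_comp]
    exact congrArg (fun t => Q.obj.map (sMap a t).op s) (CommAlgCat.hom_ext (Subsingleton.elim _ _))
  obtain ⟨d, hd⟩ := exists_app_f hC (op (sOb a B2)) (r Q1 z - r Q0 z) (by
    show π.hom.app _ _ = 0
    rw [map_sub, hπr, hπr, sub_self])
  obtain ⟨v₀, hv₀⟩ := exists_app_f hC (op (sOb a B1)) (p • z) (by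
    show π.hom.app _ _ = 0
    rw [map_nsmul, hzs, ← map_nsmul, hs, map_zero])
  change i.hom.app _ d = _ at hd
  change i.hom.app _ v₀ = _ at hv₀
  let θ : (B ⊗[A] B)ˣ := (gU a B2 d).toMul
  let Gmap {C C' : Adeq.Alg A} (f : C ⟶ C') (x : (CGrpSh2.Gm Scheme.fppfPrecoverage S).obj.obj (op (sOb a C))) :=
    (CGrpSh2.Gm Scheme.fppfPrecoverage S).obj.map (sMap a f).op x
  have iinj : ∀ (C : Adeq.Alg A), Function.Injective (i.hom.app (op (sOb a C))) := fun C =>
    injective_app_f hC (op (sOb a C))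
  have hcomb : Gmap P01 d + Gmap P12 d = Gmap P02 d := iinj B3 (by
    rw [map_add, ← hri, ← hri, ← hri, hd]
    show I.obj.map _ _ + I.obj.map _ _ = I.obj.map _ _
    rw [map_sub, map_sub, map_sub]
    show r P01 (r Q1 z) - r P01 (r Q0 z) + (r P12 (r Q1 z) - r P12 (r Q0 z)) = r P02 (r Q1 z) - r P02 (r Q0 z)
    rw [r_comp, r_comp, r_comp, r_comp, r_comp, r_comp]
    have e1 : Q1 ≫ P01 = Q0 ≫ P12 := CommAlgCat.hom_ext (pair01_q1)
    have e2 : Q0 ≫ P01 = Q0 ≫ P02 := CommAlgCat.hom_ext (pair01_q0.trans pair02_q0.symm)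
    have e3 : Q1 ≫ P12 = Q1 ≫ P02 := CommAlgCat.hom_ext (pair02_q1.symm)
    rw [e1, e2, e3]
    abel)
  have h2 : pair01 (θ : B ⊗[A] B) * pair12 (θ : B ⊗[A] B) = pair02 (θ : B ⊗[A] B) := by
    have h := congrArg (fun t => ((gU a B3 t).toMul : (B3 : Type u))) hcomb
    simp only [map_add, toMul_add, Units.val_mul] at h
    rwa [gU_map a P01, gU_map a P12, gU_map a P02] at h
  have hD : Gmap D d = 0 := iinj B1 (by
    rw [map_zero, ← hri, hd]
    show I.obj.map _ _ = 0
    rw [map_sub]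
    show r D (r Q1 z) - r D (r Q0 z) = 0
    rw [r_comp, r_comp]
    have e : Q1 ≫ D = Q0 ≫ D := CommAlgCat.hom_ext (AlgHom.ext fun (x : B) => by
      show Algebra.TensorProduct.lmul' A ((1 : B) ⊗ₜ[A] x) = Algebra.TensorProduct.lmul' A (x ⊗ₜ[A] (1 : B))
      rw [Algebra.TensorProduct.lmul'_apply_tmul, Algebra.TensorProduct.lmul'_apply_tmul, mul_comm])
    rw [e, sub_self])
  have h1 : diagHom (θ : B ⊗[A] B) = 1 := by
    have h := congrArg (fun t => ((gU a B1 t).toMul : (B1 : Type u))) hD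
    simp only [map_zero, toMul_zero, Units.val_one] at h
    rwa [gU_map a D] at h
  let v : Bˣ := (gU a B1 v₀).toMul
  have hvd : Gmap Q0 v₀ + p • d = Gmap Q1 v₀ := iinj B2 (by
    rw [map_add, map_nsmul, ← hri, ← hri, hd, hv₀]
    show I.obj.map _ _ + _ = I.obj.map _ _
    rw [map_nsmul, map_nsmul, smul_sub]
    show p • r Q0 z + (p • r Q1 z - p • r Q0 z) = p • r Q1 z
    abel)
  have hv : q0 (v : B) * (θ : B ⊗[A] B) ^ p = q1 (v : B) := by
    have h := congrArg (fun t => ((gU a B2 t).toMul : (B2 : Type u))) hvd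
    simp only [map_add, map_nsmul, toMul_add, toMul_nsmul, Units.val_mul, Units.val_pow_eq_pow_val] at h
    rwa [gU_map a Q0, gU_map a Q1] at h
  exact ⟨B, inferInstance, inferInstance, hff, z, d, θ, v, hcB, hzs, hd, rfl, h2, h1, hv⟩

/-- Gluing a lift from a cover. -/
theorem exists_lift_of_glue {I Q : BigSite.Ab Scheme.fppfPrecoverage S} (π : I ⟶ Q) (B : Type u) [CommRing B] [Algebra A B]
    (s : Q.obj.obj (op (sOb a (Adeq.algOf A A)))) (y₁ : I.obj.obj (op (sOb a (Adeq.algOf A B))))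
    (hcB : Sieve.ofArrows (fun _ : PUnit.{1} => sOb a (Adeq.algOf A B))
          (fun _ => sMap a (CommAlgCat.ofHom (Algebra.ofId A B) : Adeq.algOf A A ⟶ Adeq.algOf A B)) ∈
        QuotSh.J Scheme.fppfPrecoverage S (sOb a (Adeq.algOf A A)))
    (hy₁s : π.hom.app _ y₁ = Q.obj.map (sMap a (CommAlgCat.ofHom (Algebra.ofId A B) : Adeq.algOf A A ⟶ Adeq.algOf A B)).op s)
    (hy₁ : I.obj.map (sMap a (CommAlgCat.ofHom q0 : Adeq.algOf A B ⟶ Adeq.algOf A (B ⊗[A] B))).op y₁ =
      I.obj.map (sMap a (CommAlgCat.ofHom q1 : Adeq.algOf A B ⟶ Adeq.algOf A (B ⊗[A] B))).op y₁) :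
    ∃ t, π.hom.app _ t = s := by
  let B1 : Adeq.Alg A := Adeq.algOf A B
  let B2 : Adeq.Alg A := Adeq.algOf A (B ⊗[A] B)
  let e : sOb a B1 ⟶ sOb a (Adeq.algOf A A) :=
    sMap a (CommAlgCat.ofHom (Algebra.ofId A B) : Adeq.algOf A A ⟶ B1)
  let Q0 : B1 ⟶ B2 := CommAlgCat.ofHom q0
  let Q1 : B1 ⟶ B2 := CommAlgCat.ofHom q1
  have hS₃ := (isSheaf_iff_isSheaf_of_type _ _).1
    ((Presheaf.isSheaf_iff_isSheaf_forget _ Q.obj (forget AddCommGrpCat.{u + 1})).1 Q.property)
  have hS₂ := (isSheaf_iff_isSheaf_of_type _ _).1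
    ((Presheaf.isSheaf_iff_isSheaf_forget _ I.obj (forget AddCommGrpCat.{u + 1})).1 I.property)
  -- glue
  obtain ⟨t, ht, -⟩ := (Presieve.isSheafFor_arrows_iff _ _).1 (hS₂.isSheafFor _ hcB) (fun _ => y₁)
    fun _ _ W gj gk h => by
      have hb : gj.left ≫ Spec.map (CommRingCat.ofHom (algebraMap A B)) = gk.left ≫ Spec.map (CommRingCat.ofHom (algebraMap A B)) :=
        congrArg CommaMorphism.left h
      have hb' := congrArg toSec hb
      rw [toSec_comp, toSec_comp] at hb'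
      obtain ⟨φ, hφ1, hφ2⟩ := exists_ringHom_tensor (R := A) (toSec gj.left).hom (toSec gk.left).hom
        (congrArg CommRingCat.Hom.hom hb')
      let g : W ⟶ sOb a B2 := Over.homMk (W.left.toSpecΓ ≫ Spec.map (CommRingCat.ofHom φ)) (by
        rw [← Over.w gj]
        show _ ≫ Spec.map _ ≫ a = gj.left ≫ Spec.map _ ≫ a
        rw [← Category.assoc, ← Category.assoc]
        refine congrArg (· ≫ a) (toSec_injective ?_)
        rw [toSec_comp, toSec_ofSec, toSec_comp]
        exact CommRingCat.hom_ext (RingHom.ext fun x => hφ1 (algebraMap A B x)))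
      have f0 : g ≫ sMap a Q0 = gj := Over.OverMorphism.ext (toSec_injective (by
        show toSec ((_ ≫ _) ≫ Spec.map _) = _
        rw [toSec_comp, toSec_ofSec]
        exact CommRingCat.hom_ext (RingHom.ext fun x => hφ1 x)))
      have f1 : g ≫ sMap a Q1 = gk := Over.OverMorphism.ext (toSec_injective (by
        show toSec ((_ ≫ _) ≫ Spec.map _) = _
        rw [toSec_comp, toSec_ofSec]
        exact CommRingCat.hom_ext (RingHom.ext fun x => hφ2 x)))
      show I.obj.map gj.op y₁ = I.obj.map gk.op y₁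
      rw [← f0, ← f1, op_comp, op_comp, Functor.map_comp, Functor.map_comp]
      exact congrArg (fun q => I.obj.map g.op q) hy₁
  refine ⟨t, (hS₃ _ hcB).isSeparatedFor.ext fun Z g hg => ?_⟩
  obtain ⟨_, c, _, ⟨⟨⟩⟩, rfl⟩ := hg
  rw [op_comp, Functor.map_comp]
  refine congrArg (fun w => ((Q.obj ⋙ forget AddCommGrpCat.{u + 1}).map c.op) w) ?_
  refine (NatTrans.naturality_apply π.hom e.op t).symm.trans ?_
  refine (congrArg (π.hom.app _) (ht PUnit.unit)).trans ?_
  exact hy₁s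

section Cross

variable (A' : CommRingCat.{u}) [Algebra A A']

/-- The structure map after a change of base. -/
abbrev aB : Spec A' ⟶ S := Spec.map (CommRingCat.ofHom (algebraMap A A')) ≫ a

variable {A'}

/-- Morphisms between spectra over different bases. -/
def xMap {C : Adeq.Alg A} {C' : Adeq.Alg A'} (f : (C : Type u) →+* (C' : Type u))
    (hf : f.comp (algebraMap A C) = (algebraMap A' C').comp (algebraMap A A')) : sOb (aB a A') C' ⟶ sOb a C :=
  Over.homMk (Spec.map (CommRingCat.ofHom f)) (by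
    show Spec.map (CommRingCat.ofHom f) ≫ Spec.map _ ≫ a = Spec.map _ ≫ Spec.map _ ≫ a
    rw [← Spec.map_comp_assoc, ← Spec.map_comp_assoc, ← CommRingCat.ofHom_comp, ← CommRingCat.ofHom_comp, hf])

theorem xMap_sMap {C D : Adeq.Alg A} {C' D' : Adeq.Alg A'} (f : (C : Type u) →+* (C' : Type u))
    (hf : f.comp (algebraMap A C) = (algebraMap A' C').comp (algebraMap A A'))
    (g : (D : Type u) →+* (D' : Type u))
    (hg : g.comp (algebraMap A D) = (algebraMap A' D').comp (algebraMap A A'))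
    (h : C ⟶ D) (h' : C' ⟶ D') (e : g.comp h.hom.toRingHom = h'.hom.toRingHom.comp f) :
    xMap a g hg ≫ sMap a h = sMap (aB a A') h' ≫ xMap a f hf := by
  apply Over.OverMorphism.ext
  show Spec.map (CommRingCat.ofHom g) ≫ Spec.map (CommRingCat.ofHom h.hom.toRingHom) =
    Spec.map (CommRingCat.ofHom h'.hom.toRingHom) ≫ Spec.map (CommRingCat.ofHom f)
  rw [← Spec.map_comp, ← Spec.map_comp, ← CommRingCat.ofHom_comp, ← CommRingCat.ofHom_comp, e]

theorem gU_xMap {C : Adeq.Alg A} {C' : Adeq.Alg A'} (f : (C : Type u) →+* (C' : Type u))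
    (hf : f.comp (algebraMap A C) = (algebraMap A' C').comp (algebraMap A A'))
    (x : (CGrpSh2.Gm Scheme.fppfPrecoverage S).obj.obj (op (sOb a C))) :
    ((gU (aB a A') C' ((CGrpSh2.Gm Scheme.fppfPrecoverage S).obj.map (xMap a f hf).op x)).toMul : (C' : Type u)) =
      f ((gU a C x).toMul : (C : Type u)) := by
  show (Scheme.ΓSpecIso (CommRingCat.of (C' : Type u))).hom
    ((GmPts.unitOfPt (xMap a f hf ≫ (ULift.down x).toMul) : Γ((sOb (aB a A') C').left, ⊤))) = _
  rw [GmPts.unitOfPt_comp]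
  exact ConcreteCategory.congr_hom (Scheme.ΓSpecIso_naturality (CommRingCat.ofHom f))
    ((GmPts.unitOfPt (ULift.down x).toMul : Γ((sOb a C).left, ⊤)))

/-- The base change of a cover. -/
theorem cover_baseChange (B : Type u) [CommRing B] [Algebra A B]
    (hcB : Sieve.ofArrows (fun _ : PUnit.{1} => sOb a (Adeq.algOf A B))
          (fun _ => sMap a (CommAlgCat.ofHom (Algebra.ofId A B) : Adeq.algOf A A ⟶ Adeq.algOf A B)) ∈
        QuotSh.J Scheme.fppfPrecoverage S (sOb a (Adeq.algOf A A))) :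
    Sieve.ofArrows (fun _ : PUnit.{1} => sOb (aB a A') (Adeq.algOf A' (A' ⊗[A] B)))
        (fun _ => sMap (aB a A') (CommAlgCat.ofHom (Algebra.ofId A' (A' ⊗[A] B)) :
          Adeq.algOf A' A' ⟶ Adeq.algOf A' (A' ⊗[A] B))) ∈
      QuotSh.J Scheme.fppfPrecoverage S (sOb (aB a A') (Adeq.algOf A' A')) := by
  let f : sOb (aB a A') (Adeq.algOf A' A') ⟶ sOb a (Adeq.algOf A A) :=
    xMap a (C := Adeq.algOf A A) (C' := Adeq.algOf A' A') (algebraMap A A') (RingHom.ext fun _ => rfl)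
  refine GrothendieckTopology.superset_covering _ (fun Z g hg => ?_)
    ((QuotSh.J Scheme.fppfPrecoverage S).pullback_stable f hcB)
  obtain ⟨_, c, _, ⟨⟨⟩⟩, hc⟩ := hg
  have hb := congrArg toSec (congrArg CommaMorphism.left hc)
  change toSec (c.left ≫ Spec.map (CommRingCat.ofHom (algebraMap A B))) =
    toSec (g.left ≫ Spec.map (CommRingCat.ofHom (algebraMap A A'))) at hb
  rw [toSec_comp, toSec_comp] at hb
  obtain ⟨φ, hφ1, hφ2⟩ := exists_ringHom_tensor (R := A) (toSec g.left).hom (toSec c.left).hom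
    (congrArg CommRingCat.Hom.hom hb.symm)
  let k : Z ⟶ sOb (aB a A') (Adeq.algOf A' (A' ⊗[A] B)) :=
    Over.homMk (Z.left.toSpecΓ ≫ Spec.map (CommRingCat.ofHom φ)) (by
      rw [← Over.w g]
      show _ ≫ Spec.map _ ≫ aB a A' = g.left ≫ Spec.map _ ≫ aB a A'
      refine (Category.assoc _ _ _).symm.trans ((congrArg (· ≫ aB a A') (toSec_injective ?_)).trans (Category.assoc _ _ _))
      rw [toSec_comp, toSec_ofSec, toSec_comp]
      exact CommRingCat.hom_ext (RingHom.ext fun x => hφ1 (algebraMap A' A' x)))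
  refine ⟨_, k, _, Presieve.ofArrows.mk PUnit.unit, Over.OverMorphism.ext (toSec_injective ?_)⟩
  show toSec ((_ ≫ _) ≫ Spec.map (CommRingCat.ofHom (algebraMap A' (A' ⊗[A] B)))) = toSec g.left
  rw [toSec_comp, toSec_ofSec]
  exact CommRingCat.hom_ext (RingHom.ext fun x => hφ1 x)

end Cross

section Stage

attribute [local instance] Polynomial.algebra

/-- A section killed by `p` over a line lifts after a finite stage. -/
theorem exists_lift_stage {R : Type u} [CommRing R] (p : ℕ) [Fact p.Prime] [CharP R p]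
    (a : Spec (CommRingCat.of (Polynomial R)) ⟶ S)
    {I Q : BigSite.Ab Scheme.fppfPrecoverage S} {i : CGrpSh2.Gm Scheme.fppfPrecoverage S ⟶ I} {π : I ⟶ Q}
    {w : i ≫ π = 0} (hC : (ShortComplex.mk i π w).ShortExact)
    (s : Q.obj.obj (op (sOb a (Adeq.algOf (Polynomial R) (Polynomial R))))) (hs : p • s = 0) :
    ∃ (T : Stage p R) (f : sOb (aB a (CommRingCat.of (Polynomial T.carrier)))
        (Adeq.algOf (Polynomial T.carrier) (Polynomial T.carrier)) ⟶ sOb a (Adeq.algOf (Polynomial R) (Polynomial R))),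
      f.left = Spec.map (CommRingCat.ofHom (Polynomial.mapRingHom (algebraMap R T.carrier))) ∧
        ∃ t, π.hom.app _ t = Q.obj.map f.op s := by
  obtain ⟨B, _, _, _, z, d, θ, v, hcB, hzs, hd, hdθ, h2, h1, hv⟩ := exists_obstruction a p hC s hs
  obtain ⟨T, m, hm⟩ := PRoots.exists_unit_coboundary_stage p B θ h2 h1 v hv
  let A' : CommRingCat.{u} := CommRingCat.of (Polynomial T.carrier)
  let P : CommRingCat.{u} := CommRingCat.of (Polynomial R)
  let B' : Type u := A' ⊗[P] B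
  let f : sOb (aB a A') (Adeq.algOf A' A') ⟶ sOb a (Adeq.algOf P P) :=
    xMap a (C := Adeq.algOf P P) (C' := Adeq.algOf A' A') (algebraMap P A') (RingHom.ext fun _ => rfl)
  let j : B →ₐ[P] B' := Algebra.TensorProduct.includeRight
  let gB : sOb (aB a A') (Adeq.algOf A' B') ⟶ sOb a (Adeq.algOf P B) :=
    xMap a (C := Adeq.algOf P B) (C' := Adeq.algOf A' B') j.toRingHom (RingHom.ext fun x => j.commutes x)
  let g2 : sOb (aB a A') (Adeq.algOf A' (B' ⊗[A'] B')) ⟶ sOb a (Adeq.algOf P (B ⊗[P] B)) :=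
    xMap a (C := Adeq.algOf P (B ⊗[P] B)) (C' := Adeq.algOf A' (B' ⊗[A'] B')) (t2 (A' := A') j).toRingHom
      (RingHom.ext fun x => (t2 (A' := A') j).commutes x)
  have hmθ : q0 (A := A') (m : B') * t2 (A' := A') j (θ : B ⊗[P] B) = q1 (A := A') (m : B') :=
    q0_mul_of_map_mul hm
  obtain ⟨m₀, hm₀⟩ := gU_surjective (aB a A') (Adeq.algOf A' B') m
  let C1 : Adeq.Alg A' := Adeq.algOf A' B'
  let C2 : Adeq.Alg A' := Adeq.algOf A' (B' ⊗[A'] B')
  let Q0 : C1 ⟶ C2 := CommAlgCat.ofHom q0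
  let Q1 : C1 ⟶ C2 := CommAlgCat.ofHom q1
  let d' := (CGrpSh2.Gm Scheme.fppfPrecoverage S).obj.map g2.op d
  have hmd : (CGrpSh2.Gm Scheme.fppfPrecoverage S).obj.map (sMap (aB a A') Q0).op m₀ + d' =
      (CGrpSh2.Gm Scheme.fppfPrecoverage S).obj.map (sMap (aB a A') Q1).op m₀ := gU_injective (aB a A') C2 (by
    refine Additive.toMul.injective (Units.ext ?_)
    rw [map_add, toMul_add, Units.val_mul, gU_map (aB a A') Q0, gU_map (aB a A') Q1, gU_xMap, hm₀, hdθ]
    exact hmθ)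
  let y₁ : I.obj.obj (op (sOb (aB a A') C1)) := I.obj.map gB.op z - i.hom.app _ m₀
  have hg0 : g2 ≫ sMap a (CommAlgCat.ofHom q0 : Adeq.algOf P B ⟶ Adeq.algOf P (B ⊗[P] B)) =
      sMap (aB a A') Q0 ≫ gB := xMap_sMap a _ _ _ _ _ _ (RingHom.ext fun b => t2_q0 j b)
  have hg1 : g2 ≫ sMap a (CommAlgCat.ofHom q1 : Adeq.algOf P B ⟶ Adeq.algOf P (B ⊗[P] B)) =
      sMap (aB a A') Q1 ≫ gB := xMap_sMap a _ _ _ _ _ _ (RingHom.ext fun b => t2_q1 j b)
  refine ⟨T, f, rfl, exists_lift_of_glue (aB a A') π B' _ y₁ (cover_baseChange a B hcB) ?_ ?_⟩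
  · have h0 : π.hom.app _ (i.hom.app _ m₀) = 0 := ConcreteCategory.congr_hom
      (congrArg (fun k : CGrpSh2.Gm Scheme.fppfPrecoverage S ⟶ Q => k.hom.app (op (sOb (aB a A') C1))) w) m₀
    have he : gB ≫ sMap a (CommAlgCat.ofHom (Algebra.ofId P B) : Adeq.algOf P P ⟶ Adeq.algOf P B) =
        sMap (aB a A') (CommAlgCat.ofHom (Algebra.ofId A' B') : Adeq.algOf A' A' ⟶ Adeq.algOf A' B') ≫ f :=
      xMap_sMap a _ _ _ _ _ _ (RingHom.ext fun x => j.commutes x)
    show π.hom.app _ (I.obj.map gB.op z - _) = _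
    rw [map_sub, h0, sub_zero, NatTrans.naturality_apply π.hom, hzs, ← ConcreteCategory.comp_apply,
      ← Functor.map_comp, ← op_comp, he, op_comp, Functor.map_comp]
    rfl
  · show I.obj.map _ (I.obj.map gB.op z - _) = I.obj.map _ (I.obj.map gB.op z - _)
    have hgd : i.hom.app _ d' = I.obj.map (sMap (aB a A') Q1).op (I.obj.map gB.op z) -
        I.obj.map (sMap (aB a A') Q0).op (I.obj.map gB.op z) := by
      refine (NatTrans.naturality_apply i.hom g2.op d).trans ((congrArg (I.obj.map g2.op) hd).trans ?_)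
      rw [map_sub]
      refine congrArg₂ (· - ·) ?_ ?_
      · refine (ConcreteCategory.congr_hom (I.obj.map_comp _ g2.op).symm z).trans ?_
        rw [← op_comp, hg1, op_comp, Functor.map_comp]
        rfl
      · refine (ConcreteCategory.congr_hom (I.obj.map_comp _ g2.op).symm z).trans ?_
        rw [← op_comp, hg0, op_comp, Functor.map_comp]
        rfl
    have hi := congrArg (i.hom.app (op (sOb (aB a A') C2))) hmd
    rw [map_add, hgd, NatTrans.naturality_apply i.hom (sMap (aB a A') Q0).op m₀,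
      NatTrans.naturality_apply i.hom (sMap (aB a A') Q1).op m₀] at hi
    rw [map_sub, map_sub]
    rw [← hi]
    abel

end Stage

end Groth.Agent.GaExt23
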