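import Groth.Agent.Lib.TorsTriv25.Ring
import Mathlib.RingTheory.Polynomial.Nilpotent
import Mathlib.Algebra.CharP.Algebra
import Mathlib.Algebra.Polynomial.Derivative
import Mathlib.Data.ZMod.Basic
import Mathlib.RingTheory.Ideal.BigOperators

/-!
# Unit cocycles killed by `p` over polynomial rings with surjective Frobenius
-/

set_option autoImplicit false
universe u

open TensorProduct Polynomial

noncomputable section

namespace Groth.Agent.GaExt23

open TorsTriv25

/-- A `p`-semilinear map to the polynomials over a perfect reduced ring with image generating the unit ideal takes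
values in `p`-th powers, as soon as any two of its values are linearly related through `p`-th powers. -/
theorem derivative_eq_zero_of_semilinear {S : Type u} [CommRing S] [_root_.IsReduced S] {ι : Type*} (φ : ι → S[X])
    (W : ∀ m n, derivative (φ m) * φ n = φ m * derivative (φ n))
    (hone : ∃ (s : Finset ι) (r : ι → S[X]), ∑ i ∈ s, r i * φ i = 1) (m : ι) : derivative (φ m) = 0 := by
  obtain ⟨s, r, hr⟩ := hone
  set f : S[X] := ∑ i ∈ s, r i * derivative (φ i) with hf
  have key : derivative (φ m) = f * φ m := by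
    calc derivative (φ m) = (∑ i ∈ s, r i * φ i) * derivative (φ m) := by rw [hr, one_mul]
      _ = ∑ i ∈ s, r i * derivative (φ i) * φ m := by
          rw [Finset.sum_mul]
          refine Finset.sum_congr rfl fun i _ => ?_
          rw [mul_assoc, ← W i m, ← mul_assoc]
      _ = f * φ m := by rw [hf, Finset.sum_mul]
  ext n
  rw [coeff_zero]
  refine IsReduced.eq_zero _ (nilpotent_iff_mem_prime.2 fun q hq => ?_)
  haveI := hq
  have e : derivative ((φ m).map (Ideal.Quotient.mk q)) =
      f.map (Ideal.Quotient.mk q) * (φ m).map (Ideal.Quotient.mk q) := by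
    rw [derivative_map, key, Polynomial.map_mul]
  have h0 : derivative ((φ m).map (Ideal.Quotient.mk q)) = 0 := by
    by_contra h
    set b := (φ m).map (Ideal.Quotient.mk q)
    have hb : b ≠ 0 := fun hb => h (by rw [hb, derivative_zero])
    have hfb : f.map (Ideal.Quotient.mk q) ≠ 0 := fun hf' => h (by rw [e, hf', zero_mul])
    have h1 : (derivative b).degree < b.degree := degree_derivative_lt hb
    have h2 : b.degree ≤ (f.map (Ideal.Quotient.mk q) * b).degree := by
      rw [mul_comm]; exact degree_le_mul_left b hfb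
    rw [e] at h1
    exact absurd h1 (not_lt.2 h2)
  have := congrArg (fun g : (S ⧸ q)[X] => g.coeff n) h0
  simp only [derivative_map, coeff_map, coeff_zero] at this
  exact (Ideal.Quotient.eq_zero_iff_mem.1 this)

/-- A polynomial with zero derivative over a perfect ring of characteristic `p` is a `p`-th power. -/
theorem exists_pow_eq_of_derivative {S : Type u} [CommRing S] {p : ℕ} [hp : Fact p.Prime] [CharP S p]
    (hF : Function.Surjective (frobenius S p)) {b : S[X]} (hb : derivative b = 0) : ∃ c : S[X], c ^ p = b := by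
  refine ⟨∑ n ∈ b.support, monomial (n / p) (Function.surjInv hF (b.coeff n)), ?_⟩
  haveI : ExpChar S p := ExpChar.prime hp.out
  rw [sum_pow_char]
  conv_rhs => rw [b.as_sum_support]
  refine Finset.sum_congr rfl fun n hn => ?_
  have hdiv : p ∣ n := by
    rcases Nat.eq_zero_or_pos n with rfl | hn0
    · exact dvd_zero p
    by_contra hpn
    have h1 := congrArg (fun g : S[X] => g.coeff (n - 1)) hb
    simp only [coeff_derivative, coeff_zero] at h1
    rw [← Nat.cast_succ, Nat.succ_eq_add_one, Nat.sub_add_cancel hn0] at h1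
    have hu : IsUnit ((n : ℕ) : S) := by
      have h1 : IsUnit ((n : ℕ) : ZMod p) :=
        (ZMod.isUnit_iff_coprime n p).2 ((Nat.Prime.coprime_iff_not_dvd hp.out).2 hpn).symm
      have h2 := h1.map (ZMod.castHom dvd_rfl S)
      rwa [map_natCast] at h2
    exact (mem_support_iff.1 hn) ((hu.mul_left_eq_zero).1 h1)
  rw [monomial_pow, Nat.div_mul_cancel hdiv]
  exact congrArg (monomial n) ((frobenius_def p _).symm.trans (Function.surjInv_eq hF _))

variable {R B : Type u} [CommRing R] [CommRing B] [Algebra R[X] B]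

/-- A unit cocycle whose `p`-th power is a coboundary is a coboundary, over `R[X]` for `R` with surjective Frobenius. -/
theorem exists_unit_coboundary (p : ℕ) [hp : Fact p.Prime] [CharP R p] (hF : Function.Surjective (frobenius R p))
    [Module.FaithfullyFlat R[X] B] (θ : (B ⊗[R[X]] B)ˣ)
    (h2 : pair01 (θ : B ⊗[R[X]] B) * pair12 (θ : B ⊗[R[X]] B) = pair02 (θ : B ⊗[R[X]] B))
    (h1 : diagHom (θ : B ⊗[R[X]] B) = 1) (v : Bˣ)
    (hv : q0 (v : B) * (θ : B ⊗[R[X]] B) ^ p = q1 (v : B)) :
    ∃ m : Bˣ, q0 (m : B) * (θ : B ⊗[R[X]] B) = q1 (m : B) := by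
  have hinj : Function.Injective (algebraMap R[X] B) := FaithfulSMul.algebraMap_injective _ _
  haveI : CharP R[X] p := inferInstance
  haveI : CharP B p := charP_of_injective_algebraMap hinj p
  haveI : ExpChar B p := ExpChar.prime hp.out
  have h1' : diagHom ((θ⁻¹ : (B ⊗[R[X]] B)ˣ) : B ⊗[R[X]] B) = 1 := by
    have := congrArg diagHom θ.inv_mul
    rwa [map_mul, h1, mul_one, map_one] at this
  have h2' : pair01 ((θ⁻¹ : (B ⊗[R[X]] B)ˣ) : B ⊗[R[X]] B) * pair12 ((θ⁻¹ : (B ⊗[R[X]] B)ˣ) : B ⊗[R[X]] B) =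
      pair02 ((θ⁻¹ : (B ⊗[R[X]] B)ˣ) : B ⊗[R[X]] B) := by
    have e : Units.map (pair01 (A := R[X]) (B := B)).toMonoidHom θ * Units.map (pair12 (A := R[X]) (B := B)).toMonoidHom θ =
        Units.map (pair02 (A := R[X]) (B := B)).toMonoidHom θ := Units.ext h2
    have e' : Units.map (pair01 (A := R[X]) (B := B)).toMonoidHom θ⁻¹ * Units.map (pair12 (A := R[X]) (B := B)).toMonoidHom θ⁻¹ =
        Units.map (pair02 (A := R[X]) (B := B)).toMonoidHom θ⁻¹ := by
      rw [map_inv, map_inv, map_inv, ← e, mul_inv_rev]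
      exact mul_comm ((Units.map (pair01 (A := R[X]) (B := B)).toMonoidHom) θ)⁻¹ _
    exact congrArg Units.val e'
  obtain ⟨M, hM, hMs⟩ := bijective_twist _ h1 h2
  obtain ⟨M', hM', hM's⟩ := bijective_twist _ h1' h2'
  have hdesc : ∀ b : B, q0 (A := R[X]) b = q1 b → ∃ a : R[X], algebraMap R[X] B a = b := fun b hb => by
    obtain ⟨a, ha⟩ := (Amitsur12.exact_zero R[X] B R[X] (b ⊗ₜ[R[X]] (1 : R[X]))).1 (by
      have h := congrArg ((TensorProduct.rid R[X] B).symm.toLinearMap.lTensor B)
        (show b ⊗ₜ[R[X]] (1 : B) = (1 : B) ⊗ₜ[R[X]] b from hb)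
      simp only [LinearMap.lTensor_tmul, LinearEquiv.coe_coe, TensorProduct.rid_symm_apply] at h
      simp [← h])
    refine ⟨a, ?_⟩
    have := congrArg (TensorProduct.rid R[X] B) ha
    simpa [Algebra.smul_def] using this
  have hv' : q0 (A := R[X]) ((v⁻¹ : Bˣ) : B) = q1 ((v⁻¹ : Bˣ) : B) * (θ : B ⊗[R[X]] B) ^ p := by
    have a : q0 (A := R[X]) ((v⁻¹ : Bˣ) : B) * q0 (v : B) = 1 := by rw [← map_mul, Units.inv_mul, map_one]
    have b : q1 (A := R[X]) ((v⁻¹ : Bˣ) : B) * q1 (v : B) = 1 := by rw [← map_mul, Units.inv_mul, map_one]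
    calc q0 (A := R[X]) ((v⁻¹ : Bˣ) : B) = q0 ((v⁻¹ : Bˣ) : B) * (q1 ((v⁻¹ : Bˣ) : B) * q1 (v : B)) := by rw [b, mul_one]
      _ = q1 ((v⁻¹ : Bˣ) : B) * (θ : B ⊗[R[X]] B) ^ p * (q0 ((v⁻¹ : Bˣ) : B) * q0 (v : B)) := by rw [← hv]; ring
      _ = _ := by rw [a, mul_one]
  have hΦ : ∀ m : M, ∃ a : R[X], algebraMap R[X] B a = (m : B) ^ p * ((v⁻¹ : Bˣ) : B) := fun m => hdesc _ (by
    rw [map_mul, map_mul, map_pow, map_pow, hv', ← (hM m).1 m.2, mul_pow]
    ring)
  have hΨ : ∀ m : M', ∃ a : R[X], algebraMap R[X] B a = (m : B) ^ p * (v : B) := fun m => hdesc _ (by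
    have e : q0 (A := R[X]) (m : B) * ((θ⁻¹ : (B ⊗[R[X]] B)ˣ) : B ⊗[R[X]] B) = q1 (m : B) := (hM' m).1 m.2
    rw [map_mul, map_mul, map_pow, map_pow, ← e, ← hv, mul_pow,
      show ∀ a b c d : B ⊗[R[X]] B, a * b * (c * d) = a * c * (b * d) from fun a b c d => by ring, ← mul_pow _ _ p,
      θ.inv_mul, one_pow, mul_one])
  choose Φ hΦ using hΦ
  choose Ψ hΨ using hΨ
  have hβ : ∀ (n : M) (l : M'), ∃ a : R[X], algebraMap R[X] B a = (n : B) * (l : B) := fun n l => hdesc _ (by
    rw [map_mul q1, ← (hM n).1 n.2, ← (hM' l).1 l.2, map_mul, mul_mul_mul_comm, θ.mul_inv, mul_one])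
  choose β hβ using hβ
  have hΦΨ : ∀ (n : M) (l : M'), Φ n * Ψ l = β n l ^ p := fun n l => hinj (by
    rw [map_mul, hΦ, hΨ, map_pow, hβ, mul_pow,
      show ∀ a b c d : B, a * b * (c * d) = a * c * (b * d) from fun a b c d => by ring, Units.inv_mul, mul_one])
  have hrel : ∀ (m n : M) (l : M'), β n l ^ p * Φ m = β m l ^ p * Φ n := fun m n l => by
    rw [← hΦΨ, ← hΦΨ]; ring
  have hspan : ∀ (M₀ : Submodule R[X] B) (Ξ : M₀ → R[X]) (w : Bˣ),
      (∀ m : M₀, algebraMap R[X] B (Ξ m) = (m : B) ^ p * (w : B)) →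
      Function.Surjective (ModDesc12.mult M₀) → Ideal.span (Set.range Ξ) = ⊤ := fun M₀ Ξ w hΞ hs => by
    rw [← Ideal.comap_map_eq_self_of_faithfullyFlat (B := B) (Ideal.span (Set.range Ξ))]
    refine (Ideal.eq_top_iff_one _).2 ?_
    show algebraMap R[X] B 1 ∈ (Ideal.span (Set.range Ξ)).map (algebraMap R[X] B)
    rw [map_one]
    have hI : ∀ z : B ⊗[R[X]] M₀, (ModDesc12.mult M₀ z) ^ p ∈ (Ideal.span (Set.range Ξ)).map (algebraMap R[X] B) := by
      intro z
      induction z using TensorProduct.induction_on with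
      | zero => rw [map_zero, zero_pow hp.out.pos.ne']; exact Ideal.zero_mem _
      | add a b ha hb => rw [map_add, add_pow_char]; exact Ideal.add_mem _ ha hb
      | tmul s m =>
        rw [ModDesc12.mult_tmul, smul_eq_mul, mul_pow]
        refine Ideal.mul_mem_left _ _ ?_
        have e : (m : B) ^ p = algebraMap R[X] B (Ξ m) * ((w⁻¹ : Bˣ) : B) := by
          rw [hΞ, mul_assoc, Units.mul_inv, mul_one]
        rw [e]
        exact Ideal.mul_mem_right _ _ (Ideal.mem_map_of_mem _ (Ideal.subset_span ⟨m, rfl⟩))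
    obtain ⟨z, hz⟩ := hs 1
    simpa [hz] using hI z
  have hone : ∀ {ι : Type u} (Ξ : ι → R[X]), Ideal.span (Set.range Ξ) = ⊤ →
      ∃ c : ι →₀ R[X], c.sum (fun i a => a * Ξ i) = 1 := fun Ξ h => by
    have h1 : (1 : R[X]) ∈ Ideal.span (Set.range Ξ) := h ▸ trivial
    obtain ⟨c, hc⟩ := Finsupp.mem_span_range_iff_exists_finsupp.1 h1
    exact ⟨c, hc⟩
  -- reduce
  let S := R ⧸ nilradical R
  haveI : _root_.IsReduced S := (Ideal.isRadical_iff_quotient_reduced _).1 (Ideal.radical_isRadical _)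
  haveI : Nontrivial R := CharP.nontrivial_of_char_ne_one (R := R) hp.out.ne_one
  haveI : Nontrivial S := Ideal.Quotient.nontrivial_iff.2 (fun h => one_ne_zero
    (by obtain ⟨k, hk⟩ := mem_nilradical.1 (h ▸ trivial : (1 : R) ∈ nilradical R); rwa [one_pow] at hk))
  haveI : CharP S p := (CharP.charP_iff_prime_eq_zero hp.out).2 (by
    rw [← map_natCast (Ideal.Quotient.mk (nilradical R)), CharP.cast_eq_zero, map_zero])
  haveI : _root_.IsReduced S[X] := ⟨fun g hg => Polynomial.ext fun n => by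
    rw [coeff_zero]; exact IsReduced.eq_zero _ (Polynomial.isNilpotent_iff.1 hg n)⟩
  haveI : ExpChar S p := ExpChar.prime hp.out
  haveI : ExpChar S[X] p := ExpChar.prime hp.out
  have hFS : Function.Surjective (frobenius S p) := fun x => by
    obtain ⟨y, rfl⟩ := Ideal.Quotient.mk_surjective x
    obtain ⟨z, rfl⟩ := hF y
    exact ⟨Ideal.Quotient.mk _ z, (RingHom.map_frobenius _ p z).symm⟩
  let π : R[X] →+* S[X] := mapRingHom (Ideal.Quotient.mk (nilradical R))
  let φ : M → S[X] := fun m => π (Φ m)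
  obtain ⟨cΦ, hcΦ⟩ := hone Φ (hspan M Φ v⁻¹ hΦ hMs)
  obtain ⟨cΨ, hcΨ⟩ := hone Ψ (hspan M' Ψ v hΨ hM's)
  have hDp : ∀ x : S[X], derivative (x ^ p) = 0 := fun x => by
    rw [derivative_pow, CharP.cast_eq_zero S p, map_zero, zero_mul, zero_mul]
  have hW : ∀ m n : M, derivative (φ m) * φ n = φ m * derivative (φ n) := fun m n => by
    set W := derivative (φ m) * φ n - φ m * derivative (φ n) with hWdef
    have hβW : ∀ l, π (β n l) ^ p * W = 0 := fun l => by
      have e := congrArg π (hrel m n l)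
      rw [map_mul, map_mul, map_pow, map_pow] at e
      have e' := congrArg derivative e
      rw [derivative_mul, derivative_mul, hDp, hDp, zero_mul, zero_mul, zero_add, zero_add] at e'
      rw [hWdef]
      show π (β n l) ^ p * (derivative (π (Φ m)) * π (Φ n) - π (Φ m) * derivative (π (Φ n))) = 0
      linear_combination π (Φ n) * e' - derivative (π (Φ n)) * e
    have hn0 : φ n * W = 0 := by
      have e : φ n * W = ∑ l ∈ cΨ.support, π (cΨ l) * (π (β n l) ^ p * W) := by
        calc φ n * W = π (Φ n) * π (cΨ.sum fun i a => a * Ψ i) * W := by rw [hcΨ, map_one, mul_one]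
          _ = _ := by
            rw [Finsupp.sum, map_sum, Finset.mul_sum, Finset.sum_mul]
            refine Finset.sum_congr rfl fun l _ => ?_
            rw [map_mul, ← map_pow, ← hΦΨ, map_mul]
            ring
      rw [e]
      exact Finset.sum_eq_zero fun l _ => by rw [hβW, mul_zero]
    have hm0 : φ m * W = 0 := by
      have hβW' : ∀ l, π (β m l) ^ p * W = 0 := fun l => by
        have e := congrArg π (hrel m n l)
        rw [map_mul, map_mul, map_pow, map_pow] at e
        have e' := congrArg derivative e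
        rw [derivative_mul, derivative_mul, hDp, hDp, zero_mul, zero_mul, zero_add, zero_add] at e'
        rw [hWdef]
        show π (β m l) ^ p * (derivative (π (Φ m)) * π (Φ n) - π (Φ m) * derivative (π (Φ n))) = 0
        linear_combination π (Φ m) * e' - derivative (π (Φ m)) * e
      have e : φ m * W = ∑ l ∈ cΨ.support, π (cΨ l) * (π (β m l) ^ p * W) := by
        calc φ m * W = π (Φ m) * π (cΨ.sum fun i a => a * Ψ i) * W := by rw [hcΨ, map_one, mul_one]
          _ = _ := by
            rw [Finsupp.sum, map_sum, Finset.mul_sum, Finset.sum_mul]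
            refine Finset.sum_congr rfl fun l _ => ?_
            rw [map_mul, ← map_pow, ← hΦΨ, map_mul]
            ring
      rw [e]
      exact Finset.sum_eq_zero fun l _ => by rw [hβW', mul_zero]
    have hsq : W ^ 2 = 0 := by
      calc W ^ 2 = derivative (φ m) * (φ n * W) - derivative (φ n) * (φ m * W) := by rw [hWdef]; ring
        _ = 0 := by rw [hn0, hm0, mul_zero, mul_zero, sub_zero]
    exact sub_eq_zero.1 (IsReduced.eq_zero W ⟨2, hsq⟩)
  have hpow : ∀ m : M, ∃ c : S[X], c ^ p = φ m := fun m => exists_pow_eq_of_derivative hFS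
    (derivative_eq_zero_of_semilinear φ hW ⟨cΦ.support, fun i => π (cΦ i), by
      rw [← map_one π, ← hcΦ, Finsupp.sum, map_sum]
      exact Finset.sum_congr rfl fun i _ => by rw [map_mul]⟩ m)
  choose ψ hψ using hpow
  have hΦadd : ∀ a b : M, Φ (a + b) = Φ a + Φ b := fun a b => hinj (by
    rw [map_add, hΦ, hΦ, hΦ, Submodule.coe_add, add_pow_char, add_mul])
  have hΦsmul : ∀ (c : R[X]) (a : M), Φ (c • a) = c ^ p * Φ a := fun c a => hinj (by
    rw [map_mul, map_pow, hΦ, hΦ, Submodule.coe_smul, Algebra.smul_def, mul_pow, mul_assoc])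
  let Φh : M →+ R[X] := AddMonoidHom.mk' Φ hΦadd
  -- a combination mapping to one
  obtain ⟨c₀, hc₀⟩ : ∃ c : M →₀ S[X], c.sum (fun i a => a * ψ i) = 1 := by
    have h1 : Ideal.span (Set.range ψ) = ⊤ := by
      refine (Ideal.eq_top_iff_one _).2 ?_
      rw [← map_one π, ← hcΦ, Finsupp.sum, map_sum]
      refine Submodule.sum_mem _ fun i _ => ?_
      rw [map_mul]
      show π (cΦ i) * φ i ∈ _
      rw [← hψ i, ← Nat.sub_add_cancel hp.out.one_le, pow_succ]
      exact Ideal.mul_mem_left _ _ (Ideal.mul_mem_left _ _ (Ideal.subset_span ⟨i, rfl⟩))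
    obtain ⟨c, hc⟩ := Finsupp.mem_span_range_iff_exists_finsupp.1 (show (1 : S[X]) ∈ Ideal.span (Set.range ψ) from h1 ▸ trivial)
    exact ⟨c, hc⟩
  have hπs : Function.Surjective π := map_surjective _ Ideal.Quotient.mk_surjective
  let m₀ : M := ∑ i ∈ c₀.support, Function.surjInv hπs (c₀ i) • i
  have hm₀ : π (Φ m₀) = 1 := by
    show π (Φh m₀) = 1
    rw [map_sum, map_sum]
    calc ∑ i ∈ c₀.support, π (Φh (Function.surjInv hπs (c₀ i) • i))
        = ∑ i ∈ c₀.support, (c₀ i * ψ i) ^ p := Finset.sum_congr rfl fun i _ => by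
          show π (Φ _) = _
          rw [hΦsmul, map_mul, map_pow, Function.surjInv_eq hπs, mul_pow, hψ]
      _ = (c₀.sum fun i a => a * ψ i) ^ p := (sum_pow_char p _ _).symm
      _ = 1 := by rw [hc₀, one_pow]
  have hu : IsUnit (Φ m₀) := by
    rw [isUnit_iff_coeff_isUnit_isNilpotent]
    have hc : ∀ n, Ideal.Quotient.mk (nilradical R) ((Φ m₀).coeff n) = (1 : S[X]).coeff n := fun n => by
      rw [← coeff_map]; exact congrArg (fun g : S[X] => g.coeff n) hm₀
    refine ⟨?_, fun i hi => ?_⟩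
    · have h := Ideal.Quotient.eq.1 ((hc 0).trans (coeff_one_zero.trans (map_one _).symm))
      have := (mem_nilradical.1 h).isUnit_add_left_of_commute isUnit_one (Commute.all _ _)
      rwa [add_sub_cancel] at this
    · exact mem_nilradical.1 (Ideal.Quotient.eq_zero_iff_mem.1 ((hc i).trans (coeff_one.trans (if_neg hi))))
  have hmu : IsUnit (m₀ : B) := by
    have e : (m₀ : B) ^ p = algebraMap R[X] B (Φ m₀) * (v : B) := by
      rw [hΦ, mul_assoc, Units.inv_mul, mul_one]
    exact (isUnit_pow_iff hp.out.pos.ne').1 (e ▸ (hu.map _).mul v.isUnit)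
  exact ⟨hmu.unit, (hM m₀).1 m₀.2⟩

end Groth.Agent.GaExt23
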